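import Cfsg.Agent.H425.PartP

/-!
# The primitive primes dividing the order of a group of Lie type (helper425)

* `K g d` (for `3 ≤ d`): the primes `w` with `q` of order `d` modulo `w` divide the order of the group with name `g`
  over the field of `q` elements, an explicit condition on `d`;
* `dvd_iff` : for `Prim q d w`, `3 ≤ d`, `den g * c = num g`: `w ∣ c ↔ K g d`.
-/

set_option autoImplicit false

namespace Cfsg.Agent.H425.Chr

open Cfsg Cfsg.Agent.OrdDiv Cfsg.Agent.H436 Cfsg.Agent.H425.PartP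

/-- the field parameter of a name (`0` for the alternating and the sporadic groups) -/
def qOf : Grp → ℕ
  | .psl _ q => q
  | .psp _ q => q
  | .psu _ q => q
  | .oodd _ q => q
  | .oplus _ q => q
  | .ominus _ q => q
  | .g2 q => q
  | .f4 q => q
  | .e6 q => q
  | .e7 q => q
  | .e8 q => q
  | .te6 q => q
  | .td4 q => q
  | .sz q => q
  | .ree q => q
  | .tf4 q => q
  | _ => 0

/-- the classes `d ≥ 3` of the primes of the order -/
def K : Grp → ℕ → Prop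
  | .psl n _, d => d ≤ n
  | .psp m _, d => ∃ k, 1 ≤ k ∧ k ≤ m ∧ d ∣ 2 * k
  | .oodd m _, d => ∃ k, 1 ≤ k ∧ k ≤ m ∧ d ∣ 2 * k
  | .psu n _, d => ∃ k, 1 ≤ k ∧ k ≤ n ∧ ((k % 2 = 1 ∧ d ∣ 2 * k ∧ ¬ d ∣ k) ∨ (k % 2 = 0 ∧ d ∣ k))
  | .oplus m _, d => d ∣ m ∨ ∃ k, 1 ≤ k ∧ k ≤ m - 1 ∧ d ∣ 2 * k
  | .ominus m _, d => (d ∣ 2 * m ∧ ¬ d ∣ m) ∨ ∃ k, 1 ≤ k ∧ k ≤ m - 1 ∧ d ∣ 2 * k
  | .g2 _, d => d ∣ 2 ∨ d ∣ 6
  | .f4 _, d => d ∣ 2 ∨ d ∣ 6 ∨ d ∣ 8 ∨ d ∣ 12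
  | .e6 _, d => d ∣ 2 ∨ d ∣ 5 ∨ d ∣ 6 ∨ d ∣ 8 ∨ d ∣ 9 ∨ d ∣ 12
  | .e7 _, d => d ∣ 2 ∨ d ∣ 6 ∨ d ∣ 8 ∨ d ∣ 10 ∨ d ∣ 12 ∨ d ∣ 14 ∨ d ∣ 18
  | .e8 _, d => d ∣ 2 ∨ d ∣ 8 ∨ d ∣ 12 ∨ d ∣ 14 ∨ d ∣ 18 ∨ d ∣ 20 ∨ d ∣ 24 ∨ d ∣ 30
  | .te6 _, d => d ∣ 2 ∨ (d ∣ 2 * 5 ∧ ¬ d ∣ 5) ∨ d ∣ 6 ∨ d ∣ 8 ∨ (d ∣ 2 * 9 ∧ ¬ d ∣ 9) ∨ d ∣ 12
  | .td4 _, d => d ∣ 2 ∨ d ∣ 6 ∨ (d ∣ 12 ∧ ¬ d ∣ 4)
  | .sz _, d => d ∣ 1 ∨ (d ∣ 2 * 2 ∧ ¬ d ∣ 2)
  | .ree _, d => d ∣ 1 ∨ (d ∣ 2 * 3 ∧ ¬ d ∣ 3)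
  | .tf4 _, d => d ∣ 1 ∨ (d ∣ 2 * 3 ∧ ¬ d ∣ 3) ∨ d ∣ 4 ∨ (d ∣ 2 * 6 ∧ ¬ d ∣ 6)
  | _, _ => False

section

variable {q d w c : ℕ}

theorem add_iff (hw : Prim q d w) (hd : 3 ≤ d) (a : ℕ) : w ∣ q ^ a + 1 ↔ d ∣ 2 * a ∧ ¬ d ∣ a := by
  constructor
  · intro h
    refine ⟨?_, ?_⟩
    · by_contra hn
      exact hw.not_dvd_add hn h
    · intro h1
      have h2 := hw.dvd h1
      rcases Nat.eq_zero_or_pos q with rfl | hq
      · exact hw.not_dvd (dvd_zero _)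
      · have h3 : 1 ≤ q ^ a := Nat.one_le_pow _ _ hq
        have h4 : w ∣ 2 := by
          have := Nat.dvd_sub h h2
          rwa [show q ^ a + 1 - (q ^ a - 1) = 2 by omega] at this
        exact hw.not_dvd_two hd h4
  · rintro ⟨h1, h2⟩
    exact hw.dvd_add h1 h2

theorem td4_iff (hw : Prim q d w) (hd : 3 ≤ d) (hq : 2 ≤ q) : w ∣ q ^ 8 + q ^ 4 + 1 ↔ d ∣ 12 ∧ ¬ d ∣ 4 := by
  have h2 : q ^ 12 - 1 = (q ^ 4 - 1) * (q ^ 8 + q ^ 4 + 1) := by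
    obtain ⟨k, hk⟩ : ∃ k, q ^ 4 = k + 1 := ⟨q ^ 4 - 1, by have := Nat.one_le_pow 4 q (by omega); omega⟩
    have h3 : q ^ 12 = (q ^ 4) ^ 3 := by ring
    have h5 : q ^ 8 = (q ^ 4) ^ 2 := by ring
    rw [h3, h5, hk, Nat.add_sub_cancel]
    have : (k + 1) ^ 3 = k * ((k + 1) ^ 2 + (k + 1) + 1) + 1 := by ring
    rw [this, Nat.add_sub_cancel]
  constructor
  · intro h
    refine ⟨(hw.dvd_iff 12).1 (h2 ▸ h.mul_left _), fun h1 => ?_⟩
    have h3 := hw.dvd h1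
    obtain ⟨k, hk⟩ : ∃ k, q ^ 4 = k + 1 := ⟨q ^ 4 - 1, by have := Nat.one_le_pow 4 q (by omega); omega⟩
    have h5 : q ^ 8 = (q ^ 4) ^ 2 := by ring
    rw [h5, hk] at h
    rw [hk, Nat.add_sub_cancel] at h3
    have h6 : (k + 1) ^ 2 + (k + 1) + 1 = k * (k + 3) + 3 := by ring
    rw [h6] at h
    have h7 : w ∣ 3 := (Nat.dvd_add_right (h3.mul_right _)).1 h
    have h8 := (Nat.prime_dvd_prime_iff_eq hw.prime Nat.prime_three).1 h7
    subst h8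
    -- `q` has order at most two modulo three
    have h9 : 3 ∣ q ^ 2 - 1 := by
      have h10 : q % 3 = 0 ∨ q % 3 = 1 ∨ q % 3 = 2 := by omega
      rcases h10 with h10 | h10 | h10
      · exact absurd (Nat.dvd_of_mod_eq_zero h10) hw.not_dvd
      · obtain ⟨j, rfl⟩ : ∃ j, q = 3 * j + 1 := ⟨q / 3, by omega⟩
        exact ⟨3 * j ^ 2 + 2 * j, by rw [show (3 * j + 1) ^ 2 = 3 * (3 * j ^ 2 + 2 * j) + 1 by ring, Nat.add_sub_cancel]⟩
      · obtain ⟨j, rfl⟩ : ∃ j, q = 3 * j + 2 := ⟨q / 3, by omega⟩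
        exact ⟨3 * j ^ 2 + 4 * j + 1, by
          rw [show (3 * j + 2) ^ 2 = 3 * (3 * j ^ 2 + 4 * j + 1) + 1 by ring, Nat.add_sub_cancel]⟩
    have := Nat.le_of_dvd two_pos ((hw.dvd_iff 2).1 h9)
    omega
  · rintro ⟨h1, h3⟩
    have h4 := hw.dvd h1
    rw [h2] at h4
    exact (hw.prime.dvd_mul.1 h4).resolve_left (hw.not_dvd_sub h3)

theorem dvd_prB_iff (hw : Prim q d w) (m : ℕ) : w ∣ prB q m ↔ ∃ k, 1 ≤ k ∧ k ≤ m ∧ d ∣ 2 * k := by
  unfold prB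
  rw [prod_list, hw.prime.prime.dvd_finsetProd_iff]
  constructor
  · rintro ⟨i, hi, h⟩
    rw [Finset.mem_range] at hi
    exact ⟨i + 1, by omega, by omega, (hw.dvd_iff _).1 h⟩
  · rintro ⟨k, hk, hkm, h⟩
    refine ⟨k - 1, Finset.mem_range.2 (by omega), ?_⟩
    rw [Nat.sub_add_cancel hk]
    exact hw.dvd h

theorem dvd_prU_iff (hw : Prim q d w) (hd : 3 ≤ d) (n : ℕ) : w ∣ prU q n ↔
    ∃ k, 1 ≤ k ∧ k ≤ n ∧ ((k % 2 = 1 ∧ d ∣ 2 * k ∧ ¬ d ∣ k) ∨ (k % 2 = 0 ∧ d ∣ k)) := by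
  unfold prU
  rw [prod_list, hw.prime.prime.dvd_finsetProd_iff]
  constructor
  · rintro ⟨i, hi, h⟩
    rw [Finset.mem_range] at hi
    refine ⟨i + 1, by omega, by omega, ?_⟩
    split_ifs at h with hp
    · rw [Nat.beq_eq] at hp
      exact Or.inl ⟨by omega, (add_iff hw hd _).1 h⟩
    · rw [Nat.beq_eq] at hp
      exact Or.inr ⟨by omega, (hw.dvd_iff _).1 h⟩
  · rintro ⟨k, hk, hkm, h⟩
    refine ⟨k - 1, Finset.mem_range.2 (by omega), ?_⟩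
    rcases h with ⟨h1, h2⟩ | ⟨h1, h2⟩
    · rw [if_pos (by rw [Nat.beq_eq]; omega), Nat.sub_add_cancel hk]
      exact (add_iff hw hd _).2 h2
    · rw [if_neg (by rw [Nat.beq_eq]; omega), Nat.sub_add_cancel hk]
      exact hw.dvd h2

theorem dvd_glN_iff (hw : Prim q d w) (hd : 1 ≤ d) (n : ℕ) : w ∣ glN n q ↔ d ≤ n := by
  unfold glN
  rw [prod_list, hw.prime.prime.dvd_finsetProd_iff]
  constructor
  · rintro ⟨i, hi, h⟩
    rw [Finset.mem_range] at hi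
    rw [pow_sub_pow q (show n = i + (n - i) by omega)] at h
    rcases hw.prime.dvd_mul.1 h with h1 | h1
    · exact absurd h1 (hw.not_dvd_pow _)
    · have := Nat.le_of_dvd (by omega) ((hw.dvd_iff _).1 h1)
      omega
  · intro h
    refine ⟨n - d, Finset.mem_range.2 (by omega), ?_⟩
    rw [pow_sub_pow q (show n = (n - d) + d by omega)]
    exact (hw.dvd dvd_rfl).mul_left _

theorem one_iff (hw : Prim q d w) : w ∣ q - 1 ↔ d ∣ 1 := by
  have := hw.dvd_iff 1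
  rwa [pow_one] at this

theorem c_iff {D N : ℕ} (hw : Prim q d w) (h : D * c = N) (hD : ¬ w ∣ D) : w ∣ c ↔ w ∣ N := by
  rw [← h, hw.prime.dvd_mul]
  exact ⟨Or.inr, fun h => h.resolve_left hD⟩

theorem not_dvd_one (hw : Prim q d w) : ¬ w ∣ 1 := fun h => hw.prime.one_lt.ne' (Nat.dvd_one.1 h)

/-- **The primitive primes of the order.** -/
theorem dvd_iff (hq : 2 ≤ q) (hd : 3 ≤ d) (hw : Prim q d w) {g : Grp} (hg : qOf g = q) (h : den g * c = num g) :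
    w ∣ c ↔ K g d := by
  have hp := hw.prime
  have hnp : ∀ k, ¬ w ∣ q ^ k := hw.not_dvd_pow
  have aux : ∀ {a X : ℕ} {P : Prop}, (w ∣ X ↔ P) → (w ∣ q ^ a * X ↔ P) := fun {a X P} hX => by
    rw [hp.dvd_mul]
    exact ⟨fun h => hX.1 (h.resolve_left (hnp a)), fun h => Or.inr (hX.2 h)⟩
  have hm := hw.dvd_iff
  have ha := add_iff hw hd
  cases g with
  | psl n q' =>
    obtain rfl : q' = q := hg
    rw [c_iff hw h ?_]
    · exact dvd_glN_iff hw (by omega) n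
    · change ¬ w ∣ Nat.gcd n (q' - 1) * (q' - 1)
      rw [hp.dvd_mul]
      rintro (h1 | h1)
      · exact hw.not_dvd_gcd_sub hd h1
      · exact hw.not_dvd_qsub hd h1
  | psp m q' =>
    obtain rfl : q' = q := hg
    rw [c_iff hw h (hw.not_dvd_gcd_sub hd)]
    exact aux (dvd_prB_iff hw m)
  | psu n q' =>
    obtain rfl : q' = q := hg
    rw [c_iff hw h ?_]
    · exact aux (dvd_prU_iff hw hd n)
    · change ¬ w ∣ Nat.gcd n (q' + 1) * (q' + 1)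
      rw [hp.dvd_mul]
      rintro (h1 | h1)
      · exact hw.not_dvd_gcd_add hd h1
      · exact hw.not_dvd_qadd hd h1
  | oodd m q' =>
    obtain rfl : q' = q := hg
    rw [c_iff hw h (hw.not_dvd_two hd)]
    exact aux (dvd_prB_iff hw m)
  | oplus m q' =>
    obtain rfl : q' = q := hg
    rw [c_iff hw h (hw.not_dvd_gcd_four hd)]
    refine aux ?_
    rw [hp.dvd_mul, hm, dvd_prB_iff hw]
    rfl
  | ominus m q' =>
    obtain rfl : q' = q := hg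
    rw [c_iff hw h (hw.not_dvd_gcd_four hd)]
    refine aux ?_
    rw [hp.dvd_mul, ha, dvd_prB_iff hw]
    rfl
  | g2 q' =>
    obtain rfl : q' = q := hg
    rw [c_iff hw h (not_dvd_one hw)]
    refine aux ?_
    simp only [hp.dvd_mul, hm, K]
  | f4 q' =>
    obtain rfl : q' = q := hg
    rw [c_iff hw h (not_dvd_one hw)]
    refine aux ?_
    simp only [hp.dvd_mul, hm, K, or_assoc]
  | e6 q' =>
    obtain rfl : q' = q := hg
    rw [c_iff hw h (hw.not_dvd_gcd_sub hd)]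
    refine aux ?_
    simp only [hp.dvd_mul, hm, K, or_assoc]
  | e7 q' =>
    obtain rfl : q' = q := hg
    rw [c_iff hw h (hw.not_dvd_gcd_sub hd)]
    refine aux ?_
    simp only [hp.dvd_mul, hm, K, or_assoc]
  | e8 q' =>
    obtain rfl : q' = q := hg
    rw [c_iff hw h (not_dvd_one hw)]
    refine aux ?_
    simp only [hp.dvd_mul, hm, K, or_assoc]
  | te6 q' =>
    obtain rfl : q' = q := hg
    rw [c_iff hw h (hw.not_dvd_gcd_add hd)]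
    refine aux ?_
    simp only [hp.dvd_mul, hm, ha, K, or_assoc]
  | td4 q' =>
    obtain rfl : q' = q := hg
    rw [c_iff hw h (not_dvd_one hw)]
    refine aux ?_
    simp only [hp.dvd_mul, hm, td4_iff hw hd hq, K, or_assoc]
  | sz q' =>
    obtain rfl : q' = q := hg
    rw [c_iff hw h (not_dvd_one hw)]
    refine aux ?_
    simp only [hp.dvd_mul, one_iff hw, ha, K]
  | ree q' =>
    obtain rfl : q' = q := hg
    rw [c_iff hw h (not_dvd_one hw)]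
    refine aux ?_
    simp only [hp.dvd_mul, one_iff hw, ha, K]
  | tf4 q' =>
    obtain rfl : q' = q := hg
    rw [c_iff hw h (not_dvd_one hw)]
    refine aux ?_
    simp only [hp.dvd_mul, one_iff hw, ha, hm, K, or_assoc]
  | _ => exfalso; change 0 = q at hg; omega

end

/-- the class `e` (over the prime field) occurs in `c` -/
def In (p c e : ℕ) : Prop := ∃ w, Prim p e w ∧ w ∣ c

/-- a primitive prime of `p ^ e - 1` has class `e / gcd(e, f)` over `p ^ f` -/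
theorem prim_quot {p e f w : ℕ} (hf : f ≠ 0) (h : Prim p e w) : Prim (p ^ f) (e / Nat.gcd e f) w := by
  refine ⟨h.prime, fun m => ?_, fun hd => h.not_dvd (h.prime.dvd_of_dvd_pow hd)⟩
  rw [← pow_mul, h.dvd_iff]
  have hg : 0 < Nat.gcd e f := Nat.gcd_pos_of_pos_right _ (Nat.pos_of_ne_zero hf)
  obtain ⟨a, b, hab, ha, hb⟩ := Nat.exists_coprime e f
  have h1 : e / Nat.gcd e f = a := Nat.div_eq_of_eq_mul_left hg ha
  rw [h1]
  clear h1
  generalize Nat.gcd e f = G at ha hb hg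
  rw [ha, hb, mul_right_comm, Nat.mul_dvd_mul_iff_right hg]
  exact ⟨fun h => hab.dvd_of_dvd_mul_left h, fun h => h.mul_left _⟩

theorem In.ne_zero {p c e : ℕ} (hp : 2 ≤ p) (h : In p c e) : e ≠ 0 := by
  rintro rfl
  obtain ⟨w, hw, -⟩ := h
  have h1 := (hw.dvd_iff (w - 1)).1 (by
    have := Fact.mk hw.prime
    have h2 : ((p : ℕ) : ZMod w) ≠ 0 := by
      rw [Ne, ZMod.natCast_eq_zero_iff]
      exact hw.not_dvd
    have h3 := ZMod.pow_card_sub_one_eq_one h2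
    rw [← Nat.cast_pow] at h3
    have h4 : 1 ≤ p ^ (w - 1) := Nat.one_le_pow _ _ (by omega)
    rw [← ZMod.natCast_eq_zero_iff, Nat.cast_sub h4, h3, Nat.cast_one, sub_self])
  have := Nat.eq_zero_of_zero_dvd h1
  have := hw.prime.two_le
  omega

variable {p c f : ℕ}

/-- everything about a name over a field of characteristic `p` -/
structure Dat (p f c : ℕ) (g : Grp) : Prop where
  hp : p.Prime
  hp2 : p ≠ 2
  hf : f ≠ 0
  hc : c ≠ 0
  cond : Cond g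
  hq : qOf g = p ^ f
  eq : den g * c = num g

variable {g : Grp}

theorem Dat.two_le (H : Dat p f c g) : 2 ≤ p ^ f :=
  H.hp.two_le.trans (Nat.le_self_pow H.hf p)

/-- the classes over `p` and over `p ^ f` -/
theorem Dat.in_iff (H : Dat p f c g) {e : ℕ} (he : 3 ≤ e / Nat.gcd e f) : In p c e ↔ K g (e / Nat.gcd e f) := by
  have he' : 3 ≤ e := he.trans (Nat.div_le_self _ _)
  constructor
  · rintro ⟨w, hw, hwc⟩
    exact (dvd_iff H.two_le he (prim_quot H.hf hw) H.hq H.eq).1 hwc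
  · intro h
    obtain ⟨w, hw⟩ := exists_prim H.hp.two_le he' (fun h => H.hp2 h.1)
    exact ⟨w, hw, (dvd_iff H.two_le he (prim_quot H.hf hw) H.hq H.eq).2 h⟩

theorem Dat.in_mul (H : Dat p f c g) {d : ℕ} (hd : 3 ≤ d) (h : K g d) : In p c (f * d) := by
  have h1 : f * d / Nat.gcd (f * d) f = d := by
    rw [Nat.gcd_eq_right (Dvd.intro _ rfl)]
    exact Nat.mul_div_cancel_left _ (Nat.pos_of_ne_zero H.hf)
  exact (H.in_iff (by rwa [h1])).2 (by rwa [h1])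

/-- `e` occurs and `e` does not divide `2 f`: then `lcm(e, f)` occurs -/
theorem Dat.in_lcm (H : Dat p f c g) {e : ℕ} (he : 3 ≤ e / Nat.gcd e f) (h : In p c e) : In p c (Nat.lcm e f) := by
  have h1 := H.in_mul he ((H.in_iff he).1 h)
  have h2 : f * (e / Nat.gcd e f) = Nat.lcm e f := by
    rw [Nat.lcm, mul_comm e f, Nat.mul_div_assoc _ (Nat.gcd_dvd_left _ _)]
  rwa [h2] at h1

/-- the prime field -/
theorem Dat.in_one (H : Dat p 1 c g) {e : ℕ} (he : 3 ≤ e) : In p c e ↔ K g e := by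
  have := H.in_iff (e := e)
  rw [Nat.gcd_one_right, Nat.div_one] at this
  exact this he

end Cfsg.Agent.H425.Chr
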