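import Cfsg.Agent.H390.FactsOrth
import Cfsg.Agent.H377.Types
import Cfsg.Agent.H425.ChrAd2
import Cfsg.Agent.S0289
import Cfsg.Agent.S0290

/-!
# Non-adjacency in `PΩ⁻_{2n}(q)` : the boundary case (helper425)

`minus_bd` : `q` odd, `v`, `w` primitive primes of the even classes `2 a < 2 b`, `a + b = n`, `b / a` not odd:
`PΩ⁻_{2n}(q)` has no element of order `v w`.
-/

set_option autoImplicit false

namespace Cfsg.Agent.H425.MinusBd

open Module QuadraticMap
open Cfsg.Agent.OrdDiv Cfsg.Agent.H436 Cfsg.Agent.LieClassical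
open Cfsg.Agent.LieClassical.OrthCore Cfsg.Agent.H403.Classify Cfsg.Agent.H377

/-- fixed points of a map of prime order -/
theorem fix_modEq {α : Type*} [Finite α] (f : α → α) {w : ℕ} (hw : w.Prime) (hf : f^[w] = id) :
    (Nat.card α : ℤ) ≡ Nat.card {a : α // f a = a} [ZMOD w] := by
  classical
  have := Fact.mk hw
  have := Fintype.ofFinite α
  let f' : Function.End α := f
  have h1 : f' ^ w ^ 1 = 1 := by
    rw [pow_one]
    funext x
    have h2 : ∀ (n : ℕ) (x : α), (f' ^ n) x = f^[n] x := by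
      intro n
      induction n with
      | zero => intro x; rfl
      | succ n ih =>
        intro x
        rw [pow_succ, Function.iterate_succ_apply, ← ih]
        rfl
    rw [h2, hf]
    rfl
  have h2 := Equiv.Perm.card_fixedPoints_modEq (p := w) (n := 1) h1
  rw [Nat.card_eq_fintype_card, Nat.card_eq_fintype_card]
  have h3 : Fintype.card {a : α // f a = a} = Fintype.card (Function.fixedPoints f') :=
    Fintype.card_congr (Equiv.refl _)
  rw [h3]
  exact_mod_cast h2

variable {F V : Type*} [Field F] [Finite F] [AddCommGroup V] [Module F V] [FiniteDimensional F V]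

/-- an invariant subspace without fixed points -/
theorem dim_dvd {z : Module.End F V} {w : ℕ} (hw : w.Prime) (hz : z ^ w = 1) (W : Submodule F V)
    (hW : ∀ x ∈ W, z x ∈ W) (hf : ∀ x ∈ W, z x = x → x = 0) : w ∣ Nat.card F ^ finrank F W - 1 := by
  have : Finite V := Module.finite_of_finite F
  let f : W → W := fun x => ⟨z x, hW x x.2⟩
  have hf1 : f^[w] = id := by
    funext x
    have h1 : ∀ n : ℕ, ((f^[n] x : W) : V) = (z ^ n) x := by
      intro n
      induction n with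
      | zero => rfl
      | succ n ih =>
        rw [Function.iterate_succ_apply', pow_succ', Module.End.mul_apply, ← ih]
    apply Subtype.ext
    rw [h1, hz]
    rfl
  have h2 := fix_modEq f hw hf1
  have h3 : Nat.card {a : W // f a = a} = 1 := by
    rw [Nat.card_eq_one_iff_unique]
    refine ⟨⟨fun a b => ?_⟩, ⟨⟨0, Subtype.ext (by change z 0 = 0; rw [map_zero])⟩⟩⟩
    have key : ∀ a : {a : W // f a = a}, (a : W) = 0 := fun a =>
      Subtype.ext (hf _ a.1.2 (congrArg Subtype.val a.2))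
    exact Subtype.ext ((key a).trans (key b).symm)
  rw [h3, Module.natCard_eq_pow_finrank (K := F) (V := W)] at h2
  have h4 : 1 ≤ Nat.card F ^ finrank F W := Nat.one_le_pow _ _ Nat.card_pos
  have h5 := (Int.modEq_iff_dvd.1 h2.symm)
  have h6 : ((Nat.card F ^ finrank F W : ℕ) : ℤ) - ((1 : ℕ) : ℤ) = ((Nat.card F ^ finrank F W - 1 : ℕ) : ℤ) := by
    rw [Nat.cast_sub h4]
  rw [h6] at h5
  exact_mod_cast h5

omit [Finite F] [FiniteDimensional F V] in
theorem range_fix {z : Module.End F V} {w : ℕ} (hwF : (w : F) ≠ 0) (hz : z ^ w = 1) :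
    ∀ x ∈ LinearMap.range (z - 1), z x = x → x = 0 := by
  rintro _ ⟨v, rfl⟩ h
  set y := (z - 1) v with hy
  have h1 : ∀ i : ℕ, (z ^ i) v = v + (i : F) • y := by
    intro i
    induction i with
    | zero => simp
    | succ i ih =>
      have h2 : z v = v + y := by
        rw [hy, LinearMap.sub_apply, Module.End.one_apply]
        abel
      rw [pow_succ', Module.End.mul_apply, ih, map_add, map_smul, h2, h]
      push_cast
      rw [add_smul, one_smul]
      abel
  have h2 := h1 w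
  rw [hz, Module.End.one_apply] at h2
  have h4 : (w : F) • y = 0 := by
    have := h2.symm
    rwa [add_eq_left] at this
  exact (smul_eq_zero.1 h4).resolve_left hwF

omit [Finite F] [FiniteDimensional F V] in
theorem mem_ker_sub {z : Module.End F V} {x : V} : x ∈ LinearMap.ker (z - 1) ↔ z x = x := by
  rw [LinearMap.mem_ker, LinearMap.sub_apply, Module.End.one_apply, sub_eq_zero]

omit [Finite F] [FiniteDimensional F V] in
/-- the fixed space is nondegenerate -/
theorem nondeg_fix {Q : QuadraticForm F V} (hQ : Nondeg Q) {z : Module.End F V} (hzQ : ∀ v, Q (z v) = Q v) {w : ℕ}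
    (hwF : (w : F) ≠ 0) (hz : z ^ w = 1) : Nondeg (Q.comp (LinearMap.ker (z - 1)).subtype) := by
  intro x hx
  have hpol : ∀ u v : V, polar Q (z u) (z v) = polar Q u v := fun u v => by
    rw [polar, polar, ← map_add, hzQ, hzQ, hzQ]
  have hpol' : ∀ (i : ℕ) (u v : V), polar Q ((z ^ i) u) ((z ^ i) v) = polar Q u v := fun i => by
    induction i with
    | zero => intro u v; rfl
    | succ i ih =>
      intro u v
      rw [pow_succ', Module.End.mul_apply, Module.End.mul_apply, hpol, ih]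
  have hfx : ∀ i : ℕ, (z ^ i) (x : V) = x := fun i => by
    induction i with
    | zero => rfl
    | succ i ih =>
      rw [pow_succ', Module.End.mul_apply, ih]
      exact mem_ker_sub.1 x.2
  apply Subtype.ext
  apply hQ (x : V)
  intro y
  set s : V := ∑ i ∈ Finset.range w, (z ^ i) y with hs
  have hsU : s ∈ LinearMap.ker (z - 1) := by
    rw [mem_ker_sub, hs, map_sum]
    have h1 : ∀ i, z ((z ^ i) y) = (z ^ (i + 1)) y := fun i => by rw [pow_succ', Module.End.mul_apply]
    rw [Finset.sum_congr rfl fun i _ => h1 i]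
    have h2 := Finset.sum_range_succ' (fun i => (z ^ i) y) w
    rw [Finset.sum_range_succ] at h2
    rw [hz, pow_zero] at h2
    exact (add_right_cancel h2).symm
  have h3 : polar Q (x : V) s = (w : F) * polar Q (x : V) y := by
    have h4 : polar Q (x : V) s = ∑ i ∈ Finset.range w, polar Q (x : V) ((z ^ i) y) := by
      rw [hs]
      exact map_sum (polarBilin Q (x : V)) _ _
    have h6 : ∀ i : ℕ, polar Q (x : V) ((z ^ i) y) = polar Q (x : V) y := fun i => by
      have h5 := hpol' i (x : V) y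
      rw [hfx i] at h5
      exact h5
    rw [h4, Finset.sum_congr rfl (fun i _ => h6 i), Finset.sum_const, Finset.card_range, nsmul_eq_mul]
  have h4 := hx ⟨s, hsU⟩
  have h5 : polar Q (x : V) s = 0 := by
    have h6 : polar (Q.comp (LinearMap.ker (z - 1)).subtype) x ⟨s, hsU⟩ = polar Q (x : V) s := rfl
    rw [← h6]
    exact h4
  rw [h3] at h5
  exact (mul_eq_zero.1 h5).resolve_left hwF

/-- the number of singular vectors -/
def Cnt (Q : V → F) (m : ℕ) (ε : ℤ) : Prop :=
  (Nat.card F : ℤ) * Nat.card {v : V // Q v = 0} = (Nat.card F : ℤ) ^ (2 * m) + ε * (Nat.card F : ℤ) ^ m * (Nat.card F - 1)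

theorem exists_cnt {m : ℕ} (hm : 1 ≤ m) (hV : finrank F V = 2 * m) (Q : QuadraticForm F V) (hQ : Nondeg Q) :
    ∃ ε : ℤ, (ε = 1 ∨ ε = -1) ∧ Cnt (⇑Q) m ε := by
  have := Fintype.ofFinite F
  have hq : Nat.card F = Fintype.card F := Nat.card_eq_fintype_card
  have hq1 : 1 ≤ Fintype.card F := Fintype.card_pos
  rcases classify_all hm hV Q hQ with ⟨e, he⟩ | ⟨ζ, hζ, e, he⟩
  · refine ⟨1, Or.inl rfl, ?_⟩
    have h1 := S0289.result (F := F) rfl m hm
    have h2 : Nat.card {v : V // Q v = 0} = Nat.card {v : Fin m ⊕ Fin m → F // Cfsg.quadFormPlus m F v = 0} :=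
      (Nat.card_congr (e.toEquiv.subtypeEquiv fun v => by
        change Cfsg.quadFormPlus m F v = 0 ↔ Q (e v) = 0
        rw [he])).symm
    rw [Cnt, h2, h1, hq]
    have h3 : Fintype.card F ^ (m - 1) ≤ Fintype.card F ^ (2 * m - 1) + Fintype.card F ^ m :=
      (Nat.pow_le_pow_right hq1 (Nat.sub_le m 1)).trans (Nat.le_add_left _ _)
    rw [Nat.cast_sub h3]
    obtain ⟨k, rfl⟩ : ∃ k, m = k + 1 := ⟨m - 1, by omega⟩
    rw [show 2 * (k + 1) - 1 = 2 * k + 1 by omega, Nat.add_sub_cancel]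
    push_cast
    ring
  · refine ⟨-1, Or.inr rfl, ?_⟩
    have h1 := S0290.result (F := F) rfl m hm 1 ζ hζ
    have h2 : Nat.card {v : V // Q v = 0} =
        Nat.card {v : (Fin (m - 1) ⊕ Fin (m - 1)) ⊕ Fin 2 → F // Cfsg.quadFormMinus (m - 1) F 1 ζ v = 0} :=
      (Nat.card_congr (e.toEquiv.subtypeEquiv fun v => by
        change Cfsg.quadFormMinus (m - 1) F 1 ζ v = 0 ↔ Q (e v) = 0
        rw [he])).symm
    rw [Cnt, h2, h1, hq]
    have h3 : Fintype.card F ^ m ≤ Fintype.card F ^ (2 * m - 1) + Fintype.card F ^ (m - 1) :=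
      (Nat.pow_le_pow_right hq1 (by omega)).trans (Nat.le_add_right _ _)
    rw [Nat.cast_sub h3]
    obtain ⟨k, rfl⟩ : ∃ k, m = k + 1 := ⟨m - 1, by omega⟩
    rw [show 2 * (k + 1) - 1 = 2 * k + 1 by omega, Nat.add_sub_cancel]
    push_cast
    ring

/-- the signs of a space and of a fixed space -/
theorem sign_dvd {Q : QuadraticForm F V} {z : Module.End F V} (hzQ : ∀ v, Q (z v) = Q v) {w n u : ℕ} {ε δ : ℤ}
    (hw : w.Prime) (hz : z ^ w = 1) (hun : u ≤ n)
    (h1 : Cnt (⇑Q) n ε) (h2 : Cnt (⇑(Q.comp (LinearMap.ker (z - 1)).subtype)) u δ)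
    (hq : ¬ w ∣ Nat.card F - 1) (hd : w ∣ Nat.card F ^ (2 * (n - u)) - 1) :
    (w : ℤ) ∣ ε * (Nat.card F : ℤ) ^ n - δ * (Nat.card F : ℤ) ^ u := by
  have : Finite V := Module.finite_of_finite F
  let f : {v : V // Q v = 0} → {v : V // Q v = 0} := fun v => ⟨z v, by rw [hzQ]; exact v.2⟩
  have hf1 : f^[w] = id := by
    funext x
    have h1 : ∀ n : ℕ, ((f^[n] x : {v : V // Q v = 0}) : V) = (z ^ n) x := by
      intro n
      induction n with
      | zero => rfl
      | succ n ih =>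
        rw [Function.iterate_succ_apply', pow_succ', Module.End.mul_apply, ← ih]
    apply Subtype.ext
    rw [h1, hz]
    rfl
  have h3 := fix_modEq f hw hf1
  have h4 : Nat.card {a : {v : V // Q v = 0} // f a = a} =
      Nat.card {v : LinearMap.ker (z - 1) // (Q.comp (LinearMap.ker (z - 1)).subtype) v = 0} := by
    refine Nat.card_congr
      { toFun := fun a => ⟨⟨a.1.1, mem_ker_sub.2 (congrArg Subtype.val a.2)⟩, a.1.2⟩
        invFun := fun v => ⟨⟨v.1.1, v.2⟩, Subtype.ext (mem_ker_sub.1 v.1.2)⟩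
        left_inv := fun a => rfl
        right_inv := fun v => rfl }
  rw [h4] at h3
  have h5 := Int.ModEq.mul_left (Nat.card F : ℤ) h3
  unfold Cnt at h1 h2
  rw [h1, h2] at h5
  have h6 := Int.modEq_iff_dvd.1 h5.symm
  set q : ℤ := (Nat.card F : ℤ) with hqdef
  have hq1 : 1 ≤ Nat.card F := Nat.card_pos
  have h7 : (w : ℤ) ∣ q ^ (2 * n) - q ^ (2 * u) := by
    have h8 : ((Nat.card F ^ (2 * (n - u)) - 1 : ℕ) : ℤ) = q ^ (2 * (n - u)) - 1 := by
      rw [Nat.cast_sub (Nat.one_le_pow _ _ hq1)]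
      push_cast
      rfl
    have h9 : (w : ℤ) ∣ q ^ (2 * (n - u)) - 1 := by
      rw [← h8]
      exact_mod_cast hd
    have h10 : q ^ (2 * n) - q ^ (2 * u) = q ^ (2 * u) * (q ^ (2 * (n - u)) - 1) := by
      rw [mul_sub, mul_one, ← pow_add, ← mul_add, Nat.add_sub_cancel' hun]
    rw [h10]
    exact Dvd.dvd.mul_left h9 _
  have h8 : (w : ℤ) ∣ (ε * q ^ n - δ * q ^ u) * (q - 1) := by
    have h9 := dvd_sub h6 h7
    have h10 : q ^ (2 * n) + ε * q ^ n * (q - 1) - (q ^ (2 * u) + δ * q ^ u * (q - 1)) - (q ^ (2 * n) - q ^ (2 * u)) =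
      (ε * q ^ n - δ * q ^ u) * (q - 1) := by ring
    rwa [h10] at h9
  have hwp : Prime (w : ℤ) := Nat.prime_iff_prime_int.1 hw
  refine (hwp.dvd_or_dvd h8).resolve_right fun h => hq ?_
  have h9 : q - 1 = ((Nat.card F - 1 : ℕ) : ℤ) := by
    rw [Nat.cast_sub hq1, Nat.cast_one]
  rw [h9] at h
  exact_mod_cast h

omit [Finite F] in
theorem finrank_ker_range (z : Module.End F V) :
    finrank F (LinearMap.range (z - 1)) + finrank F (LinearMap.ker (z - 1)) = finrank F V :=
  LinearMap.finrank_range_add_finrank_ker (z - 1)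

/-- orders and divisibility -/
theorem dvd_of_orderOf {q v k : ℕ} (hq : 1 ≤ q) (h : orderOf ((q : ℕ) : ZMod v) = k) (m : ℕ) :
    v ∣ q ^ m - 1 ↔ k ∣ m := by
  rw [← h, orderOf_dvd_iff_pow_eq_one, ← Nat.cast_pow, ← ZMod.natCast_eq_zero_iff,
    Nat.cast_sub (Nat.one_le_pow _ _ hq), Nat.cast_one, sub_eq_zero]

/-- `q ^ a = -1` -/
theorem half_pow {q v a : ℕ} (hq : 1 ≤ q) (hv : v.Prime) (ha : 1 ≤ a) (h : orderOf ((q : ℕ) : ZMod v) = 2 * a) :
    (v : ℤ) ∣ (q : ℤ) ^ a + 1 := by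
  have h1 : v ∣ q ^ (2 * a) - 1 := (dvd_of_orderOf hq h _).2 dvd_rfl
  have h2 : ¬ v ∣ q ^ a - 1 := fun h2 => by
    have := Nat.le_of_dvd ha ((dvd_of_orderOf hq h _).1 h2)
    omega
  have e1 : q ^ (2 * a) - 1 = (q ^ a - 1) * (q ^ a + 1) := by
    obtain ⟨t, ht⟩ : ∃ t, q ^ a = t + 1 := ⟨q ^ a - 1, by have := Nat.one_le_pow a q hq; omega⟩
    rw [mul_comm 2 a, pow_mul, ht, Nat.add_sub_cancel]
    have : (t + 1) ^ 2 = t * (t + 1 + 1) + 1 := by ring
    rw [this, Nat.add_sub_cancel]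
  rw [e1] at h1
  have h3 := (hv.dvd_mul.1 h1).resolve_left h2
  exact_mod_cast h3

theorem two_of {q v a : ℕ} (hq : 1 ≤ q) (ha : 1 ≤ a) (h : orderOf ((q : ℕ) : ZMod v) = 2 * a)
    (h1 : (v : ℤ) ∣ (q : ℤ) ^ a - 1) : False := by
  have h3 : ((q ^ a - 1 : ℕ) : ℤ) = (q : ℤ) ^ a - 1 := by
    rw [Nat.cast_sub (Nat.one_le_pow _ _ hq)]
    push_cast
    rfl
  rw [← h3] at h1
  have h4 : v ∣ q ^ a - 1 := by exact_mod_cast h1
  have := Nat.le_of_dvd ha ((dvd_of_orderOf hq h _).1 h4)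
  omega

/-- **The boundary case.** -/
theorem core {Q : QuadraticForm F V} (hQ : Nondeg Q) {n : ℕ} (hV : finrank F V = 2 * n) (hC : Cnt (⇑Q) n (-1))
    {a b v w : ℕ} (ha : 1 ≤ a) (hab : a < b) (hn : a + b = n) (hv : v.Prime) (hw : w.Prime)
    (hov : orderOf ((Nat.card F : ℕ) : ZMod v) = 2 * a) (how : orderOf ((Nat.card F : ℕ) : ZMod w) = 2 * b)
    (hodd : ∀ c, b = a * c → c % 2 = 0) (T : Module.End F V) (hTQ : ∀ u, Q (T u) = Q u)
    (hT : ∀ j : ℕ, T ^ j = 1 ↔ v * w ∣ j) : False := by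
  set q := Nat.card F with hqdef
  have hq1 : 1 ≤ q := Nat.card_pos
  have hq2 : 1 < q := Finite.one_lt_card
  have hvw : v ≠ w := by
    rintro rfl
    rw [hov] at how
    omega
  have hnd : ∀ {v k : ℕ}, v.Prime → 1 ≤ k → orderOf ((q : ℕ) : ZMod v) = 2 * k → ¬ v ∣ q := fun {v k} hv hk h h1 => by
    have := Fact.mk hv
    have h2 : ((q : ℕ) : ZMod v) = 0 := (ZMod.natCast_eq_zero_iff _ _).2 h1
    have h3 := pow_orderOf_eq_one ((q : ℕ) : ZMod v)
    rw [h, h2, zero_pow (by omega)] at h3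
    exact zero_ne_one h3
  have hvF : (v : F) ≠ 0 := Cfsg.Agent.H390.natCast_ne_zero hv (hnd hv ha hov)
  have hwF : (w : F) ≠ 0 := Cfsg.Agent.H390.natCast_ne_zero hw (hnd hw (by omega) how)
  -- the two parts
  have hTQn : ∀ (j : ℕ) (u : V), Q ((T ^ j) u) = Q u := fun j => by
    induction j with
    | zero => intro u; rfl
    | succ j ih => intro u; rw [pow_succ', Module.End.mul_apply, hTQ, ih]
  set x : Module.End F V := T ^ w with hxdef
  set y : Module.End F V := T ^ v with hydef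
  have hxy : x * y = y * x := by rw [hxdef, hydef, ← pow_add, ← pow_add, add_comm]
  have hxv : x ^ v = 1 := by rw [hxdef, ← pow_mul, hT, mul_comm]
  have hyw : y ^ w = 1 := by rw [hydef, ← pow_mul, hT]
  have hx1 : x ≠ 1 := by
    rw [hxdef, Ne, hT]
    intro h
    have h1 := (Nat.mul_dvd_mul_iff_right hw.pos).1 (by rwa [one_mul] : v * w ∣ 1 * w)
    exact hv.one_lt.ne' (Nat.dvd_one.1 h1)
  have hy1 : y ≠ 1 := by
    rw [hydef, Ne, hT]
    intro h
    have h1 := (Nat.mul_dvd_mul_iff_left hv.pos).1 (by rwa [mul_one] : v * w ∣ v * 1)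
    exact hw.one_lt.ne' (Nat.dvd_one.1 h1)
  have hxQ : ∀ u, Q (x u) = Q u := hTQn w
  have hyQ : ∀ u, Q (y u) = Q u := hTQn v
  have hxyv : ∀ u, x (y u) = y (x u) := fun u => by
    rw [← Module.End.mul_apply, hxy, Module.End.mul_apply]
  -- the space `U`
  set U := LinearMap.ker (y - 1) with hU
  have hrange : ∀ (z : Module.End F V), ∀ u ∈ LinearMap.range (z - 1), z u ∈ LinearMap.range (z - 1) := by
    rintro z _ ⟨u, rfl⟩
    exact ⟨z u, by simp⟩
  have hrne : ∀ (z : Module.End F V), z ≠ 1 → finrank F (LinearMap.range (z - 1)) ≠ 0 := fun z hz h0 => by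
    rw [Submodule.finrank_eq_zero, LinearMap.range_eq_bot, sub_eq_zero] at h0
    exact hz h0
  have hry : finrank F (LinearMap.range (y - 1)) = 2 * b := by
    have h1 := dim_dvd hw hyw (LinearMap.range (y - 1)) (hrange y) (range_fix hwF hyw)
    rw [← hqdef, dvd_of_orderOf hq1 how] at h1
    have h2 := hrne y hy1
    have h3 := finrank_ker_range y
    rw [hV] at h3
    obtain ⟨t, ht⟩ := h1
    have h4 : t ≠ 0 := by rintro rfl; exact h2 (by rw [ht, mul_zero])
    have h5 : t < 2 := by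
      by_contra h6
      have : 2 * b * 2 ≤ 2 * b * t := Nat.mul_le_mul_left _ (by omega)
      omega
    have h6 : t = 1 := by omega
    rw [ht, h6, mul_one]
  have hUd : finrank F U = 2 * a := by
    have h3 := finrank_ker_range y
    rw [hV, hry] at h3
    rw [hU]
    omega
  have hUn : Nondeg (Q.comp U.subtype) := nondeg_fix hQ hyQ hwF hyw
  obtain ⟨δ, hδ, hUC⟩ := exists_cnt ha hUd _ hUn
  have hv2 : ¬ v ∣ q - 1 := fun h => by
    have h1 := (dvd_of_orderOf hq1 hov 1).1 (by rwa [pow_one])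
    have := Nat.le_of_dvd one_pos h1
    omega
  have hw2 : ¬ w ∣ q - 1 := fun h => by
    have h1 := (dvd_of_orderOf hq1 how 1).1 (by rwa [pow_one])
    have := Nat.le_of_dvd one_pos h1
    omega
  have hqb := half_pow hq1 hw (by omega) how
  have hqa := half_pow hq1 hv ha hov
  have hvq : ¬ (v : ℤ) ∣ (q : ℤ) := fun h => hnd hv ha hov (by exact_mod_cast h)
  have hwq : ¬ (w : ℤ) ∣ (q : ℤ) := fun h => hnd hw (by omega) how (by exact_mod_cast h)
  have hvZ : Prime (v : ℤ) := Nat.prime_iff_prime_int.1 hv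
  have hwZ : Prime (w : ℤ) := Nat.prime_iff_prime_int.1 hw
  have hδ1 : δ = 1 := by
    have h1 := sign_dvd hyQ hw hyw (u := a) (n := n) (by omega) hC hUC hw2 (by
      rw [dvd_of_orderOf hq1 how, show n - a = b by omega])
    rw [← hqdef] at h1
    have h2 : (-1 : ℤ) * (q : ℤ) ^ n - δ * (q : ℤ) ^ a = -((q : ℤ) ^ a * ((q : ℤ) ^ b + δ)) := by
      rw [← hn]; ring
    rw [h2, dvd_neg] at h1
    have h3 := (hwZ.dvd_or_dvd h1).resolve_left fun h => hwq (hwZ.dvd_of_dvd_pow h)
    rcases hδ with h4 | h4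
    · exact h4
    · exfalso
      rw [h4, ← sub_eq_add_neg] at h3
      exact two_of hq1 (by omega) how h3
  subst hδ1
  -- `x` on `U`
  have hxU : ∀ u ∈ U, x u ∈ U := fun u hu => by
    rw [hU, mem_ker_sub] at hu ⊢
    rw [← hxyv, hu]
  set xU : Module.End F U := x.restrict hxU with hxUdef
  have hxUv : ∀ (j : ℕ) (u : U), (((xU ^ j) u : U) : V) = (x ^ j) u := fun j => by
    induction j with
    | zero => intro u; rfl
    | succ j ih =>
      intro u
      rw [pow_succ', Module.End.mul_apply, pow_succ', Module.End.mul_apply, ← ih]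
      rfl
  have hxU1 : xU ^ v = 1 := by
    ext u
    rw [hxUv, hxv]
    rfl
  have hxUQ : ∀ u, (Q.comp U.subtype) (xU u) = (Q.comp U.subtype) u := fun u => hxQ u
  have hd := dim_dvd hv hxU1 (LinearMap.range (xU - 1)) (by
    rintro _ ⟨u, rfl⟩
    exact ⟨xU u, by simp⟩) (range_fix hvF hxU1)
  rw [← hqdef, dvd_of_orderOf hq1 hov] at hd
  have hkr := finrank_ker_range xU
  rw [hUd] at hkr
  obtain ⟨t, ht⟩ := hd
  have ht2 : t < 2 := by
    by_contra h6
    have : 2 * a * 2 ≤ 2 * a * t := Nat.mul_le_mul_left _ (by omega)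
    omega
  rcases Nat.lt_or_ge 0 t with ht0 | ht0
  · -- `x` acts without fixed points on `U`
    have ht1 : t = 1 := by omega
    rw [ht, ht1, mul_one] at hkr
    have hk0 : finrank F (LinearMap.ker (xU - 1)) = 0 := by omega
    have hC0 : Cnt (⇑((Q.comp U.subtype).comp (LinearMap.ker (xU - 1)).subtype)) 0 1 := by
      rw [Cnt]
      have h1 : Nat.card {v : LinearMap.ker (xU - 1) //
          ((Q.comp U.subtype).comp (LinearMap.ker (xU - 1)).subtype) v = 0} = 1 := by
        rw [Nat.card_eq_one_iff_unique]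
        have h2 : ∀ z : LinearMap.ker (xU - 1), z = 0 := by
          have := Submodule.finrank_eq_zero.1 hk0
          intro z
          exact Subtype.ext ((Submodule.eq_bot_iff _).1 this _ z.2)
        exact ⟨⟨fun a b => Subtype.ext ((h2 _).trans (h2 _).symm)⟩, ⟨⟨0, map_zero _⟩⟩⟩
      rw [h1]
      ring
    have h1 := sign_dvd hxUQ hv hxU1 (u := 0) (n := a) (Nat.zero_le _) hUC hC0 hv2 (by
      rw [dvd_of_orderOf hq1 hov, Nat.sub_zero])
    rw [← hqdef, one_mul, pow_zero, mul_one] at h1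
    exact two_of hq1 ha hov h1
  · have ht1 : t = 0 := by omega
    rw [ht1, mul_zero] at ht
    have hfix : xU = 1 := by
      rw [Submodule.finrank_eq_zero, LinearMap.range_eq_bot, sub_eq_zero] at ht
      exact ht
    have hUx : U ≤ LinearMap.ker (x - 1) := by
      intro u hu
      rw [mem_ker_sub]
      have h1 : ((xU ⟨u, hu⟩ : U) : V) = u := by rw [hfix]; rfl
      exact h1
    have hrx : finrank F (LinearMap.range (x - 1)) = 2 * b := by
      have h1 := dim_dvd hw hyw (LinearMap.range (x - 1)) (by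
        rintro _ ⟨u, rfl⟩
        refine ⟨y u, ?_⟩
        simp [hxyv]) (by
        intro u hu hyu
        exact range_fix hvF hxv u hu (mem_ker_sub.1 (hUx (mem_ker_sub.2 hyu))))
      rw [← hqdef, dvd_of_orderOf hq1 how] at h1
      have h2 := hrne x hx1
      have h3 := finrank_ker_range x
      rw [hV] at h3
      obtain ⟨t, ht⟩ := h1
      have h4 : t ≠ 0 := by rintro rfl; exact h2 (by rw [ht, mul_zero])
      have h5 : t < 2 := by
        by_contra h6
        have : 2 * b * 2 ≤ 2 * b * t := Nat.mul_le_mul_left _ (by omega)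
        omega
      have h6 : t = 1 := by omega
      rw [ht, h6, mul_one]
    have hUe : U = LinearMap.ker (x - 1) := by
      apply Submodule.eq_of_le_of_finrank_eq hUx
      have h3 := finrank_ker_range x
      rw [hV, hrx] at h3
      rw [hUd]
      omega
    have hdx := dim_dvd hv hxv (LinearMap.range (x - 1)) (hrange x) (range_fix hvF hxv)
    rw [← hqdef, dvd_of_orderOf hq1 hov, hrx] at hdx
    have hab' : a ∣ b := (Nat.mul_dvd_mul_iff_left two_pos).1 hdx
    obtain ⟨c, hc⟩ := hab'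
    have hc2 := hodd c hc
    have hqb1 : (v : ℤ) ∣ (q : ℤ) ^ b - 1 := by
      have h1 : 2 * a ∣ b := by
        obtain ⟨c', hc'⟩ : ∃ c', c = 2 * c' := ⟨c / 2, by omega⟩
        rw [hc, hc']
        exact ⟨c', by ring⟩
      have h2 := (dvd_of_orderOf hq1 hov b).2 h1
      have h3 : ((q ^ b - 1 : ℕ) : ℤ) = (q : ℤ) ^ b - 1 := by
        rw [Nat.cast_sub (Nat.one_le_pow _ _ hq1)]
        push_cast
        rfl
      rw [← h3]
      exact_mod_cast h2
    have h1 := sign_dvd hxQ hv hxv (u := a) (n := n) (by omega) hC (δ := 1) (by rw [← hUe]; exact hUC) hv2 (by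
      rw [dvd_of_orderOf hq1 hov, show n - a = b by omega]
      exact Nat.mul_dvd_mul_left 2 ⟨c, hc⟩)
    rw [← hqdef] at h1
    have h2 : (-1 : ℤ) * (q : ℤ) ^ n - 1 * (q : ℤ) ^ a = -((q : ℤ) ^ a * ((q : ℤ) ^ b + 1)) := by
      rw [← hn]; ring
    rw [h2, dvd_neg] at h1
    have h3 := (hvZ.dvd_or_dvd h1).resolve_left fun h => hvq (hvZ.dvd_of_dvd_pow h)
    have h4 : (v : ℤ) ∣ 2 := by
      have := dvd_sub h3 hqb1
      rwa [show (q : ℤ) ^ b + 1 - ((q : ℤ) ^ b - 1) = 2 by ring] at this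
    have h5 : v ∣ 2 := by exact_mod_cast h4
    have h6 : v = 2 := (Nat.prime_dvd_prime_iff_eq hv Nat.prime_two).1 h5
    subst h6
    apply hv2
    have h7 : ¬ (2 : ℤ) ∣ (q : ℤ) := hvq
    omega

omit [Finite F] in
/-- **`PΩ⁻_{2n}(p)` has no element of order `v w`**, the boundary case. -/
theorem minus_bd [Fintype F] {p : ℕ} (hp : p.Prime) (_hp2 : p ≠ 2) (hF : Fintype.card F = p) {n : ℕ} (hn : 4 ≤ n) {c d : F}
    (hcd : ∀ z₁ z₂ : F, z₁ ^ 2 + c * z₁ * z₂ + d * z₂ ^ 2 = 0 → z₁ = 0 ∧ z₂ = 0)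
    {a b : ℕ} (ha : 1 ≤ a) (hab : a < b) (hab' : a + b = n) (hodd : ∀ t, b = a * t → t % 2 = 0) :
    ∀ v w, Prim p (2 * a) v → Prim p (2 * b) w →
      ¬ ∃ x : POmega F (quadFormMinus (n - 1) F c d), orderOf x = v * w := by
  intro v w hv hw hx
  have hq : Nat.card F = p := by rw [Nat.card_eq_fintype_card, hF]
  have hcard : Fintype.card ((Fin (n - 1) ⊕ Fin (n - 1)) ⊕ Fin 2) = 2 * n := by
    rw [Fintype.card_sum, Fintype.card_sum, Fintype.card_fin, Fintype.card_fin]
    omega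
  have hD : Cfsg.Agent.H390.Lift.Data (OmegaReindex.quadMinus (n - 1) F c d) :=
    Cfsg.Agent.H390.data_of _ (OmegaReindex.quadMinus_nondegenerate hcd) (by rw [hcard]; omega)
    (OmegaReindex.quadMinus_isotropic (by omega) c d) (Or.inr (by rw [hcard]; omega))
  have hz := Cfsg.Agent.S0290.result (F := F) rfl n (by omega) c d hcd
  rw [← OmegaReindex.coe_quadMinus] at hx hz
  have hvo := hv.odd (by omega)
  have hwo := hw.odd (by omega)
  obtain ⟨T, hTQ, hT⟩ := Cfsg.Agent.H390.exists_lin_of_order hD (m := v * w)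
    ((Nat.odd_iff.2 (by omega)).mul (Nat.odd_iff.2 (by omega))) hx
  refine core (F := F) (Q := OmegaReindex.quadMinus (n - 1) F c d) hD.ND (n := n)
    (by rw [Module.finrank_fintype_fun_eq_card, hcard]) ?_ ha hab hab' hv.prime hw.prime
    (by rw [hq]; exact Chr.prim_orderOf hp.one_lt.le hv) (by rw [hq]; exact Chr.prim_orderOf hp.one_lt.le hw) hodd T hTQ hT
  have hq1 : 1 ≤ Fintype.card F := Fintype.card_pos
  rw [Cnt, hz, Nat.card_eq_fintype_card]
  have h3 : Fintype.card F ^ n ≤ Fintype.card F ^ (2 * n - 1) + Fintype.card F ^ (n - 1) :=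
    (Nat.pow_le_pow_right hq1 (by omega)).trans (Nat.le_add_right _ _)
  rw [Nat.cast_sub h3]
  obtain ⟨k, rfl⟩ : ∃ k, n = k + 1 := ⟨n - 1, by omega⟩
  rw [show 2 * (k + 1) - 1 = 2 * k + 1 by omega, Nat.add_sub_cancel]
  push_cast
  ring

end Cfsg.Agent.H425.MinusBd
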