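import Cfsg.Agent.H436.KFour
import Cfsg.Agent.H977.OrdArith
import Cfsg.Agent.OrdCrit.Main

/-!
# The `p`-part and the primitive primes of the orders of the groups of Lie type in characteristic `p` (helper425)

For a name `g` over the field with `q = p ^ f` elements and `c` with `den g * c = num g`:
* `v_*` : the exponent of `p` in `c` is `f N`;
* `prim_*` : primes whose order modulo `p` is `f e` divide `c`.
-/

set_option autoImplicit false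

namespace Cfsg.Agent.H425.PartP

open Cfsg Cfsg.Agent.OrdDiv Cfsg.Agent.H436

variable {p f c : ℕ}

theorem prim_of_pow {e r : ℕ} (hf : f ≠ 0) (h : Prim p (f * e) r) : Prim (p ^ f) e r := by
  refine ⟨h.prime, fun m => ?_, fun hd => h.not_dvd (h.prime.dvd_of_dvd_pow hd)⟩
  rw [← pow_mul, h.dvd_iff, Nat.mul_dvd_mul_iff_left (Nat.pos_of_ne_zero hf)]

theorem fac_eq {N d r : ℕ} (hp : p.Prime) (hd : d.Coprime p) (hr : ¬ p ∣ r) (h : d * c = (p ^ f) ^ N * r)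
    (hc : c ≠ 0) : c.factorization p = f * N := by
  have h1 := H977.OrdArith.proj_eq hp rfl hd hr h hc
  rw [← pow_mul] at h1
  exact Nat.pow_right_injective hp.two_le h1

section

variable (hp : p.Prime) (hf : f ≠ 0)

include hp hf

theorem not_dvd_sub {i : ℕ} (hi : i ≠ 0) : ¬ p ∣ (p ^ f) ^ i - 1 := by
  intro h
  have h1 : p ∣ (p ^ f) ^ i := dvd_pow (dvd_pow_self p hf) hi
  have h2 : 1 ≤ (p ^ f) ^ i := Nat.one_le_pow _ _ (pow_pos hp.pos _)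
  have h3 := Nat.dvd_sub h1 h
  rw [Nat.sub_sub_self h2] at h3
  exact hp.one_lt.ne' (Nat.dvd_one.1 h3)

theorem not_dvd_add {i : ℕ} (hi : i ≠ 0) : ¬ p ∣ (p ^ f) ^ i + 1 := by
  intro h
  have h1 : p ∣ (p ^ f) ^ i := dvd_pow (dvd_pow_self p hf) hi
  exact hp.one_lt.ne' (Nat.dvd_one.1 ((Nat.dvd_add_right h1).1 h))

theorem not_dvd_prB (m : ℕ) : ¬ p ∣ prB (p ^ f) m := by
  intro h
  unfold prB at h
  rw [prod_list, hp.prime.dvd_finsetProd_iff] at h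
  obtain ⟨i, -, hi⟩ := h
  exact not_dvd_sub hp hf (by omega) hi

theorem not_dvd_prU (m : ℕ) : ¬ p ∣ prU (p ^ f) m := by
  intro h
  unfold prU at h
  rw [prod_list, hp.prime.dvd_finsetProd_iff] at h
  obtain ⟨i, -, hi⟩ := h
  split_ifs at hi
  · exact not_dvd_add hp hf (by omega) hi
  · exact not_dvd_sub hp hf (by omega) hi

theorem cop_sub : Nat.Coprime (p ^ f - 1) p := OrdCrit.coprime_sub hp hf rfl

theorem cop_add : Nat.Coprime (p ^ f + 1) p := OrdCrit.coprime_add hp hf rfl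

theorem v_psl {n : ℕ} (h : den (.psl n (p ^ f)) * c = num (.psl n (p ^ f))) (hc : c ≠ 0) :
    c.factorization p = f * (n * (n - 1) / 2) := by
  have h1 : Nat.gcd n (p ^ f - 1) * (p ^ f - 1) * c =
      (p ^ f) ^ (n * (n - 1) / 2) * ∏ i ∈ Finset.range n, ((p ^ f) ^ (i + 1) - 1) := by
    have h2 : Nat.gcd n (p ^ f - 1) * (p ^ f - 1) * c = glN n (p ^ f) := h
    rw [h2, ← OrdCrit.prod_gl, Fin.prod_univ_eq_prod_range (fun i => (p ^ f) ^ n - (p ^ f) ^ i) n, ← prod_list]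
    rfl
  refine fac_eq hp ?_ ?_ h1 hc
  · exact Nat.Coprime.mul_left (Nat.Coprime.coprime_dvd_left (Nat.gcd_dvd_right _ _) (cop_sub hp hf)) (cop_sub hp hf)
  · rw [hp.prime.dvd_finsetProd_iff]
    rintro ⟨i, -, hi⟩
    exact not_dvd_sub hp hf (by omega) hi

theorem v_psp {m : ℕ} (h : den (.psp m (p ^ f)) * c = num (.psp m (p ^ f))) (hc : c ≠ 0) :
    c.factorization p = f * m ^ 2 := by
  have h1 : Nat.gcd 2 (p ^ f - 1) * c = (p ^ f) ^ (m ^ 2) * prB (p ^ f) m := h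
  exact fac_eq hp (Nat.Coprime.coprime_dvd_left (Nat.gcd_dvd_right _ _) (cop_sub hp hf)) (not_dvd_prB hp hf m) h1 hc

theorem v_oodd (hp2 : p ≠ 2) {m : ℕ} (h : den (.oodd m (p ^ f)) * c = num (.oodd m (p ^ f))) (hc : c ≠ 0) :
    c.factorization p = f * m ^ 2 := by
  have h1 : 2 * c = (p ^ f) ^ (m ^ 2) * prB (p ^ f) m := h
  exact fac_eq hp ((Nat.coprime_primes Nat.prime_two hp).2 fun h => hp2 h.symm) (not_dvd_prB hp hf m) h1 hc

theorem v_psu {n : ℕ} (h : den (.psu n (p ^ f)) * c = num (.psu n (p ^ f))) (hc : c ≠ 0) :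
    c.factorization p = f * (n * (n - 1) / 2) := by
  have h1 : Nat.gcd n (p ^ f + 1) * (p ^ f + 1) * c = (p ^ f) ^ (n * (n - 1) / 2) * prU (p ^ f) n := h
  refine fac_eq hp ?_ (not_dvd_prU hp hf n) h1 hc
  exact Nat.Coprime.mul_left (Nat.Coprime.coprime_dvd_left (Nat.gcd_dvd_right _ _) (cop_add hp hf)) (cop_add hp hf)

theorem v_oplus {m : ℕ} (hm : m ≠ 0) (h : den (.oplus m (p ^ f)) * c = num (.oplus m (p ^ f))) (hc : c ≠ 0) :
    c.factorization p = f * (m * (m - 1)) := by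
  have h1 : Nat.gcd 4 ((p ^ f) ^ m - 1) * c = (p ^ f) ^ (m * (m - 1)) * (((p ^ f) ^ m - 1) * prB (p ^ f) (m - 1)) := h
  refine fac_eq hp ?_ ?_ h1 hc
  · refine Nat.Coprime.coprime_dvd_left (Nat.gcd_dvd_right _ _) ?_
    exact ((hp.coprime_iff_not_dvd).2 (not_dvd_sub hp hf hm)).symm
  · rw [hp.dvd_mul]
    rintro (h2 | h2)
    · exact not_dvd_sub hp hf hm h2
    · exact not_dvd_prB hp hf _ h2

theorem v_ominus {m : ℕ} (hm : m ≠ 0) (h : den (.ominus m (p ^ f)) * c = num (.ominus m (p ^ f))) (hc : c ≠ 0) :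
    c.factorization p = f * (m * (m - 1)) := by
  have h1 : Nat.gcd 4 ((p ^ f) ^ m + 1) * c = (p ^ f) ^ (m * (m - 1)) * (((p ^ f) ^ m + 1) * prB (p ^ f) (m - 1)) := h
  refine fac_eq hp ?_ ?_ h1 hc
  · refine Nat.Coprime.coprime_dvd_left (Nat.gcd_dvd_right _ _) ?_
    exact ((hp.coprime_iff_not_dvd).2 (not_dvd_add hp hf hm)).symm
  · rw [hp.dvd_mul]
    rintro (h2 | h2)
    · exact not_dvd_add hp hf hm h2
    · exact not_dvd_prB hp hf _ h2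

theorem v_g2 (h : den (.g2 (p ^ f)) * c = num (.g2 (p ^ f))) (hc : c ≠ 0) : c.factorization p = f * 6 := by
  refine fac_eq hp (Nat.coprime_one_left p) ?_
    (h : 1 * c = (p ^ f) ^ 6 * (((p ^ f) ^ 2 - 1) * ((p ^ f) ^ 6 - 1))) hc
  simp only [hp.dvd_mul, not_or]
  exact ⟨not_dvd_sub hp hf (by norm_num), not_dvd_sub hp hf (by norm_num)⟩

theorem v_f4 (h : den (.f4 (p ^ f)) * c = num (.f4 (p ^ f))) (hc : c ≠ 0) : c.factorization p = f * 24 := by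
  refine fac_eq hp (Nat.coprime_one_left p) ?_
    (h : 1 * c = (p ^ f) ^ 24 * (((p ^ f) ^ 2 - 1) * ((p ^ f) ^ 6 - 1) * ((p ^ f) ^ 8 - 1) * ((p ^ f) ^ 12 - 1))) hc
  simp only [hp.dvd_mul, not_or]
  exact ⟨⟨⟨not_dvd_sub hp hf (by norm_num), not_dvd_sub hp hf (by norm_num)⟩, not_dvd_sub hp hf (by norm_num)⟩,
    not_dvd_sub hp hf (by norm_num)⟩

theorem v_e6 (h : den (.e6 (p ^ f)) * c = num (.e6 (p ^ f))) (hc : c ≠ 0) : c.factorization p = f * 36 := by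
  refine fac_eq hp (Nat.Coprime.coprime_dvd_left (Nat.gcd_dvd_right _ _) (cop_sub hp hf)) ?_
    (h : Nat.gcd 3 (p ^ f - 1) * c = (p ^ f) ^ 36 * (((p ^ f) ^ 2 - 1) * ((p ^ f) ^ 5 - 1) * ((p ^ f) ^ 6 - 1) *
      ((p ^ f) ^ 8 - 1) * ((p ^ f) ^ 9 - 1) * ((p ^ f) ^ 12 - 1))) hc
  simp only [hp.dvd_mul, not_or]
  exact ⟨⟨⟨⟨⟨not_dvd_sub hp hf (by norm_num), not_dvd_sub hp hf (by norm_num)⟩, not_dvd_sub hp hf (by norm_num)⟩,
    not_dvd_sub hp hf (by norm_num)⟩, not_dvd_sub hp hf (by norm_num)⟩, not_dvd_sub hp hf (by norm_num)⟩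

theorem v_e7 (h : den (.e7 (p ^ f)) * c = num (.e7 (p ^ f))) (hc : c ≠ 0) : c.factorization p = f * 63 := by
  refine fac_eq hp (Nat.Coprime.coprime_dvd_left (Nat.gcd_dvd_right _ _) (cop_sub hp hf)) ?_
    (h : Nat.gcd 2 (p ^ f - 1) * c = (p ^ f) ^ 63 * (((p ^ f) ^ 2 - 1) * ((p ^ f) ^ 6 - 1) * ((p ^ f) ^ 8 - 1) *
      ((p ^ f) ^ 10 - 1) * ((p ^ f) ^ 12 - 1) * ((p ^ f) ^ 14 - 1) * ((p ^ f) ^ 18 - 1))) hc
  simp only [hp.dvd_mul, not_or]
  exact ⟨⟨⟨⟨⟨⟨not_dvd_sub hp hf (by norm_num), not_dvd_sub hp hf (by norm_num)⟩, not_dvd_sub hp hf (by norm_num)⟩,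
    not_dvd_sub hp hf (by norm_num)⟩, not_dvd_sub hp hf (by norm_num)⟩, not_dvd_sub hp hf (by norm_num)⟩,
    not_dvd_sub hp hf (by norm_num)⟩

theorem v_e8 (h : den (.e8 (p ^ f)) * c = num (.e8 (p ^ f))) (hc : c ≠ 0) : c.factorization p = f * 120 := by
  refine fac_eq hp (Nat.coprime_one_left p) ?_
    (h : 1 * c = (p ^ f) ^ 120 * (((p ^ f) ^ 2 - 1) * ((p ^ f) ^ 8 - 1) * ((p ^ f) ^ 12 - 1) * ((p ^ f) ^ 14 - 1) *
      ((p ^ f) ^ 18 - 1) * ((p ^ f) ^ 20 - 1) * ((p ^ f) ^ 24 - 1) * ((p ^ f) ^ 30 - 1))) hc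
  simp only [hp.dvd_mul, not_or]
  exact ⟨⟨⟨⟨⟨⟨⟨not_dvd_sub hp hf (by norm_num), not_dvd_sub hp hf (by norm_num)⟩,
    not_dvd_sub hp hf (by norm_num)⟩, not_dvd_sub hp hf (by norm_num)⟩, not_dvd_sub hp hf (by norm_num)⟩,
    not_dvd_sub hp hf (by norm_num)⟩, not_dvd_sub hp hf (by norm_num)⟩, not_dvd_sub hp hf (by norm_num)⟩

theorem v_te6 (h : den (.te6 (p ^ f)) * c = num (.te6 (p ^ f))) (hc : c ≠ 0) : c.factorization p = f * 36 := by
  refine fac_eq hp (Nat.Coprime.coprime_dvd_left (Nat.gcd_dvd_right _ _) (cop_add hp hf)) ?_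
    (h : Nat.gcd 3 (p ^ f + 1) * c = (p ^ f) ^ 36 * (((p ^ f) ^ 2 - 1) * ((p ^ f) ^ 5 + 1) * ((p ^ f) ^ 6 - 1) *
      ((p ^ f) ^ 8 - 1) * ((p ^ f) ^ 9 + 1) * ((p ^ f) ^ 12 - 1))) hc
  simp only [hp.dvd_mul, not_or]
  exact ⟨⟨⟨⟨⟨not_dvd_sub hp hf (by norm_num), not_dvd_add hp hf (by norm_num)⟩, not_dvd_sub hp hf (by norm_num)⟩,
    not_dvd_sub hp hf (by norm_num)⟩, not_dvd_add hp hf (by norm_num)⟩, not_dvd_sub hp hf (by norm_num)⟩

theorem not_dvd_td4 : ¬ p ∣ (p ^ f) ^ 8 + (p ^ f) ^ 4 + 1 := by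
  intro h
  have h1 : p ∣ (p ^ f) ^ 8 + (p ^ f) ^ 4 :=
    dvd_add (dvd_pow (dvd_pow_self p hf) (by norm_num)) (dvd_pow (dvd_pow_self p hf) (by norm_num))
  exact hp.one_lt.ne' (Nat.dvd_one.1 ((Nat.dvd_add_right h1).1 h))

theorem v_td4 (h : den (.td4 (p ^ f)) * c = num (.td4 (p ^ f))) (hc : c ≠ 0) : c.factorization p = f * 12 := by
  refine fac_eq hp (Nat.coprime_one_left p) ?_
    (h : 1 * c = (p ^ f) ^ 12 * (((p ^ f) ^ 2 - 1) * ((p ^ f) ^ 6 - 1) * ((p ^ f) ^ 8 + (p ^ f) ^ 4 + 1))) hc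
  simp only [hp.dvd_mul, not_or]
  exact ⟨⟨not_dvd_sub hp hf (by norm_num), not_dvd_sub hp hf (by norm_num)⟩, not_dvd_td4 hp hf⟩

theorem v_ree (h : den (.ree (p ^ f)) * c = num (.ree (p ^ f))) (hc : c ≠ 0) : c.factorization p = f * 3 := by
  refine fac_eq hp (Nat.coprime_one_left p) ?_
    (h : 1 * c = (p ^ f) ^ 3 * ((p ^ f - 1) * ((p ^ f) ^ 3 + 1))) hc
  simp only [hp.dvd_mul, not_or]
  refine ⟨?_, not_dvd_add hp hf (by norm_num)⟩
  have := not_dvd_sub hp hf (i := 1) (by norm_num)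
  rwa [pow_one] at this

theorem v_sz (h : den (.sz (p ^ f)) * c = num (.sz (p ^ f))) (hc : c ≠ 0) : c.factorization p = f * 2 := by
  refine fac_eq hp (Nat.coprime_one_left p) ?_
    (h : 1 * c = (p ^ f) ^ 2 * ((p ^ f - 1) * ((p ^ f) ^ 2 + 1))) hc
  simp only [hp.dvd_mul, not_or]
  refine ⟨?_, not_dvd_add hp hf (by norm_num)⟩
  have := not_dvd_sub hp hf (i := 1) (by norm_num)
  rwa [pow_one] at this

theorem v_tf4 (h : den (.tf4 (p ^ f)) * c = num (.tf4 (p ^ f))) (hc : c ≠ 0) : c.factorization p = f * 12 := by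
  refine fac_eq hp (Nat.coprime_one_left p) ?_
    (h : 1 * c = (p ^ f) ^ 12 * ((p ^ f - 1) * ((p ^ f) ^ 3 + 1) * ((p ^ f) ^ 4 - 1) * ((p ^ f) ^ 6 + 1))) hc
  simp only [hp.dvd_mul, not_or]
  refine ⟨⟨⟨?_, not_dvd_add hp hf (by norm_num)⟩, not_dvd_sub hp hf (by norm_num)⟩, not_dvd_add hp hf (by norm_num)⟩
  have := not_dvd_sub hp hf (i := 1) (by norm_num)
  rwa [pow_one] at this

end

/-! ### primitive primes -/

section

variable {w : ℕ}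

/-- the unitary groups: `q ^ k + 1`, `k` odd -/
theorem prim_psu {n k q : ℕ} (hk : k ≤ n) (hk2 : 2 ≤ k) (hodd : Odd k) (h : den (.psu n q) * c = num (.psu n q))
    (hw : Prim q (2 * k) w) : w ∣ c := by
  refine psu_prim_aux (i := k - 1) (by omega) (by omega) h hw ?_
  have h1 : fU q (k - 1) = q ^ k + 1 := by
    unfold fU
    rw [if_pos, Nat.sub_add_cancel (by omega)]
    obtain ⟨j, rfl⟩ := hodd
    rw [Nat.beq_eq]
    omega
  rw [h1]
  exact hw.dvd_add dvd_rfl fun hd => by have := Nat.le_of_dvd (by omega) hd; omega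

theorem prim_psl_two {q : ℕ} (h : den (.psl 2 q) * c = num (.psl 2 q))
    (hw : Prim q 2 w) (h2 : w ≠ 2) : w ∣ c := by
  have h1 : Nat.gcd 2 (q - 1) * (q - 1) * c = glN 2 q := h
  have h3 : w ∣ glN 2 q := by
    have h4 := dvd_list (fun i => q ^ 2 - q ^ i) (n := 2) (i := 0) (by norm_num)
    simp only [pow_zero] at h4
    exact (hw.dvd dvd_rfl).trans h4
  rw [← h1] at h3
  rcases hw.prime.dvd_mul.1 h3 with h4 | h4
  · exfalso
    rcases hw.prime.dvd_mul.1 h4 with h5 | h5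
    · exact h2 ((Nat.prime_dvd_prime_iff_eq hw.prime Nat.prime_two).1 (h5.trans (Nat.gcd_dvd_left _ _)))
    · have h6 : w ∣ q ^ 1 - 1 := by rwa [pow_one]
      have := Nat.le_of_dvd one_pos ((hw.dvd_iff 1).1 h6)
      omega
  · exact h4

end

end Cfsg.Agent.H425.PartP
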