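import Cfsg.Agent.H425.ChrAd2
import Cfsg.Agent.H420.LTwo
import Cfsg.Agent.UGT.U2.Rec.Congr

/-!
# Same characteristic: the end (helper425)

* `plus_surv`, `minus_surv`, `lin_surv`, `odd_surv` : `S` named over a field of characteristic `p`, satisfying the
  conditions `SHyp L S`: the remaining names;
* `plus_three_odd` : `L = PΩ⁺_2n(3)`, `n ≥ 5` odd: `S ≅ L`.
-/

set_option autoImplicit false

namespace Cfsg.Agent.H425.Chr

open Cfsg Cfsg.Agent.OrdDiv Cfsg.Agent.H436 Cfsg.Agent.H420.QR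

universe u v

variable {p f : ℕ}

/-- two primes of the same class in a projective special linear group -/
theorem psl_adj {S : Type u} [Group S] [Finite S] {m q : ℕ} (hg : IsNamed (.psl m q) S) {v w k l : ℕ}
    (hk : 3 ≤ k) (hkl : k ∣ l) (hkm : l ≤ m) (hv : Prim q k v) (hw : Prim q l w) (hvw : v ≠ w) (hq : 2 ≤ q) :
    ∃ x : S, orderOf x = v * w := by
  obtain ⟨F, _, _, hF, ⟨e⟩⟩ := hg.real
  have hm : 2 ≤ m := hg.cond.1
  obtain ⟨p, hp⟩ := CharP.exists F
  have hpp : Fact p.Prime := ⟨CharP.char_is_prime F p⟩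
  have hpd : p ∣ q := by
    rw [← hF]
    exact (CharP.cast_eq_zero_iff F p _).1 (FiniteField.cast_card_eq_zero F)
  have hl0 : 0 < l := by
    rcases Nat.eq_zero_or_pos l with h0 | h0
    · exfalso
      subst h0
      have h1 := (hw.dvd_iff (w - 1)).1 (by
        have := Fact.mk hw.prime
        have h2 : ((q : ℕ) : ZMod w) ≠ 0 := by
          rw [Ne, ZMod.natCast_eq_zero_iff]
          exact hw.not_dvd
        have h3 := ZMod.pow_card_sub_one_eq_one h2
        rw [← Nat.cast_pow] at h3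
        have h4 : 1 ≤ q ^ (w - 1) := Nat.one_le_pow _ _ (by omega)
        rw [← ZMod.natCast_eq_zero_iff, Nat.cast_sub h4, h3, Nat.cast_one, sub_self])
      have := Nat.eq_zero_of_zero_dvd h1
      have := hw.prime.two_le
      omega
    · exact h0
  have hle : k ≤ l := Nat.le_of_dvd hl0 hkl
  have hc := Nat.card_congr e.toEquiv
  have hd : ∀ {j z : ℕ}, 3 ≤ j → j ≤ m → Prim q j z → z ∣ Nat.card (Matrix.ProjectiveSpecialLinearGroup (Fin m) F) :=
    fun {j z} hj hjm hz => by
      rw [← hc]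
      exact (dvd_iff hq hj hz (g := .psl m q) rfl hg.eq).2 hjm
  have hne : ∀ {j z : ℕ}, 3 ≤ j → Prim q j z → z ≠ 2 ∧ z ≠ p := fun {j z} hj hz => by
    refine ⟨by have := hz.odd (by omega); omega, ?_⟩
    rintro rfl
    exact hz.not_dvd hpd
  have h := S2468.result (F := F) p m hm (by omega) v w hv.prime hw.prime (hne hk hv).1 (hne (by omega) hw).1
    (hne hk hv).2 (hne (by omega) hw).2 hvw (hd hk (by omega) hv) (hd (by omega) hkm hw) k l
    (by rw [hF, prim_orderOf (by omega) hv]) (by rw [hF, prim_orderOf (by omega) hw]) (by omega) hle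
  by_contra hcon
  have h1 : v * w ∉ Set.range (orderOf : Matrix.ProjectiveSpecialLinearGroup (Fin m) F → ℕ) := by
    rintro ⟨y, hy⟩
    exact hcon ⟨e.symm y, by rw [MulEquiv.orderOf_eq, hy]⟩
  exact (h.1 h1).2 hkl

/-- over `p ^ 2`, the classes `e` and `2 e`, `e` odd, are adjacent -/
theorem psl_sq_adj (hp : p.Prime) {S : Type u} [Group S] [Finite S] {m : ℕ} (hg : IsNamed (.psl m (p ^ 2)) S)
    {e v w : ℕ} (he : 3 ≤ e) (hodd : e % 2 = 1) (hem : e ≤ m) (hv : Prim p e v) (hw : Prim p (2 * e) w) :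
    ∃ x : S, orderOf x = v * w := by
  have hv' := prim_quot (f := 2) (by norm_num) hv
  have hw' := prim_quot (f := 2) (by norm_num) hw
  have h1 : Nat.gcd e 2 = 1 := (Nat.coprime_two_left.mpr (Nat.odd_iff.2 hodd)).symm
  have h2 : Nat.gcd (2 * e) 2 = 2 := Nat.gcd_eq_right (Nat.dvd_mul_right 2 e)
  rw [h1, Nat.div_one] at hv'
  rw [h2, Nat.mul_div_cancel_left _ (by norm_num)] at hw'
  refine psl_adj hg he dvd_rfl hem hv' hw' ?_ ?_
  · rintro rfl
    have := hv.unique hw
    omega
  · have := hp.two_le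
    nlinarith

/-- the names which remain for `D_n(p)` -/
def SurvPlus' (p n : ℕ) (g : Grp) : Prop :=
  g = .oplus n p ∨ g = .psp (n - 1) p ∨ g = .oodd (n - 1) p ∨ g = .ominus (n - 1) p ∨
    (n % 2 = 0 ∧ g = .oplus (n - 1) p) ∨ (n = 10 ∧ g = .e7 p)

theorem plus_surv {F : Type*} [Field F] [Fintype F] (hp : p.Prime) (hp2 : p ≠ 2) (hF : Fintype.card F = p) {n : ℕ}
    (hn : 5 ≤ n) {S : Type u} [Group S] [Finite S] (h : SHyp (POmega F (quadFormPlus n F)) S) {g : Grp}
    (hg : IsNamed g S) (hf : f ≠ 0) (hq : qOf g = p ^ f) : SurvPlus' p n g := by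
  have P := plus_of_sHyp hp hp2 hF hn h
  have H := dat_of_named hg hp hp2 hf hq
  have hex : ∀ e, 3 ≤ e → ∃ w, Prim p e w := fun e he => exists_prim hp.two_le he (fun h => hp2 h.1)
  rcases P.main H with h1 | h1
  · rcases h1 with h1 | h1 | h1 | h1 | h1 | h1 | ⟨rfl, h1⟩
    · exact Or.inl h1
    · exact Or.inr (Or.inl h1)
    · exact Or.inr (Or.inr (Or.inl h1))
    · exact Or.inr (Or.inr (Or.inr (Or.inl h1)))
    · exact Or.inr (Or.inr (Or.inr (Or.inr (Or.inl h1))))
    · exact Or.inr (Or.inr (Or.inr (Or.inr (Or.inr h1))))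
    · exfalso
      subst h1
      obtain ⟨v, hv⟩ := hex 3 le_rfl
      obtain ⟨w, hw⟩ := hex 6 (by norm_num)
      have hvw : v ≠ w := by
        rintro rfl
        have := hv.unique hw
        omega
      have hx := psl_adj hg (k := 3) (l := 6) le_rfl (by norm_num) le_rfl hv hw hvw hp.two_le
      refine plus_cls hp hp2 hF (n := 5) (by norm_num) (k := 3) (l := 6) le_rfl (by norm_num) (by norm_num) ?_ ?_
        v w hv hw (h.adj v w hv.prime hw.prime hvw hx)
      · rw [eta_odd (by norm_num), eta_even (by norm_num)]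
        norm_num
      · exact not_oddM (by norm_num) (by norm_num) (by norm_num) fun h => by norm_num at h
  · exfalso
    subst h1
    obtain ⟨o, ho, ho2⟩ : ∃ o, (o = n - 1 ∨ o = n - 2) ∧ o % 2 = 1 := by
      rcases Nat.mod_two_eq_zero_or_one n with h | h
      · exact ⟨n - 1, Or.inl rfl, by omega⟩
      · exact ⟨n - 2, Or.inr rfl, by omega⟩
    obtain ⟨v, hv⟩ := hex o (by omega)
    obtain ⟨w, hw⟩ := hex (2 * o) (by omega)
    have hvw : v ≠ w := by
      rintro rfl
      have := hv.unique hw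
      omega
    have hx := psl_sq_adj hp hg (by omega) ho2 (by omega) hv hw
    refine plus_cls hp hp2 hF (n := n) (by omega) (k := o) (l := 2 * o) (by omega) (by omega) (by omega) ?_ ?_
      v w hv hw (h.adj v w hv.prime hw.prime hvw hx)
    · rw [eta_odd ho2, eta_even (by omega)]
      omega
    · exact not_oddM (by omega) (by omega) (by omega) fun h => by omega

theorem minus_surv {F : Type*} [Field F] [Fintype F] (hp : p.Prime) (hp2 : p ≠ 2) (hF : Fintype.card F = p) {n : ℕ}
    (hn : 5 ≤ n) (hodd : n % 2 = 1)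
    {a b : F} (hab : ∀ z₁ z₂ : F, z₁ ^ 2 + a * z₁ * z₂ + b * z₂ ^ 2 = 0 → z₁ = 0 ∧ z₂ = 0)
    {S : Type u} [Group S] [Finite S] (h : SHyp (POmega F (quadFormMinus (n - 1) F a b)) S) {g : Grp}
    (hg : IsNamed g S) (hf : f ≠ 0) (hq : qOf g = p ^ f) : SurvMinus p n g := by
  have P := minus_of_sHyp hp hp2 hF hn hodd hab h
  have H := dat_of_named hg hp hp2 hf hq
  have hex : ∀ e, 3 ≤ e → ∃ w, Prim p e w := fun e he => exists_prim hp.two_le he (fun h => hp2 h.1)
  rcases P.main H with h1 | h1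
  · exact h1
  · exfalso
    subst h1
    obtain ⟨v, hv⟩ := hex (n - 2) (by omega)
    obtain ⟨w, hw⟩ := hex (2 * (n - 2)) (by omega)
    have hvw : v ≠ w := by
      rintro rfl
      have := hv.unique hw
      omega
    have hx := psl_sq_adj hp hg (by omega) (by omega) (by omega) hv hw
    refine minus_cls hp hp2 hF (n := n) (by omega) hab (k := n - 2) (l := 2 * (n - 2)) (by omega) (by omega)
      (by omega) ?_ ?_ v w hv hw (h.adj v w hv.prime hw.prime hvw hx)
    · rw [eta_odd (by omega), eta_even (by omega)]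
      omega
    · exact not_oddM (by omega) (by omega) (by omega) fun h => by omega

theorem lin_surv {F : Type*} [Field F] [Fintype F] (hp : p.Prime) (hp2 : p ≠ 2) (hF : Fintype.card F = p) {n : ℕ}
    (hn : 9 ≤ n) {S : Type u} [Group S] [Finite S] (h : SHyp (Matrix.ProjectiveSpecialLinearGroup (Fin n) F) S)
    {g : Grp} (hg : IsNamed g S) (hf : f ≠ 0) (hq : qOf g = p ^ f) : g = .psl n p ∨ g = .psl (n - 1) p :=
  (lin_of_sHyp hp hp2 hF hn h).main (dat_of_named hg hp hp2 hf hq)

theorem odd_surv {F : Type*} [Field F] [Fintype F] (hp : p.Prime) (hp2 : p ≠ 2) (hF : Fintype.card F = p) {n : ℕ}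
    (hn : 6 ≤ n) {S : Type u} [Group S] [Finite S] (h : SHyp (POmega F (quadFormOdd n F)) S) {g : Grp}
    (hg : IsNamed g S) (hf : f ≠ 0) (hq : qOf g = p ^ f) : SurvOdd p n g := by
  have P := odd_of_sHyp hp hp2 hF hn h
  have H := dat_of_named hg hp hp2 hf hq
  have hex : ∀ e, 3 ≤ e → ∃ w, Prim p e w := fun e he => exists_prim hp.two_le he (fun h => hp2 h.1)
  obtain ⟨o, ho, ho2⟩ : ∃ o, (o = n - 1 ∨ o = n - 2) ∧ o % 2 = 1 := by
    rcases Nat.mod_two_eq_zero_or_one n with h | h
    · exact ⟨n - 1, Or.inl rfl, by omega⟩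
    · exact ⟨n - 2, Or.inr rfl, by omega⟩
  obtain ⟨v, hv⟩ := hex o (by omega)
  obtain ⟨w, hw⟩ := hex (2 * o) (by omega)
  have hvw : v ≠ w := by
    rintro rfl
    have := hv.unique hw
    omega
  have key : ∀ m, o ≤ m → ¬ IsNamed (.psl m (p ^ 2)) S := fun m hm hg => by
    have hx := psl_sq_adj hp hg (by omega) ho2 hm hv hw
    refine odd_cls hp hp2 hF (n := n) (by omega) (k := o) (l := 2 * o) (by omega) (by omega) (by omega) ?_ ?_
      v w hv hw (h.adj v w hv.prime hw.prime hvw hx)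
    · rw [eta_odd ho2, eta_even (by omega)]
      omega
    · exact not_oddM (by omega) (by omega) (by omega) fun h => by omega
  rcases P.main H with h1 | h1 | ⟨-, h1⟩
  · exact h1
  · subst h1
    exact absurd hg (key _ (by omega))
  · subst h1
    exact absurd hg (key _ (by omega))

/-! ### `L = PΩ⁺_2n(3)`, `n` odd -/

theorem quadFormPlus_map {F F' : Type*} [Field F] [Field F'] (σ : F ≃+* F') (m : ℕ) (v : Fin m ⊕ Fin m → F) :
    quadFormPlus m F' (σ ∘ v) = σ (quadFormPlus m F v) := by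
  simp [quadFormPlus, map_sum, map_mul]

/-- change of the field -/
theorem nonempty_plus {F F' : Type*} [Field F] [Fintype F] [Field F'] [Fintype F']
    (h : Fintype.card F = Fintype.card F') (m : ℕ) :
    Nonempty (POmega F (quadFormPlus m F) ≃* POmega F' (quadFormPlus m F')) := by
  obtain ⟨σ⟩ : Nonempty (F ≃+* F') := ⟨FiniteField.ringEquivOfCardEq h⟩
  exact UGT.U2.Rec.Congr.nonempty_POmega σ (quadFormPlus_map σ m)

theorem named_oplus {F : Type*} [Field F] [Fintype F] (hF : Fintype.card F = p) {n : ℕ} {S : Type u} [Group S]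
    (hg : IsNamed (.oplus n p) S) : Nonempty (S ≃* POmega F (quadFormPlus n F)) := by
  obtain ⟨F', _, _, hF', ⟨e⟩⟩ := hg.real
  obtain ⟨e'⟩ := nonempty_plus (hF'.trans hF.symm) n
  exact ⟨e.trans e'⟩

/-- **`L = PΩ⁺_2n(3)`, `n ≥ 5` odd, `S` of characteristic three.** -/
theorem plus_three_odd {F : Type*} [Field F] [Fintype F] (hF : Fintype.card F = 3) {n : ℕ} (hn : 5 ≤ n) (hodd : Odd n)
    {S : Type u} [Group S] [Finite S] (h : SHyp (POmega F (quadFormPlus n F)) S)
    (hA : ¬ Cfsg.Agent.H414.Rad.AltL2 S) {g : Grp}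
    (hg : IsNamed g S) (hf : f ≠ 0) (hq : qOf g = 3 ^ f) : Nonempty (S ≃* POmega F (quadFormPlus n F)) := by
  have hp := Nat.prime_three
  have hodd' : n % 2 = 1 := Nat.odd_iff.1 hodd
  obtain ⟨r, hr⟩ := exists_prim (q := 3) (e := n) (by norm_num) (by omega) (by omega)
  have h1 : r ∣ Nat.card S := by
    refine (h.two.resolve_left hA) r hr.prime ?_ ?_ ?_
    · have := hr.odd (by omega)
      omega
    · exact (plus_dvd hp hF (by omega) (by omega) hr).2 (by omega)
    · refine two_nonadj hF hodd (by omega) hr.prime ?_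
      have := prim_orderOf (by norm_num) hr
      exact_mod_cast this
  have h2 : In 3 (Nat.card S) n := ⟨r, hr, h1⟩
  have key : ∀ {g' : Grp}, qOf g' = 3 → IsNamed g' S → K g' n := fun {g'} hq' hg' =>
    ((dat_of_named hg' hp (by norm_num) one_ne_zero (by rw [hq', pow_one])).in_one (by omega)).1 h2
  rcases plus_surv hp (by norm_num) hF hn h hg hf hq with rfl | rfl | rfl | rfl | ⟨h3, -⟩ | ⟨h3, -⟩
  · exact named_oplus hF hg
  · exfalso
    have h4 := (K_psp (by omega)).1 (key rfl hg)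
    omega
  · exfalso
    have h4 := (K_oodd (by omega)).1 (key rfl hg)
    omega
  · exfalso
    have h4 := (K_ominus (by omega) (by omega)).1 (key rfl hg)
    omega
  · omega
  · omega

end Cfsg.Agent.H425.Chr
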