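import Cfsg.Agent.H425.Siegel
import Cfsg.Agent.H425.ChrEnd

/-!
# Moved `p`-subgroups of the named classical groups over the prime field (helper425)

`p` an odd prime, `Prim p e r`, `2 ≤ e ≤ k`: `Mov S p r` for `S` named `.psl (k + 1) p`, `.psp k p`, `.oodd k p`,
`.oplus k p`, `.ominus (k + 1) p`.
-/

set_option autoImplicit false

namespace Cfsg.Agent.H425.Siegel

open Matrix Subgroup
open Cfsg.Agent.H425.KStep Cfsg.Agent.H425.Torus
open Cfsg.Agent.OrdDiv Cfsg.Agent.H436 Cfsg.Agent.H425.Chr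

section sl

variable {F : Type*} [Field F] {k : ℕ}

/-- the reindexing -/
def rX (k : ℕ) (F : Type*) [Field F] : Matrix (Fin k ⊕ Fin 1) (Fin k ⊕ Fin 1) F ≃ₐ[F] Matrix (Fin (k + 1)) (Fin (k + 1)) F :=
  Matrix.reindexAlgEquiv F F finSumFinEquiv

/-- the Levi block -/
def lv (A : GL (Fin k) F) : Matrix (Fin k ⊕ Fin 1) (Fin k ⊕ Fin 1) F :=
  fromBlocks (A : Matrix (Fin k) (Fin k) F) 0 0 ((A : Matrix (Fin k) (Fin k) F).det⁻¹ • 1)

theorem lv_mul (A B : GL (Fin k) F) : lv (A * B) = lv A * lv B := by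
  rw [lv, lv, lv, fromBlocks_multiply, Units.val_mul, Matrix.det_mul, _root_.mul_inv]
  simp [smul_smul, mul_comm]

theorem lv_one : lv (1 : GL (Fin k) F) = 1 := by
  rw [lv, Units.val_one, Matrix.det_one, inv_one, one_smul, fromBlocks_one]

theorem det_ne (A : GL (Fin k) F) : (A : Matrix (Fin k) (Fin k) F).det ≠ 0 :=
  ((Matrix.isUnit_iff_isUnit_det _).1 A.isUnit).ne_zero

theorem det_lv (A : GL (Fin k) F) : (lv A).det = 1 := by
  rw [lv, Matrix.det_fromBlocks_zero₂₁, Matrix.det_smul, Matrix.det_one, Fintype.card_fin, pow_one, mul_one,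
    mul_inv_cancel₀ (det_ne A)]

/-- the Levi subgroup -/
def dgL (k : ℕ) (F : Type*) [Field F] : GL (Fin k) F →* Matrix.SpecialLinearGroup (Fin (k + 1)) F where
  toFun A := ⟨rX k F (lv A), by rw [rX, Matrix.det_reindexAlgEquiv, det_lv]⟩
  map_one' := by
    apply Subtype.ext
    change rX k F (lv 1) = 1
    rw [lv_one, map_one]
  map_mul' A B := by
    apply Subtype.ext
    change rX k F (lv (A * B)) = rX k F (lv A) * rX k F (lv B)
    rw [lv_mul, map_mul]

theorem dgL_injective : Function.Injective (dgL k F) := by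
  intro A B h
  have h1 : rX k F (lv A) = rX k F (lv B) := congrArg Subtype.val h
  exact Units.ext (fromBlocks_inj.mp ((rX k F).injective h1)).1

/-- the unipotent radical -/
def uniL (k : ℕ) (F : Type*) [Field F] :
    Multiplicative (Matrix (Fin k) (Fin 1) F) →* Matrix.SpecialLinearGroup (Fin (k + 1)) F where
  toFun B := ⟨rX k F (fromBlocks 1 (Multiplicative.toAdd B) 0 1), by
    rw [rX, Matrix.det_reindexAlgEquiv, Matrix.det_fromBlocks_zero₂₁, Matrix.det_one, Matrix.det_one, one_mul]⟩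
  map_one' := by
    apply Subtype.ext
    change rX k F (fromBlocks 1 (0 : Matrix (Fin k) (Fin 1) F) 0 1) = 1
    rw [fromBlocks_one, map_one]
  map_mul' A B := by
    apply Subtype.ext
    change rX k F (fromBlocks 1 (Multiplicative.toAdd A + Multiplicative.toAdd B) 0 1) =
      rX k F (fromBlocks 1 (Multiplicative.toAdd A) 0 1) * rX k F (fromBlocks 1 (Multiplicative.toAdd B) 0 1)
    rw [← map_mul, fromBlocks_multiply]
    simp [add_comm]

theorem uniL_injective : Function.Injective (uniL k F) := by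
  intro A B h
  have h1 : rX k F (fromBlocks 1 (Multiplicative.toAdd A) 0 1) = rX k F (fromBlocks 1 (Multiplicative.toAdd B) 0 1) :=
    congrArg Subtype.val h
  exact (fromBlocks_inj.mp ((rX k F).injective h1)).2.1

theorem conj_L (A : GL (Fin k) F) (B : Matrix (Fin k) (Fin 1) F) :
    lv A * fromBlocks 1 B 0 1 =
      fromBlocks 1 ((A : Matrix (Fin k) (Fin k) F).det • ((A : Matrix (Fin k) (Fin k) F) * B)) 0 1 * lv A := by
  rw [lv, fromBlocks_multiply, fromBlocks_multiply]
  simp only [Matrix.mul_one, Matrix.mul_zero, Matrix.zero_mul, add_zero, zero_add, Matrix.one_mul, Matrix.mul_smul]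
  rw [smul_smul, inv_mul_cancel₀ (det_ne A), one_smul]

theorem mov_sl [Fintype F] {p : ℕ} [CharP F p] {e r : ℕ} (hr : r.Prime) (he1 : 1 ≤ e) (he : e ≤ k)
    (h : r ∣ Fintype.card F ^ e - 1) (h1 : ¬ r ∣ Fintype.card F - 1) :
    Mov (Matrix.SpecialLinearGroup (Fin (k + 1)) F) p r := by
  obtain ⟨A, hA⟩ := exists_gl (F := F) hr he1 he h
  obtain ⟨B, hne⟩ : ∃ B : Matrix (Fin k) (Fin 1) F,
      (A : Matrix (Fin k) (Fin k) F).det • ((A : Matrix (Fin k) (Fin k) F) * B) ≠ B := by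
    by_contra hcon
    push Not at hcon
    set c := (A : Matrix (Fin k) (Fin k) F).det with hc
    have hc0 : c ≠ 0 := det_ne A
    have h2 : (A : Matrix (Fin k) (Fin k) F) = c⁻¹ • 1 := by
      ext i j
      have h3 := congrFun (congrFun (hcon (Matrix.single j 0 1)) i) 0
      rw [Matrix.smul_apply, Matrix.mul_single_apply_same, smul_eq_mul, mul_one] at h3
      rw [Matrix.smul_apply, smul_eq_mul]
      by_cases hij : i = j
      · subst hij
        rw [Matrix.single_apply_same] at h3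
        rw [Matrix.one_apply_eq, mul_one]
        exact eq_inv_of_mul_eq_one_right h3
      · rw [Matrix.single_apply_of_row_ne (Ne.symm hij)] at h3
        rw [Matrix.one_apply_ne hij, mul_zero]
        exact (mul_eq_zero.1 h3).resolve_left hc0
    apply h1
    rw [← hA]
    apply orderOf_dvd_of_pow_eq_one
    apply Units.ext
    rw [Units.val_pow_eq_pow_val, h2, Units.val_one, smul_pow, one_pow, inv_pow, FiniteField.pow_card_sub_one_eq_one c hc0,
      inv_one, one_smul]
  refine mov_of_homs (V := Matrix (Fin k) (Fin 1) F) (A := GL (Fin k) F) (p := p) ?_ (dgL k F) (uniL k F) uniL_injective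
    (fun A B => (A : Matrix (Fin k) (Fin k) F).det • ((A : Matrix (Fin k) (Fin k) F) * B)) ?_ (a := A)
    (by rw [orderOf_injective _ dgL_injective, hA]) (v := B) hne
  · intro v
    rw [← Nat.cast_smul_eq_nsmul F, CharP.cast_eq_zero, zero_smul]
  · intro A B
    rw [mul_inv_eq_iff_eq_mul]
    apply Subtype.ext
    change rX k F (lv A) * rX k F _ = rX k F _ * rX k F (lv A)
    rw [← map_mul, ← map_mul]
    exact congrArg (rX k F) (conj_L A B)

theorem center_sl [Fintype F] {n p : ℕ} [CharP F p] (hp : p.Prime) :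
    ¬ p ∣ Nat.card (Subgroup.center (Matrix.SpecialLinearGroup (Fin n) F)) := by
  intro h
  have : Fact p.Prime := ⟨hp⟩
  obtain ⟨z, hz⟩ := exists_prime_orderOf_dvd_card' p h
  obtain ⟨c, -, hc⟩ := Matrix.SpecialLinearGroup.mem_center_iff.1 z.2
  have hz' : orderOf (z : Matrix.SpecialLinearGroup (Fin n) F) = p := by rw [Subgroup.orderOf_coe, hz]
  have hq : p ∣ Fintype.card F := by
    rw [← CharP.cast_eq_zero_iff F p]
    exact FiniteField.cast_card_eq_zero F
  have h1 : p ∣ Fintype.card F - 1 := by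
    rw [← hz']
    apply orderOf_dvd_of_pow_eq_one
    apply Subtype.ext
    change ((z : Matrix.SpecialLinearGroup (Fin n) F) : Matrix (Fin n) (Fin n) F) ^ (Fintype.card F - 1) = 1
    rcases eq_or_ne n 0 with rfl | hn
    · ext i
      exact i.elim0
    · have hc0 : c ≠ 0 := by
        rintro rfl
        have h2 := (z : Matrix.SpecialLinearGroup (Fin n) F).2
        rw [← hc] at h2
        have : Nonempty (Fin n) := ⟨⟨0, Nat.pos_of_ne_zero hn⟩⟩
        rw [map_zero, Matrix.det_zero] at h2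
        exact zero_ne_one h2
      rw [← hc, ← map_pow, FiniteField.pow_card_sub_one_eq_one c hc0, map_one]
  have h2 : 1 ≤ Fintype.card F := Fintype.card_pos
  have h3 := (Nat.dvd_sub hq h1)
  rw [Nat.sub_sub_self h2] at h3
  exact hp.one_lt.ne' (Nat.dvd_one.1 h3)

theorem mov_psl [Fintype F] {p : ℕ} [CharP F p] (hp : p.Prime) {e r : ℕ} (hr : r.Prime) (he1 : 1 ≤ e) (he : e ≤ k)
    (h : r ∣ Fintype.card F ^ e - 1) (h1 : ¬ r ∣ Fintype.card F - 1) :
    Mov (Matrix.ProjectiveSpecialLinearGroup (Fin (k + 1)) F) p r :=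
  have : Finite (Matrix.SpecialLinearGroup (Fin (k + 1)) F) := Finite.of_injective _ Subtype.val_injective
  mov_quot _ (center_sl hp) hp hr (mov_sl hr he1 he h h1)

end sl

/-! ### the named groups -/

section named

universe u

variable {S : Type u} [Group S] {p e r k : ℕ}

theorem prim_data (h2 : 2 ≤ e) (hr : Prim p e r) (hp : 1 ≤ p) : r.Prime ∧ r ≠ 2 ∧ r ∣ p ^ e - 1 ∧ ¬ r ∣ p - 1 := by
  refine ⟨hr.prime, ?_, (hr.dvd_iff e).2 dvd_rfl, ?_⟩
  · have := hr.odd (by omega)
    omega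
  · intro h
    have h3 := (hr.dvd_iff 1).1 (by rwa [pow_one])
    have := Nat.le_of_dvd one_pos h3
    omega

theorem charP_of (hp : p.Prime) {F : Type} [Field F] [Fintype F] (hF : Fintype.card F = p) : CharP F p := by
  have : Fact p.Prime := ⟨hp⟩
  exact charP_of_card_eq_prime hF

theorem mov_named_plus (hg : IsNamed (.oplus k p) S) (hp : p.Prime) (hp2 : p ≠ 2) (hk : 3 ≤ k) (h2 : 2 ≤ e)
    (he : e ≤ k) (hr : Prim p e r) : Mov S p r := by
  obtain ⟨F, _, _, hF, ⟨f⟩⟩ := hg.real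
  have := charP_of hp hF
  obtain ⟨h3, h4, h5, -⟩ := prim_data h2 hr hp.one_lt.le
  exact (Mov.congr f).2 (mov_plus hp hp2 hk h3 h4 (by omega) he (by rwa [hF]))

theorem mov_named_odd (hg : IsNamed (.oodd k p) S) (hp : p.Prime) (hp2 : p ≠ 2) (hk : 3 ≤ k) (h2 : 2 ≤ e)
    (he : e ≤ k) (hr : Prim p e r) : Mov S p r := by
  obtain ⟨F, _, _, hF, ⟨f⟩⟩ := hg.real
  have := charP_of hp hF
  obtain ⟨h3, h4, h5, -⟩ := prim_data h2 hr hp.one_lt.le
  exact (Mov.congr f).2 (mov_odd hp hp2 hk h3 h4 (by omega) he (by rwa [hF]))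

theorem mov_named_psp (hg : IsNamed (.psp k p) S) (hp : p.Prime) (hp2 : p ≠ 2) (h2 : 2 ≤ e)
    (he : e ≤ k) (hr : Prim p e r) : Mov S p r := by
  obtain ⟨F, _, _, hF, ⟨f⟩⟩ := hg.real
  have := charP_of hp hF
  obtain ⟨h3, h4, h5, -⟩ := prim_data h2 hr hp.one_lt.le
  exact (Mov.congr f).2 (mov_psp hp hp2 h3 h4 (by omega) he (by rwa [hF]))

theorem mov_named_minus (hg : IsNamed (.ominus (k + 1) p) S) (hp : p.Prime) (hp2 : p ≠ 2) (hk : 3 ≤ k) (h2 : 2 ≤ e)
    (he : e ≤ k) (hr : Prim p e r) : Mov S p r := by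
  obtain ⟨F, _, _, a, b, hF, hab, ⟨f⟩⟩ := hg.real
  have := charP_of hp hF
  obtain ⟨h3, h4, h5, -⟩ := prim_data h2 hr hp.one_lt.le
  exact (Mov.congr f).2 (mov_minus hp hp2 hk hab h3 h4 (by omega) he (by rwa [hF]))

theorem mov_named_psl (hg : IsNamed (.psl (k + 1) p) S) (hp : p.Prime) (h2 : 2 ≤ e)
    (he : e ≤ k) (hr : Prim p e r) : Mov S p r := by
  obtain ⟨F, _, _, hF, ⟨f⟩⟩ := hg.real
  have := charP_of hp hF
  obtain ⟨h3, h4, h5, h6⟩ := prim_data h2 hr hp.one_lt.le
  exact (Mov.congr f).2 (mov_psl hp h3 (by omega) he (by rwa [hF]) (by rwa [hF]))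

end named

end Cfsg.Agent.H425.Siegel
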