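import Cfsg.Agent.H425.PartP
import Cfsg.Agent.OddHalf.Known

/-!
# Groups of Lie type in characteristic three with the order of a section of `D_n(3)` (helper425)
-/

set_option autoImplicit false

namespace Cfsg.Agent.H425.CharThree

open Cfsg Cfsg.Agent.OrdDiv Cfsg.Agent.H436 Cfsg.Agent.H425.PartP

universe u

/-- The conditions on the order `c`. -/
structure Hyp (n c : ℕ) : Prop where
  hn : 5 ≤ n
  odd : Odd n
  ne : c ≠ 0
  v : (n - 1) ^ 2 ≤ c.factorization 3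
  ppd : ∀ e w, Prim 3 e w → w ∣ c → e ≤ 2 * (n - 1) ∧ (Odd e → e ≤ n)
  alt : (∃ r, Prim 3 n r ∧ r ∣ c) ∨ c.factorization 3 = n * (n - 1)

variable {n c f : ℕ}

theorem Hyp.bound (H : Hyp n c) {e : ℕ} (he : 3 ≤ e) (h : ∀ w, Prim 3 e w → w ∣ c) :
    e ≤ 2 * (n - 1) ∧ (Odd e → e ≤ n) := by
  obtain ⟨w, hw⟩ := exists_prim (q := 3) (e := e) (by norm_num) he (by omega)
  exact H.ppd e w hw (h w hw)

theorem psl (H : Hyp n c) (hf : f ≠ 0) {m : ℕ} (hm : 2 ≤ m) (hm2 : m = 2 → 2 ≤ f)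
    (h : den (.psl m (3 ^ f)) * c = num (.psl m (3 ^ f))) : False := by
  have hv := v_psl Nat.prime_three hf h H.ne
  have h1 := H.v
  have hn := H.hn
  rw [hv] at h1
  obtain ⟨k, rfl⟩ : ∃ k, n = k + 1 := ⟨n - 1, by omega⟩
  rw [Nat.add_sub_cancel] at h1
  have hf1 : 1 ≤ f := Nat.one_le_iff_ne_zero.2 hf
  rcases Nat.lt_or_ge m 3 with h3 | h3
  · obtain rfl : m = 2 := by omega
    have hf2 := hm2 rfl
    have h2 := H.bound (e := f * 2) (by omega) (fun w hw => by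
      refine prim_psl_two h (prim_of_pow hf hw) ?_
      rintro rfl
      have h4 := (hw.dvd_iff 1).1 (by norm_num)
      have := Nat.le_of_dvd one_pos h4
      omega)
    have h4 := h2.1
    rw [Nat.add_sub_cancel] at h4
    norm_num at h1
    nlinarith
  · have h2 := H.bound (e := f * m) (by nlinarith) (fun w hw => psl_prim le_rfl h3 h (prim_of_pow hf hw))
    have h4 := h2.1
    rw [Nat.add_sub_cancel] at h4
    obtain ⟨j, rfl⟩ : ∃ j, m = j + 1 := ⟨m - 1, by omega⟩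
    rw [Nat.add_sub_cancel] at h1
    have h5 : 2 * ((j + 1) * j / 2) = (j + 1) * j := Nat.mul_div_cancel' (by
      rw [mul_comm]; exact (Nat.even_mul_succ_self j).two_dvd)
    have h6 : 2 * k ^ 2 ≤ f * (j + 1) * j := by
      calc 2 * k ^ 2 ≤ 2 * (f * ((j + 1) * j / 2)) := Nat.mul_le_mul_left _ h1
        _ = f * (2 * ((j + 1) * j / 2)) := by ring
        _ = f * (j + 1) * j := by rw [h5]; ring
    have h7 : k ≤ j := by
      have h8 : k * (2 * k) ≤ j * (2 * k) := by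
        calc k * (2 * k) = 2 * k ^ 2 := by ring
          _ ≤ f * (j + 1) * j := h6
          _ ≤ 2 * k * j := Nat.mul_le_mul_right _ h4
          _ = j * (2 * k) := by ring
      exact Nat.le_of_mul_le_mul_right h8 (by omega)
    have hf' : f = 1 := by
      by_contra hne
      have : 2 ≤ f := by omega
      have : 2 * (j + 1) ≤ f * (j + 1) := Nat.mul_le_mul_right _ this
      omega
    subst hf'
    have h8 : j + 1 < k + 1 + 2 := by
      by_contra hge
      push Not at hge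
      have h9 := H.bound (e := k + 1 + 2) (by omega) (fun w hw => psl_prim (e := k + 1 + 2) hge (by omega) h
        (prim_of_pow hf (by rwa [one_mul])))
      have h10 := h9.2 (H.odd.add_even even_two)
      omega
    rw [one_mul] at h6
    have h9 : j ≤ k + 1 := by omega
    have h10 : (j + 1) * j ≤ (k + 2) * (k + 1) := Nat.mul_le_mul (by omega) h9
    nlinarith

theorem mid {k f m : ℕ} (hk : 4 ≤ k) (h1 : k ^ 2 ≤ f * m ^ 2) (h4 : f * m ≤ k) : m = k ∧ f = 1 := by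
  have hf : f ≠ 0 := by
    rintro rfl
    rw [zero_mul] at h1
    have : 4 ^ 2 ≤ k ^ 2 := Nat.pow_le_pow_left hk 2
    omega
  have h7 : k ≤ m := by
    have h8 : k * k ≤ m * k := by
      calc k * k = k ^ 2 := by ring
        _ ≤ f * m ^ 2 := h1
        _ = f * m * m := by ring
        _ ≤ k * m := Nat.mul_le_mul_right _ h4
        _ = m * k := by ring
    exact Nat.le_of_mul_le_mul_right h8 (by omega)
  have h8 : m ≤ f * m := Nat.le_mul_of_pos_left m (Nat.pos_of_ne_zero hf)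
  have h9 : m = k := by omega
  refine ⟨h9, ?_⟩
  subst h9
  have h10 : f * m ≤ 1 * m := by rwa [one_mul]
  have := Nat.le_of_mul_le_mul_right h10 (by omega)
  omega

theorem psp_aux (H : Hyp n c) (hf : f ≠ 0) {m : ℕ} (hm : 2 ≤ m) (hv : c.factorization 3 = f * m ^ 2)
    (hp : ∀ w, Prim 3 (f * (2 * m)) w → w ∣ c)
    (hd : f = 1 → m = n - 1 → ∀ r, Prim 3 n r → ¬ r ∣ c) : False := by
  have h1 := H.v
  have hn := H.hn
  rw [hv] at h1
  have hf1 : 1 ≤ f := Nat.one_le_iff_ne_zero.2 hf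
  have h2 := H.bound (e := f * (2 * m)) (by nlinarith) hp
  have h4 : f * m ≤ n - 1 := by
    have := h2.1
    have h5 : 2 * (f * m) ≤ 2 * (n - 1) := by
      calc 2 * (f * m) = f * (2 * m) := by ring
        _ ≤ _ := this
    omega
  obtain ⟨h5, h6⟩ := mid (by omega) h1 h4
  rcases H.alt with ⟨r, hr, hrc⟩ | h
  · exact hd h6 h5 r hr hrc
  · rw [hv, h6, h5, one_mul, sq] at h
    have := Nat.eq_of_mul_eq_mul_right (show 0 < n - 1 by omega) h
    omega

theorem not_dvd_prB {r : ℕ} (hodd : Odd n) (hn : 1 ≤ n) (hr : Prim 3 n r) : ¬ r ∣ prB 3 (n - 1) := by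
  intro h
  unfold prB at h
  rw [prod_list, hr.prime.prime.dvd_finsetProd_iff] at h
  obtain ⟨i, hi, h⟩ := h
  rw [Finset.mem_range] at hi
  have h2 := (hr.dvd_iff _).1 h
  have h7 : Nat.Coprime n 2 := Nat.Coprime.symm (Nat.coprime_two_left.mpr hodd)
  have h3 := Nat.le_of_dvd (by omega) (h7.dvd_of_dvd_mul_left h2)
  omega

theorem psp (H : Hyp n c) (hf : f ≠ 0) {m : ℕ} (hm : 2 ≤ m)
    (h : den (.psp m (3 ^ f)) * c = num (.psp m (3 ^ f))) : False := by
  have hn := H.hn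
  refine psp_aux H hf hm (v_psp Nat.prime_three hf h H.ne) (fun w hw =>
    psp_prim m (by omega) le_rfl dvd_rfl (by omega) h (prim_of_pow hf hw)) ?_
  rintro rfl rfl r hr hrc
  have h1 : Nat.gcd 2 (3 ^ 1 - 1) * c = (3 ^ 1) ^ ((n - 1) ^ 2) * prB (3 ^ 1) (n - 1) := h
  have h2 : r ∣ (3 ^ 1) ^ ((n - 1) ^ 2) * prB (3 ^ 1) (n - 1) := h1 ▸ (hrc.mul_left _)
  rw [pow_one] at h2
  rcases hr.prime.dvd_mul.1 h2 with h3 | h3
  · exact hr.not_dvd_pow _ h3
  · exact not_dvd_prB H.odd (by omega) hr h3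

theorem oodd (H : Hyp n c) (hf : f ≠ 0) {m : ℕ} (hm : 3 ≤ m)
    (h : den (.oodd m (3 ^ f)) * c = num (.oodd m (3 ^ f))) : False := by
  have hn := H.hn
  refine psp_aux H hf (by omega) (v_oodd Nat.prime_three hf (by norm_num) h H.ne) (fun w hw =>
    oodd_prim m (by omega) le_rfl dvd_rfl (by omega) h (prim_of_pow hf hw)) ?_
  rintro rfl rfl r hr hrc
  have h1 : 2 * c = (3 ^ 1) ^ ((n - 1) ^ 2) * prB (3 ^ 1) (n - 1) := h
  have h2 : r ∣ (3 ^ 1) ^ ((n - 1) ^ 2) * prB (3 ^ 1) (n - 1) := h1 ▸ (hrc.mul_left _)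
  rw [pow_one] at h2
  rcases hr.prime.dvd_mul.1 h2 with h3 | h3
  · exact hr.not_dvd_pow _ h3
  · exact not_dvd_prB H.odd (by omega) hr h3

theorem oplus (H : Hyp n c) (hf : f ≠ 0) {m : ℕ} (hm : 4 ≤ m)
    (h : den (.oplus m (3 ^ f)) * c = num (.oplus m (3 ^ f))) : m = n ∧ f = 1 := by
  have hn := H.hn
  have hv := v_oplus Nat.prime_three hf (by omega) h H.ne
  have h1 := H.v
  rw [hv] at h1
  have hf1 : 1 ≤ f := Nat.one_le_iff_ne_zero.2 hf
  have h2 := H.bound (e := f * (2 * (m - 1))) (by nlinarith [show 3 ≤ m - 1 by omega]) (fun w hw =>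
    oplus_prim (m - 1) (by omega) le_rfl dvd_rfl (by omega) h (prim_of_pow hf hw))
  obtain ⟨j, rfl⟩ : ∃ j, m = j + 1 := ⟨m - 1, by omega⟩
  obtain ⟨k, rfl⟩ : ∃ k, n = k + 1 := ⟨n - 1, by omega⟩
  rw [Nat.add_sub_cancel, Nat.add_sub_cancel] at *
  have h4 : f * j ≤ k := by
    have := h2.1
    have h5 : 2 * (f * j) ≤ 2 * k := by
      calc 2 * (f * j) = f * (2 * j) := by ring
        _ ≤ _ := this
    omega
  have h7 : k ≤ j + 1 := by
    have h8 : k * k ≤ (j + 1) * k := by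
      calc k * k = k ^ 2 := by ring
        _ ≤ f * ((j + 1) * j) := h1
        _ = (j + 1) * (f * j) := by ring
        _ ≤ (j + 1) * k := Nat.mul_le_mul_left _ h4
    exact Nat.le_of_mul_le_mul_right h8 (by omega)
  have hf' : f = 1 := by
    by_contra hne
    have : 2 ≤ f := by omega
    have : 2 * j ≤ f * j := Nat.mul_le_mul_right _ this
    omega
  subst hf'
  refine ⟨?_, rfl⟩
  rw [one_mul] at h4 h1
  have h9 : j = k ∨ j + 1 = k := by omega
  rcases h9 with h9 | h9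
  · omega
  · exfalso
    subst h9
    nlinarith

theorem ominus (H : Hyp n c) (hf : f ≠ 0) {m : ℕ} (hm : 4 ≤ m)
    (h : den (.ominus m (3 ^ f)) * c = num (.ominus m (3 ^ f))) : False := by
  have hn := H.hn
  have hv := v_ominus Nat.prime_three hf (by omega) h H.ne
  have h1 := H.v
  rw [hv] at h1
  have hf1 : 1 ≤ f := Nat.one_le_iff_ne_zero.2 hf
  have h2 := H.bound (e := f * (2 * m)) (by nlinarith) (fun w hw =>
    ominus_prim' (by omega) h (prim_of_pow hf hw))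
  obtain ⟨j, rfl⟩ : ∃ j, m = j + 1 := ⟨m - 1, by omega⟩
  obtain ⟨k, rfl⟩ : ∃ k, n = k + 1 := ⟨n - 1, by omega⟩
  rw [Nat.add_sub_cancel] at *
  have h4 : f * (j + 1) ≤ k := by
    have := h2.1
    have h5 : 2 * (f * (j + 1)) ≤ 2 * k := by
      calc 2 * (f * (j + 1)) = f * (2 * (j + 1)) := by ring
        _ ≤ _ := this
    omega
  have h7 : k ≤ j := by
    have h8 : k * k ≤ j * k := by
      calc k * k = k ^ 2 := by ring
        _ ≤ f * ((j + 1) * j) := h1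
        _ = j * (f * (j + 1)) := by ring
        _ ≤ j * k := Nat.mul_le_mul_left _ h4
    exact Nat.le_of_mul_le_mul_right h8 (by omega)
  have h8 : 1 * (j + 1) ≤ f * (j + 1) := Nat.mul_le_mul_right _ hf1
  omega

theorem psu (H : Hyp n c) (hf : f ≠ 0) {m : ℕ} (hm : 3 ≤ m)
    (h : den (.psu m (3 ^ f)) * c = num (.psu m (3 ^ f))) : False := by
  have hn := H.hn
  have hv := v_psu Nat.prime_three hf h H.ne
  have h1 := H.v
  rw [hv] at h1
  have hf1 : 1 ≤ f := Nat.one_le_iff_ne_zero.2 hf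
  obtain ⟨j, rfl⟩ : ∃ j, m = j + 1 := ⟨m - 1, by omega⟩
  obtain ⟨k, rfl⟩ : ∃ k, n = k + 1 := ⟨n - 1, by omega⟩
  rw [Nat.add_sub_cancel, Nat.add_sub_cancel] at h1
  have h5 : 2 * ((j + 1) * j / 2) = (j + 1) * j := Nat.mul_div_cancel' (by
    rw [mul_comm]; exact (Nat.even_mul_succ_self j).two_dvd)
  have h6 : 2 * k ^ 2 ≤ f * (j + 1) * j := by
    calc 2 * k ^ 2 ≤ 2 * (f * ((j + 1) * j / 2)) := Nat.mul_le_mul_left _ h1
      _ = f * (2 * ((j + 1) * j / 2)) := by ring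
      _ = f * (j + 1) * j := by rw [h5]; ring
  rcases Nat.even_or_odd j with hj | hj
  · have h2 := H.bound (e := f * (2 * (j + 1))) (by nlinarith) (fun w hw =>
      prim_psu le_rfl (by omega) hj.add_one h (prim_of_pow hf hw))
    rw [Nat.add_sub_cancel] at h2
    have h4 : f * (j + 1) ≤ k := by
      have h5 : 2 * (f * (j + 1)) ≤ 2 * k := by
        calc 2 * (f * (j + 1)) = f * (2 * (j + 1)) := by ring
          _ ≤ _ := h2.1
      omega
    have h7 : 2 * k ≤ j := by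
      have h8 : 2 * k * k ≤ j * k := by
        calc 2 * k * k = 2 * k ^ 2 := by ring
          _ ≤ f * (j + 1) * j := h6
          _ ≤ k * j := Nat.mul_le_mul_right _ h4
          _ = j * k := mul_comm _ _
      exact Nat.le_of_mul_le_mul_right h8 (by omega)
    have h8 : 1 * (j + 1) ≤ f * (j + 1) := Nat.mul_le_mul_right _ hf1
    omega
  · have h2 := H.bound (e := f * (2 * j)) (by obtain ⟨i, rfl⟩ := hj; nlinarith) (fun w hw =>
      prim_psu (k := j) (by omega) (by omega) hj h (prim_of_pow hf hw))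
    rw [Nat.add_sub_cancel] at h2
    have h4 : f * j ≤ k := by
      have h5 : 2 * (f * j) ≤ 2 * k := by
        calc 2 * (f * j) = f * (2 * j) := by ring
          _ ≤ _ := h2.1
      omega
    have h7 : 2 * k ≤ j + 1 := by
      have h8 : 2 * k * k ≤ (j + 1) * k := by
        calc 2 * k * k = 2 * k ^ 2 := by ring
          _ ≤ f * (j + 1) * j := h6
          _ = (j + 1) * (f * j) := by ring
          _ ≤ (j + 1) * k := Nat.mul_le_mul_left _ h4
      exact Nat.le_of_mul_le_mul_right h8 (by omega)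
    have h8 : 1 * j ≤ f * j := Nat.mul_le_mul_right _ hf1
    omega

/-- exceptional groups: `v = f N`, the exponent `f (2 a)` occurs, `N < a (a + 1)` -/
theorem exc (H : Hyp n c) (hf : f ≠ 0) {N a : ℕ} (ha : 2 ≤ a) (hv : c.factorization 3 = f * N)
    (hN : N < a * a ∨ (N < a * 4 ∧ 0 < N)) (hp : ∀ w, Prim 3 (f * (2 * a)) w → w ∣ c) : False := by
  have hn := H.hn
  have h1 := H.v
  rw [hv] at h1
  have hf1 : 1 ≤ f := Nat.one_le_iff_ne_zero.2 hf
  have h2 := H.bound (e := f * (2 * a)) (by nlinarith) hp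
  obtain ⟨k, rfl⟩ : ∃ k, n = k + 1 := ⟨n - 1, by omega⟩
  rw [Nat.add_sub_cancel] at *
  have h4 : f * a ≤ k := by
    have h5 : 2 * (f * a) ≤ 2 * k := by
      calc 2 * (f * a) = f * (2 * a) := by ring
        _ ≤ _ := h2.1
    omega
  have hfa : 1 * a ≤ f * a := Nat.mul_le_mul_right _ hf1
  rcases hN with hN | ⟨hN, -⟩
  · have h5 : f * N < f * (a * a) := Nat.mul_lt_mul_of_pos_left hN (Nat.pos_of_ne_zero hf)
    have h6 : f * (a * a) ≤ k * k := by
      calc f * (a * a) = (f * a) * a := by ring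
        _ ≤ k * k := Nat.mul_le_mul h4 (by omega)
    nlinarith
  · have h5 : f * N < f * (a * 4) := Nat.mul_lt_mul_of_pos_left hN (Nat.pos_of_ne_zero hf)
    have h6 : f * (a * 4) ≤ k * k := by
      calc f * (a * 4) = (f * a) * 4 := by ring
        _ ≤ k * k := Nat.mul_le_mul h4 (by omega)
    nlinarith

theorem dvd_td4 {q w : ℕ} (hq : 2 ≤ q) (hw : Prim q 12 w) : w ∣ q ^ 8 + q ^ 4 + 1 := by
  have h2 : q ^ 12 - 1 = (q ^ 4 - 1) * (q ^ 8 + q ^ 4 + 1) := by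
    obtain ⟨k, hk⟩ : ∃ k, q ^ 4 = k + 1 := ⟨q ^ 4 - 1, by have := Nat.one_le_pow 4 q (by omega); omega⟩
    have h3 : q ^ 12 = (q ^ 4) ^ 3 := by ring
    have h5 : q ^ 8 = (q ^ 4) ^ 2 := by ring
    rw [h3, h5, hk, Nat.add_sub_cancel]
    have : (k + 1) ^ 3 = k * ((k + 1) ^ 2 + (k + 1) + 1) + 1 := by ring
    rw [this, Nat.add_sub_cancel]
  have h3 := hw.dvd (m := 12) dvd_rfl
  rw [h2] at h3
  exact (hw.prime.dvd_mul.1 h3).resolve_left (hw.not_dvd_sub (by norm_num))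

theorem g2 (H : Hyp n c) (hf : f ≠ 0) (h : den (.g2 (3 ^ f)) * c = num (.g2 (3 ^ f))) : False := by
  refine exc H hf (a := 3) (by norm_num) (v_g2 Nat.prime_three hf h H.ne) (Or.inl (by norm_num)) fun w hw => ?_
  have hw' := prim_of_pow hf hw
  have h1 : 1 * c = (3 ^ f) ^ 6 * (((3 ^ f) ^ 2 - 1) * ((3 ^ f) ^ 6 - 1)) := h
  rw [one_mul] at h1
  rw [h1]
  exact ((hw'.dvd (by norm_num)).mul_left _).mul_left _

theorem f4 (H : Hyp n c) (hf : f ≠ 0) (h : den (.f4 (3 ^ f)) * c = num (.f4 (3 ^ f))) : False := by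
  refine exc H hf (a := 6) (by norm_num) (v_f4 Nat.prime_three hf h H.ne) (Or.inl (by norm_num)) fun w hw => ?_
  have hw' := prim_of_pow hf hw
  have h1 : 1 * c = (3 ^ f) ^ 24 * (((3 ^ f) ^ 2 - 1) * ((3 ^ f) ^ 6 - 1) * ((3 ^ f) ^ 8 - 1) * ((3 ^ f) ^ 12 - 1)) := h
  rw [one_mul] at h1
  rw [h1]
  exact ((hw'.dvd (by norm_num)).mul_left _).mul_left _

theorem e6 (H : Hyp n c) (hf : f ≠ 0) (h : den (.e6 (3 ^ f)) * c = num (.e6 (3 ^ f))) : False := by
  have hn := H.hn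
  have hv := v_e6 Nat.prime_three hf h H.ne
  have h1 := H.v
  rw [hv] at h1
  have hf1 : 1 ≤ f := Nat.one_le_iff_ne_zero.2 hf
  have hh : Nat.gcd 3 (3 ^ f - 1) * c = (3 ^ f) ^ 36 * (((3 ^ f) ^ 2 - 1) * ((3 ^ f) ^ 5 - 1) * ((3 ^ f) ^ 6 - 1) *
      ((3 ^ f) ^ 8 - 1) * ((3 ^ f) ^ 9 - 1) * ((3 ^ f) ^ 12 - 1)) := h
  have h2 := H.bound (e := f * 12) (by omega) (fun w hw => by
    have hw' := prim_of_pow hf hw
    refine hw'.dvd_of_eq hh ?_ (hw'.not_dvd_gcd_sub (by norm_num))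
    exact ((hw'.dvd (by norm_num)).mul_left _).mul_left _)
  have h3 := H.bound (e := f * 9) (by omega) (fun w hw => by
    have hw' := prim_of_pow hf hw
    refine hw'.dvd_of_eq hh ?_ (hw'.not_dvd_gcd_sub (by norm_num))
    exact (((hw'.dvd (by norm_num)).mul_left _).mul_right _).mul_left _)
  obtain ⟨k, rfl⟩ : ∃ k, n = k + 1 := ⟨n - 1, by omega⟩
  rw [Nat.add_sub_cancel] at *
  have h4 : f * 6 ≤ k := by omega
  have h5 : k ≤ 6 := by
    by_contra hlt
    push Not at hlt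
    have h6 : k * 7 ≤ k * k := Nat.mul_le_mul_left _ hlt
    nlinarith
  have h6 : f = 1 := by omega
  subst h6
  have h7 := h3.2 (by decide)
  omega

theorem e7 (H : Hyp n c) (hf : f ≠ 0) (h : den (.e7 (3 ^ f)) * c = num (.e7 (3 ^ f))) : False := by
  refine exc H hf (a := 9) (by norm_num) (v_e7 Nat.prime_three hf h H.ne) (Or.inl (by norm_num)) fun w hw => ?_
  have hw' := prim_of_pow hf hw
  have h1 : Nat.gcd 2 (3 ^ f - 1) * c = (3 ^ f) ^ 63 * (((3 ^ f) ^ 2 - 1) * ((3 ^ f) ^ 6 - 1) * ((3 ^ f) ^ 8 - 1) *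
      ((3 ^ f) ^ 10 - 1) * ((3 ^ f) ^ 12 - 1) * ((3 ^ f) ^ 14 - 1) * ((3 ^ f) ^ 18 - 1)) := h
  refine hw'.dvd_of_eq h1 ?_ (hw'.not_dvd_gcd_sub (by norm_num))
  exact ((hw'.dvd (by norm_num)).mul_left _).mul_left _

theorem e8 (H : Hyp n c) (hf : f ≠ 0) (h : den (.e8 (3 ^ f)) * c = num (.e8 (3 ^ f))) : False := by
  refine exc H hf (a := 15) (by norm_num) (v_e8 Nat.prime_three hf h H.ne) (Or.inl (by norm_num)) fun w hw => ?_
  have hw' := prim_of_pow hf hw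
  have h1 : 1 * c = (3 ^ f) ^ 120 * (((3 ^ f) ^ 2 - 1) * ((3 ^ f) ^ 8 - 1) * ((3 ^ f) ^ 12 - 1) *
      ((3 ^ f) ^ 14 - 1) * ((3 ^ f) ^ 18 - 1) * ((3 ^ f) ^ 20 - 1) * ((3 ^ f) ^ 24 - 1) * ((3 ^ f) ^ 30 - 1)) := h
  rw [one_mul] at h1
  rw [h1]
  exact ((hw'.dvd (by norm_num)).mul_left _).mul_left _

theorem te6 (H : Hyp n c) (hf : f ≠ 0) (h : den (.te6 (3 ^ f)) * c = num (.te6 (3 ^ f))) : False := by
  refine exc H hf (a := 9) (by norm_num) (v_te6 Nat.prime_three hf h H.ne) (Or.inl (by norm_num)) fun w hw => ?_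
  have hw' := prim_of_pow hf hw
  have h1 : Nat.gcd 3 (3 ^ f + 1) * c = (3 ^ f) ^ 36 * (((3 ^ f) ^ 2 - 1) * ((3 ^ f) ^ 5 + 1) * ((3 ^ f) ^ 6 - 1) *
      ((3 ^ f) ^ 8 - 1) * ((3 ^ f) ^ 9 + 1) * ((3 ^ f) ^ 12 - 1)) := h
  refine hw'.dvd_of_eq h1 ?_ (hw'.not_dvd_gcd_add (by norm_num))
  exact (((hw'.dvd_add (m := 9) (by norm_num) (by norm_num)).mul_left _).mul_right _).mul_left _

theorem td4 (H : Hyp n c) (hf : f ≠ 0) (h : den (.td4 (3 ^ f)) * c = num (.td4 (3 ^ f))) : False := by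
  refine exc H hf (a := 6) (by norm_num) (v_td4 Nat.prime_three hf h H.ne) (Or.inl (by norm_num)) fun w hw => ?_
  have hw' := prim_of_pow hf hw
  have h1 : 1 * c = (3 ^ f) ^ 12 * (((3 ^ f) ^ 2 - 1) * ((3 ^ f) ^ 6 - 1) * ((3 ^ f) ^ 8 + (3 ^ f) ^ 4 + 1)) := h
  rw [one_mul] at h1
  rw [h1]
  have hq : 2 ≤ 3 ^ f := OrdCrit.two_le Nat.prime_three hf rfl
  exact ((dvd_td4 hq hw').mul_left _).mul_left _

theorem ree (H : Hyp n c) (hf : f ≠ 0) (h : den (.ree (3 ^ f)) * c = num (.ree (3 ^ f))) : False := by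
  refine exc H hf (a := 3) (by norm_num) (v_ree Nat.prime_three hf h H.ne) (Or.inl (by norm_num)) fun w hw => ?_
  have hw' := prim_of_pow hf hw
  have h1 : 1 * c = (3 ^ f) ^ 3 * ((3 ^ f - 1) * ((3 ^ f) ^ 3 + 1)) := h
  rw [one_mul] at h1
  rw [h1]
  exact ((hw'.dvd_add (m := 3) (by norm_num) (by norm_num)).mul_left _).mul_left _

open Cfsg.Agent.OrdCrit in
/-- **Characteristic three.** -/
theorem main (T : OrderTable.{u}) {S : Type u} [Group S] [Finite S] (h : IsLieTypeChar 3 S) {n : ℕ}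
    (H : Hyp n (Nat.card S)) :
    ∃ (F : Type) (_ : Field F) (_ : Fintype F), Fintype.card F = 3 ∧
      Nonempty (S ≃* POmega F (quadFormPlus n F)) := by
  have hp := Nat.prime_three
  rcases h with h | h | h | h | h | h | h | h | ⟨h2, h⟩ | ⟨h2, h⟩ | ⟨-, h⟩
  · exfalso
    obtain ⟨F, _, _, _, m, h1, h2, ⟨e⟩⟩ := h
    obtain ⟨f, hf, hq⟩ := exists_pow (F := F) hp
    have h3 := psl_eq (F := F) h1
    rw [← Nat.card_congr e.toEquiv, hq] at h3
    refine psl H hf h1 (fun hm => ?_) h3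
    have h4 := h2 hm
    rw [hq] at h4
    by_contra hlt
    have : f = 1 := by omega
    subst this
    omega
  · exfalso
    obtain ⟨F, _, _, _, m, h1, h2, ⟨e⟩⟩ := h
    obtain ⟨f, hf, hq⟩ := exists_pow (F := F) hp
    have h3 := psp_eq (F := F) h1
    rw [← Nat.card_congr e.toEquiv, hq] at h3
    exact psp H hf h1 h3
  · exfalso
    obtain ⟨F, _, _, _, m, q, hF, h1, h2, ⟨e⟩⟩ := h
    obtain ⟨f, hf, rfl⟩ := root_pow hp (by norm_num) (exists_pow (F := F) hp) hF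
    have h3 := psu_eq (F := F) hF h1
    rw [← Nat.card_congr e.toEquiv] at h3
    exact psu H hf h1 h3
  · exfalso
    obtain ⟨F, _, _, _, m, h1, h2, ⟨e⟩⟩ := h
    obtain ⟨f, hf, hq⟩ := exists_pow (F := F) hp
    have h3 := oodd_eq (F := F) h1 h2
    rw [← Nat.card_congr e.toEquiv, hq] at h3
    exact oodd H hf h1 h3
  · obtain ⟨F, _, _, _, m, h1, ⟨e⟩⟩ := h
    obtain ⟨f, hf, hq⟩ := exists_pow (F := F) hp
    have h3 := oplus_eq (F := F) h1
    rw [← Nat.card_congr e.toEquiv, hq] at h3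
    obtain ⟨rfl, rfl⟩ := oplus H hf h1 h3
    exact ⟨F, inferInstance, inferInstance, by rw [hq, pow_one], ⟨e⟩⟩
  · exfalso
    obtain ⟨F, _, _, _, m, a, b, h1, h2, ⟨e⟩⟩ := h
    obtain ⟨f, hf, hq⟩ := exists_pow (F := F) hp
    have h3 := ominus_eq (F := F) h1 h2
    rw [← Nat.card_congr e.toEquiv, hq] at h3
    exact ominus H hf h1 h3
  · exfalso
    obtain ⟨F, _, _, _, h⟩ := h
    obtain ⟨f, hf, hq⟩ := exists_pow (F := F) hp
    rcases h with ⟨-, ⟨e⟩⟩ | h | h | h | h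
    · refine g2 H hf ?_
      rw [Nat.card_congr e.toEquiv, ← hq]
      change 1 * _ = _ ^ 6 * _
      rw [T.g2 F]; ring
    · obtain ⟨e⟩ := h
      refine f4 H hf ?_
      rw [Nat.card_congr e.toEquiv, ← hq]
      change 1 * _ = _ ^ 24 * _
      rw [T.f4 F _ rfl]; ring
    · obtain ⟨e⟩ := h
      refine e6 H hf ?_
      rw [Nat.card_congr e.toEquiv, ← hq]
      change Nat.gcd 3 (Fintype.card F - 1) * _ = _ ^ 36 * _
      rw [T.e6 F _ rfl]; ring
    · obtain ⟨e⟩ := h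
      refine e7 H hf ?_
      rw [Nat.card_congr e.toEquiv, ← hq]
      change Nat.gcd 2 (Fintype.card F - 1) * _ = _ ^ 63 * _
      rw [T.e7 F _ rfl]; ring
    · obtain ⟨e⟩ := h
      refine e8 H hf ?_
      rw [Nat.card_congr e.toEquiv, ← hq]
      change 1 * _ = _ ^ 120 * _
      rw [T.e8 F _ rfl]; ring
  · exfalso
    obtain ⟨F, _, _, _, q, hqp, ⟨hF, ⟨e⟩⟩ | ⟨hF, ⟨e⟩⟩⟩ := h
    · obtain ⟨f, hf, rfl⟩ := root_pow hp (by norm_num) (exists_pow (F := F) hp) hF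
      refine te6 H hf ?_
      rw [Nat.card_congr e.toEquiv]
      change Nat.gcd 3 (3 ^ f + 1) * _ = _ ^ 36 * _
      rw [T.te6 F _ hqp hF]; ring
    · obtain ⟨f, hf, rfl⟩ := root_pow hp (by norm_num) (exists_pow (F := F) hp) hF
      refine td4 H hf ?_
      rw [Nat.card_congr e.toEquiv]
      change 1 * _ = _ ^ 12 * _
      rw [T.td4 F _ hqp hF]; ring
  · exact absurd h2 (by norm_num)
  · exact absurd h2 (by norm_num)
  · exfalso
    obtain ⟨F, _, _, m, hm, hF, ⟨e⟩⟩ := h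
    refine ree H (f := 2 * m + 1) (by omega) ?_
    rw [Nat.card_congr e.toEquiv]
    change 1 * _ = _ ^ 3 * _
    rw [T.ree F m hm hF]; ring

end Cfsg.Agent.H425.CharThree
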