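import Mathlib
import Cfsg.Prelude.Def_Classical
import Cfsg.Agent.LieClassical.OmegaReindex
import Cfsg.Agent.S0287

/-!
# The torus of order `q ^ n - 1` in the plus-type orthogonal group of dimension `2 n`, `n` odd (helper425)
-/

set_option autoImplicit false

namespace Cfsg.Agent.H425.Torus

open Matrix Polynomial Cfsg.Agent.LieClassical.OmegaReindex

section block

variable {F : Type*} [Field F] {n : ℕ}

/-- `A ↦ diag(A, A⁻ᵀ)`. -/
def dgGL (n : ℕ) (F : Type*) [Field F] : GL (Fin n) F →* GL (Fin n ⊕ Fin n) F where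
  toFun A := ⟨fromBlocks (A : Matrix (Fin n) (Fin n) F) 0 0 ((A⁻¹ : GL (Fin n) F) : Matrix (Fin n) (Fin n) F)ᵀ,
    fromBlocks ((A⁻¹ : GL (Fin n) F) : Matrix (Fin n) (Fin n) F) 0 0 (A : Matrix (Fin n) (Fin n) F)ᵀ,
    by
      rw [fromBlocks_multiply, ← Matrix.transpose_mul]
      simp,
    by
      rw [fromBlocks_multiply, ← Matrix.transpose_mul]
      simp⟩
  map_one' := by
    ext1
    simp
  map_mul' A B := by
    ext1
    simp only [Units.val_mul, fromBlocks_multiply, _root_.mul_inv_rev, Matrix.transpose_mul]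
    simp

theorem coe_dgGL (A : GL (Fin n) F) : ((dgGL n F A : GL (Fin n ⊕ Fin n) F) : Matrix (Fin n ⊕ Fin n) (Fin n ⊕ Fin n) F) =
    fromBlocks (A : Matrix (Fin n) (Fin n) F) 0 0 ((A⁻¹ : GL (Fin n) F) : Matrix (Fin n) (Fin n) F)ᵀ := rfl

theorem quadFormPlus_eq_dotProduct (v : Fin n ⊕ Fin n → F) :
    Cfsg.quadFormPlus n F v = (v ∘ Sum.inl) ⬝ᵥ (v ∘ Sum.inr) := rfl

theorem dgGL_mem (A : GL (Fin n) F) : dgGL n F A ∈ Cfsg.isometryGroup F (Cfsg.quadFormPlus n F) := by
  rw [mem_isometryGroup]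
  intro v
  rw [quadFormPlus_eq_dotProduct, quadFormPlus_eq_dotProduct, coe_dgGL, fromBlocks_mulVec]
  simp only [Matrix.zero_mulVec, add_zero, zero_add, Sum.elim_comp_inl, Sum.elim_comp_inr]
  rw [Matrix.mulVec_transpose, dotProduct_comm, ← Matrix.dotProduct_mulVec, Matrix.mulVec_mulVec]
  rw [← Units.val_mul, inv_mul_cancel, Units.val_one, Matrix.one_mulVec, dotProduct_comm]

/-- `A ↦ diag(A, A⁻ᵀ)`. -/
def dg (n : ℕ) (F : Type*) [Field F] : GL (Fin n) F →* Cfsg.isometryGroup F (Cfsg.quadFormPlus n F) :=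
  (dgGL n F).codRestrict _ dgGL_mem

theorem coe_dg (A : GL (Fin n) F) : (((dg n F A : Cfsg.isometryGroup F (Cfsg.quadFormPlus n F)) :
    GL (Fin n ⊕ Fin n) F) : Matrix (Fin n ⊕ Fin n) (Fin n ⊕ Fin n) F) =
    fromBlocks (A : Matrix (Fin n) (Fin n) F) 0 0 ((A⁻¹ : GL (Fin n) F) : Matrix (Fin n) (Fin n) F)ᵀ := rfl

theorem dg_injective : Function.Injective (dg n F) := by
  intro A B h
  have h1 := congrArg (fun g : Cfsg.isometryGroup F (Cfsg.quadFormPlus n F) =>
    ((g : GL (Fin n ⊕ Fin n) F) : Matrix (Fin n ⊕ Fin n) (Fin n ⊕ Fin n) F)) h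
  simp only [coe_dg] at h1
  have h2 := (fromBlocks_inj.mp h1).1
  exact Units.ext h2

/-- Commuting with blocks. -/
theorem mul_aeval {m : Type*} [Fintype m] [DecidableEq m] {A D Q : Matrix m m F} (h : Q * D = A * Q) (f : F[X]) :
    Q * aeval D f = aeval A f * Q := by
  induction f using Polynomial.induction_on' with
  | add p q hp hq => rw [map_add, map_add, mul_add, add_mul, hp, hq]
  | monomial k a =>
    rw [aeval_monomial, aeval_monomial]
    have h1 : ∀ k : ℕ, Q * D ^ k = A ^ k * Q := by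
      intro k
      induction k with
      | zero => simp
      | succ k ih => rw [pow_succ, ← mul_assoc, ih, mul_assoc, h, ← mul_assoc, ← pow_succ]
    rw [← mul_assoc, ← Algebra.commutes, mul_assoc, h1, mul_assoc]

theorem aeval_transpose {m : Type*} [Fintype m] [DecidableEq m] (A : Matrix m m F) (f : F[X]) :
    aeval Aᵀ f = (aeval A f)ᵀ := by
  induction f using Polynomial.induction_on' with
  | add p q hp hq => rw [map_add, map_add, Matrix.transpose_add, hp, hq]
  | monomial k a =>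
    rw [aeval_monomial, aeval_monomial, Matrix.transpose_mul, Matrix.transpose_pow,
      Matrix.algebraMap_eq_diagonal, Matrix.diagonal_transpose]
    rw [← Matrix.algebraMap_eq_diagonal, Algebra.commutes]

end block

section field

variable {F : Type*} [Field F] {n : ℕ} {K : Type*} [Field K] [Algebra F K]
  (b : Module.Basis (Fin n) F K)

/-- The torus. -/
noncomputable def tau : Kˣ →* Cfsg.isometryGroup F (Cfsg.quadFormPlus n F) :=
  (dg n F).comp (Units.map (Algebra.leftMulMatrix b : K →* Matrix (Fin n) (Fin n) F))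

theorem coe_tau (x : Kˣ) : (((tau b x : Cfsg.isometryGroup F (Cfsg.quadFormPlus n F)) :
    GL (Fin n ⊕ Fin n) F) : Matrix (Fin n ⊕ Fin n) (Fin n ⊕ Fin n) F) =
    fromBlocks (Algebra.leftMulMatrix b (x : K)) 0 0 (Algebra.leftMulMatrix b ((x⁻¹ : Kˣ) : K))ᵀ := rfl

theorem tau_injective : Function.Injective (tau b) := by
  have h1 : Function.Injective (Algebra.leftMulMatrix b : K →* Matrix (Fin n) (Fin n) F) :=
    Algebra.leftMulMatrix_injective b
  exact dg_injective.comp (Units.map_injective h1)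

theorem exists_eq_of_commute {x : K} (hx : Algebra.adjoin F {x} = ⊤) {P : Matrix (Fin n) (Fin n) F}
    (hP : P * Algebra.leftMulMatrix b x = Algebra.leftMulMatrix b x * P) :
    ∃ y : K, P = Algebra.leftMulMatrix b y := by
  let c : K →ₗ[F] K := Matrix.toLin b b P
  have hc1 : LinearMap.toMatrix b b c = P := LinearMap.toMatrix_toLin b b P
  have hc : ∀ y, c (x * y) = x * c y := by
    intro y
    have h1 : LinearMap.toMatrix b b (c * LinearMap.mulLeft F x) =
        LinearMap.toMatrix b b (LinearMap.mulLeft F x * c) := by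
      rw [LinearMap.toMatrix_mul, LinearMap.toMatrix_mul, hc1]
      exact hP
    have h2 := (LinearMap.toMatrix b b).injective h1
    exact LinearMap.congr_fun h2 y
  have hall : ∀ z : K, ∀ y, c (z * y) = z * c y := by
    intro z
    have hz : z ∈ Algebra.adjoin F {x} := by rw [hx]; trivial
    induction hz using Algebra.adjoin_induction with
    | mem w hw =>
      rw [Set.mem_singleton_iff] at hw
      rw [hw]
      exact hc
    | algebraMap r =>
      intro y
      rw [← Algebra.smul_def, map_smul, Algebra.smul_def]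
    | add u v _ _ hu hv =>
      intro y
      rw [add_mul, map_add, hu, hv, add_mul]
    | mul u v _ _ hu hv =>
      intro y
      rw [mul_assoc, hu, hv, mul_assoc]
  refine ⟨c 1, ?_⟩
  rw [← hc1, Algebra.leftMulMatrix_apply]
  congr 1
  ext y
  have h1 := hall y 1
  rw [mul_one] at h1
  rw [h1, mul_comm]
  rfl

theorem mem_range_tau {x : Kˣ} (hx : Algebra.adjoin F {(x : K)} = ⊤)
    (h1 : aeval ((x⁻¹ : Kˣ) : K) (minpoly F (x : K)) ≠ 0)
    {u : Cfsg.isometryGroup F (Cfsg.quadFormPlus n F)} (hu : u * tau b x = tau b x * u) :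
    u ∈ (tau b).range := by
  set A : Matrix (Fin n) (Fin n) F := Algebra.leftMulMatrix b (x : K) with hA
  set D : Matrix (Fin n) (Fin n) F := (Algebra.leftMulMatrix b ((x⁻¹ : Kˣ) : K))ᵀ with hD
  obtain ⟨P, Q, R, S, hPQ⟩ : ∃ P Q R S : Matrix (Fin n) (Fin n) F,
      ((u : GL (Fin n ⊕ Fin n) F) : Matrix (Fin n ⊕ Fin n) (Fin n ⊕ Fin n) F) = fromBlocks P Q R S :=
    ⟨_, _, _, _, (Matrix.fromBlocks_toBlocks _).symm⟩
  have h2 := congrArg (fun g : Cfsg.isometryGroup F (Cfsg.quadFormPlus n F) =>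
    ((g : GL (Fin n ⊕ Fin n) F) : Matrix (Fin n ⊕ Fin n) (Fin n ⊕ Fin n) F)) hu
  simp only [Subgroup.coe_mul, Units.val_mul, hPQ, coe_tau, fromBlocks_multiply, ← hA, ← hD,
    mul_zero, zero_mul, add_zero, zero_add] at h2
  obtain ⟨hPA, hQD, hRA, hSD⟩ := fromBlocks_inj.mp h2
  have hf : aeval A (minpoly F (x : K)) = 0 := by
    rw [hA, Polynomial.aeval_algHom_apply, minpoly.aeval, map_zero]
  have hfD : IsUnit (aeval D (minpoly F (x : K))) := by
    rw [hD, aeval_transpose, Matrix.isUnit_transpose, Polynomial.aeval_algHom_apply]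
    exact (IsUnit.mk0 _ h1).map (Algebra.leftMulMatrix b)
  have hQ : Q = 0 := by
    have h3 := mul_aeval hQD (minpoly F (x : K))
    rw [hf, zero_mul] at h3
    exact (hfD.mul_left_eq_zero).mp h3
  have hR : R = 0 := by
    have h3 := mul_aeval hRA (minpoly F (x : K))
    rw [hf, mul_zero] at h3
    exact (hfD.mul_right_eq_zero).mp h3.symm
  subst hQ hR
  obtain ⟨y, hy⟩ := exists_eq_of_commute b hx hPA
  have hu' := u.2
  rw [mem_isometryGroup] at hu'
  have hPS : Pᵀ * S = 1 := by
    have h3 : ∀ v w : Fin n → F, v ⬝ᵥ ((Pᵀ * S) *ᵥ w) = v ⬝ᵥ w := by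
      intro v w
      have h4 := hu' (Sum.elim v w)
      rw [hPQ, quadFormPlus_eq_dotProduct, quadFormPlus_eq_dotProduct, fromBlocks_mulVec] at h4
      simp only [Matrix.zero_mulVec, add_zero, zero_add, Sum.elim_comp_inl, Sum.elim_comp_inr] at h4
      rw [← h4, ← Matrix.mulVec_mulVec, Matrix.dotProduct_mulVec, Matrix.vecMul_transpose]
    ext i j
    have h4 := h3 (Pi.single i 1) (Pi.single j 1)
    rw [Matrix.mulVec_single_one, single_one_dotProduct, single_one_dotProduct] at h4
    rw [Matrix.one_apply]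
    rw [Matrix.col_apply] at h4
    rw [h4, Pi.single_apply]
  have hy0 : y ≠ 0 := by
    rintro rfl
    rw [hy, map_zero, Matrix.transpose_zero, zero_mul] at hPS
    have := b.index_nonempty
    exact zero_ne_one hPS
  refine ⟨Units.mk0 y hy0, ?_⟩
  apply Subtype.ext
  apply Units.ext
  rw [coe_tau, hPQ]
  have h5 : (Algebra.leftMulMatrix b ((Units.mk0 y hy0)⁻¹ : Kˣ))ᵀ = S := by
    have h6 : (Algebra.leftMulMatrix b ((Units.mk0 y hy0)⁻¹ : Kˣ))ᵀ * Pᵀ = 1 := by
      rw [← Matrix.transpose_mul, hy, ← map_mul]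
      have h7 : y * (((Units.mk0 y hy0)⁻¹ : Kˣ) : K) = 1 := by
        rw [Units.val_inv_eq_inv_val, Units.val_mk0, mul_inv_cancel₀ hy0]
      rw [h7, map_one, Matrix.transpose_one]
    calc (Algebra.leftMulMatrix b ((Units.mk0 y hy0)⁻¹ : Kˣ))ᵀ =
        (Algebra.leftMulMatrix b ((Units.mk0 y hy0)⁻¹ : Kˣ))ᵀ * (Pᵀ * S) := by rw [hPS, mul_one]
      _ = S := by rw [← mul_assoc, h6, one_mul]
  rw [h5, hy]
  rfl

variable [Finite K]

theorem card_range_tau : Nat.card (tau b).range = Nat.card F ^ n - 1 := by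
  have h1 : Nat.card (tau b).range = Nat.card Kˣ :=
    (Nat.card_congr (MonoidHom.ofInjective (tau_injective b)).toEquiv).symm
  have h2 : Module.finrank F K = n := by
    rw [Module.finrank_eq_card_basis b, Fintype.card_fin]
  rw [h1, Nat.card_units, Module.natCard_eq_pow_finrank (K := F), h2]

include b

/-- Elements of prime order `r`, `n` the order of `q` modulo `r`, generate `K`. -/
theorem adjoin_eq_top {r : ℕ} (hr : ∀ a, r ∣ Nat.card F ^ a - 1 → n ∣ a) {x : K} (hx0 : x ≠ 0)
    (hx : orderOf x = r) : Algebra.adjoin F {x} = ⊤ := by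
  have hfr : Module.finrank F K = n := by
    rw [Module.finrank_eq_card_basis b, Fintype.card_fin]
  have hfd : FiniteDimensional F K := b.finiteDimensional_of_finite
  let E : IntermediateField F K := IntermediateField.adjoin F {x}
  let x' : E := ⟨x, IntermediateField.mem_adjoin_simple_self F x⟩
  have hx'0 : x' ≠ 0 := fun h => hx0 (congrArg Subtype.val h)
  have hx' : orderOf x' = r := by
    rw [← hx]
    exact orderOf_injective (E.val : E →* K) E.val.injective x' |>.symm
  have : Fintype E := Fintype.ofFinite E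
  have h1 : x' ^ (Fintype.card E - 1) = 1 := FiniteField.pow_card_sub_one_eq_one x' hx'0
  rw [← Nat.card_eq_fintype_card, Module.natCard_eq_pow_finrank (K := F)] at h1
  have h2 := hr _ (hx' ▸ orderOf_dvd_of_pow_eq_one h1)
  have h3 : Module.finrank F E ≤ n := by
    rw [← hfr]
    exact Submodule.finrank_le (Subalgebra.toSubmodule E.toSubalgebra)
  have h4 : 0 < Module.finrank F E := Module.finrank_pos
  have h5 : Module.finrank F E = n := le_antisymm h3 (Nat.le_of_dvd h4 h2)
  have h6 : E = ⊤ := by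
    apply IntermediateField.eq_of_le_of_finrank_eq le_top
    rw [h5, IntermediateField.finrank_top', hfr]
  have h7 : E.toSubalgebra = Algebra.adjoin F {x} :=
    IntermediateField.adjoin_simple_toSubalgebra_of_isAlgebraic (Algebra.IsAlgebraic.isAlgebraic x)
  rw [← h7, h6, IntermediateField.top_toSubalgebra]

theorem aeval_inv_ne_zero [Finite F] {r : ℕ} (hrp : r.Prime) (hr2 : r ≠ 2) (hodd : Odd n)
    (hr : ∀ a, r ∣ Nat.card F ^ a - 1 → n ∣ a) (hrn : r ∣ Nat.card F ^ n - 1) {x : Kˣ}
    (hx : orderOf x = r) : aeval ((x⁻¹ : Kˣ) : K) (minpoly F (x : K)) ≠ 0 := by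
  intro h0
  have hfd : FiniteDimensional F K := b.finiteDimensional_of_finite
  obtain ⟨p, hp⟩ := CharP.exists F
  have hpp : Fact p.Prime := ⟨CharP.char_is_prime F p⟩
  obtain ⟨σ, hσ⟩ := minpoly.exists_algEquiv_of_root (K := F) (Algebra.IsAlgebraic.isAlgebraic (x : K)) h0
  obtain ⟨i, hi⟩ := FiniteField.exists_forall_apply_eq_pow F p K σ
  rw [hi] at hσ
  have h1 : x ^ (Nat.card F ^ i + 1) = 1 := by
    have h2 : x⁻¹ ^ (Nat.card F ^ i) = x := by
      apply Units.ext
      rw [Units.val_pow_eq_pow_val, hσ]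
    rw [inv_pow] at h2
    rw [pow_succ]
    nth_rw 2 [← h2]
    rw [mul_inv_cancel]
  have h2 : r ∣ Nat.card F ^ i + 1 := hx ▸ orderOf_dvd_of_pow_eq_one h1
  have hq : 1 ≤ Nat.card F ^ i := Nat.one_le_pow _ _ Nat.card_pos
  have h3 : r ∣ Nat.card F ^ (2 * i) - 1 := by
    have h4 : Nat.card F ^ (2 * i) - 1 = (Nat.card F ^ i + 1) * (Nat.card F ^ i - 1) := by
      rw [mul_comm 2 i, pow_mul, ← Nat.sq_sub_sq, one_pow]
    rw [h4]
    exact h2.mul_right _
  have h5 : n ∣ i := by
    have h6 := hr _ h3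
    have h7 : Nat.Coprime n 2 := Nat.Coprime.symm (Nat.coprime_two_left.mpr hodd)
    exact h7.dvd_of_dvd_mul_left h6
  obtain ⟨k, rfl⟩ := h5
  have h6 : r ∣ Nat.card F ^ (n * k) - 1 := by
    rw [pow_mul]
    have h7 := Nat.sub_dvd_pow_sub_pow (Nat.card F ^ n) 1 k
    rw [one_pow] at h7
    exact hrn.trans h7
  have h7 : r ∣ 2 := by
    have h8 := Nat.dvd_sub h2 h6
    have h9 : Nat.card F ^ (n * k) + 1 - (Nat.card F ^ (n * k) - 1) = 2 := by omega
    rwa [h9] at h8
  exact hr2 ((Nat.prime_dvd_prime_iff_eq hrp Nat.prime_two).mp h7)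

end field

section sylow

open Subgroup

open scoped Pointwise in
theorem exists_conj_mem {G : Type*} [Group G] [Finite G] (T : Subgroup G) {r : ℕ} (hr : r.Prime)
    (h : (Nat.card G).factorization r = (Nat.card T).factorization r) {g : G} (hg : orderOf g = r) :
    ∃ x : G, x * g * x⁻¹ ∈ T := by
  have := Fact.mk hr
  obtain ⟨P⟩ : Nonempty (Sylow r T) := inferInstance
  have hP : Nat.card ((P : Subgroup T).map T.subtype) = r ^ (Nat.card G).factorization r := by
    rw [Subgroup.card_map_of_injective T.subtype_injective, h]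
    exact P.card_eq_multiplicity
  let P' : Sylow r G := Sylow.ofCard _ hP
  have hz : IsPGroup r (zpowers g) := IsPGroup.of_card (n := 1) (by rw [Nat.card_zpowers, hg, pow_one])
  obtain ⟨Q, hQ⟩ := hz.exists_le_sylow
  obtain ⟨x, hx⟩ := MulAction.exists_smul_eq G Q P'
  refine ⟨x, ?_⟩
  have h1 : x * g * x⁻¹ ∈ (x • Q : Sylow r G) := by
    have h2 : g ∈ (Q : Subgroup G) := hQ (mem_zpowers g)
    have h3 : MulAut.conj x • g ∈ MulAut.conj x • (Q : Subgroup G) := Subgroup.smul_mem_pointwise_smul g _ _ h2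
    exact h3
  rw [hx] at h1
  have h2 : x * g * x⁻¹ ∈ (P : Subgroup T).map T.subtype := h1
  obtain ⟨y, _, hy⟩ := mem_map.mp h2
  rw [← hy]
  exact y.2

theorem card_centralizer_conj {G : Type*} [Group G] (x g : G) :
    Nonempty (centralizer ({g} : Set G) ≃* centralizer ({x * g * x⁻¹} : Set G)) := by
  have h1 : (centralizer ({g} : Set G)).map (MulAut.conj x).toMonoidHom = centralizer ({x * g * x⁻¹} : Set G) := by
    ext y
    rw [mem_map, mem_centralizer_singleton_iff]
    constructor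
    · rintro ⟨z, hz, rfl⟩
      rw [mem_centralizer_singleton_iff] at hz
      simp only [MulEquiv.toMonoidHom_eq_coe, MonoidHom.coe_coe, MulAut.conj_apply]
      calc x * z * x⁻¹ * (x * g * x⁻¹) = x * (z * g) * x⁻¹ := by group
        _ = x * (g * z) * x⁻¹ := by rw [hz]
        _ = x * g * x⁻¹ * (x * z * x⁻¹) := by group
    · intro hy
      refine ⟨x⁻¹ * y * x, ?_, ?_⟩
      · rw [mem_centralizer_singleton_iff]
        calc x⁻¹ * y * x * g = x⁻¹ * (y * (x * g * x⁻¹)) * x := by group
          _ = x⁻¹ * (x * g * x⁻¹ * y) * x := by rw [hy]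
          _ = g * (x⁻¹ * y * x) := by group
      · simp only [MulEquiv.toMonoidHom_eq_coe, MonoidHom.coe_coe, MulAut.conj_apply]
        group
  rw [← h1]
  exact ⟨(centralizer ({g} : Set G)).equivMapOfInjective _ (MulAut.conj x).injective⟩

end sylow

section main

variable {F : Type*} [Field F] [Finite F] {n : ℕ}

open Subgroup

theorem factorization_card (hn : 1 ≤ n) (hodd : Odd n) {r : ℕ} (hrp : r.Prime) (hr2 : r ≠ 2)
    (hr : ∀ a, r ∣ Nat.card F ^ a - 1 → n ∣ a) (hrn : r ∣ Nat.card F ^ n - 1) :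
    (Nat.card (Cfsg.isometryGroup F (Cfsg.quadFormPlus n F))).factorization r =
      (Nat.card F ^ n - 1).factorization r := by
  have : Fintype F := Fintype.ofFinite F
  have hq : 1 < Nat.card F := Finite.one_lt_card
  have h1 := Cfsg.Agent.S0287.result (F := F) (q := Nat.card F) Nat.card_eq_fintype_card.symm n hn
  have hrq : ¬ r ∣ Nat.card F := by
    intro h
    have h2 : r ∣ Nat.card F ^ n := h.trans (dvd_pow_self _ (by omega))
    have h3 := (Nat.dvd_sub h2 hrn)
    rw [Nat.sub_sub_self (Nat.one_le_pow _ _ (by omega))] at h3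
    exact hrp.one_lt.ne' (Nat.dvd_one.mp h3)
  have hA : ¬ r ∣ 2 * Nat.card F ^ (n * (n - 1)) * ∏ i ∈ Finset.range (n - 1), (Nat.card F ^ (2 * (i + 1)) - 1) := by
    intro h
    rcases hrp.dvd_mul.mp h with h | h
    · rcases hrp.dvd_mul.mp h with h | h
      · exact hr2 ((Nat.prime_dvd_prime_iff_eq hrp Nat.prime_two).mp h)
      · exact hrq (hrp.dvd_of_dvd_pow h)
    · obtain ⟨i, hi, h⟩ := (hrp.prime.dvd_finsetProd_iff _).mp h
      rw [Finset.mem_range] at hi
      have h2 := hr _ h
      have h7 : Nat.Coprime n 2 := Nat.Coprime.symm (Nat.coprime_two_left.mpr hodd)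
      have h3 := Nat.le_of_dvd (by omega) (h7.dvd_of_dvd_mul_left h2)
      omega
  have hB : Nat.card (Cfsg.isometryGroup F (Cfsg.quadFormPlus n F)) =
      (2 * Nat.card F ^ (n * (n - 1)) * ∏ i ∈ Finset.range (n - 1), (Nat.card F ^ (2 * (i + 1)) - 1)) *
        (Nat.card F ^ n - 1) := by
    rw [h1]
    ring
  have hn1 : Nat.card F ^ n - 1 ≠ 0 := by
    have := Nat.one_lt_pow (n := n) (by omega) hq
    omega
  have hA0 : 2 * Nat.card F ^ (n * (n - 1)) * ∏ i ∈ Finset.range (n - 1), (Nat.card F ^ (2 * (i + 1)) - 1) ≠ 0 :=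
    fun h => hA (h ▸ dvd_zero r)
  rw [hB, Nat.factorization_mul hA0 hn1, Finsupp.add_apply, Nat.factorization_eq_zero_of_not_dvd hA, zero_add]

/-- The centralizer of an element of order `r`. -/
theorem centralizer_facts (hn : 1 ≤ n) (hodd : Odd n) {r : ℕ} (hrp : r.Prime) (hr2 : r ≠ 2)
    (hr : ∀ a, r ∣ Nat.card F ^ a - 1 → n ∣ a) (hrn : r ∣ Nat.card F ^ n - 1)
    {g : Cfsg.isometryGroup F (Cfsg.quadFormPlus n F)} (hg : orderOf g = r) :
    IsCyclic (centralizer ({g} : Set (Cfsg.isometryGroup F (Cfsg.quadFormPlus n F)))) ∧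
      Nat.card (centralizer ({g} : Set (Cfsg.isometryGroup F (Cfsg.quadFormPlus n F)))) = Nat.card F ^ n - 1 := by
  have hNe : NeZero n := ⟨by omega⟩
  obtain ⟨p, hp⟩ := CharP.exists F
  have hpp : Fact p.Prime := ⟨CharP.char_is_prime F p⟩
  let K := FiniteField.Extension F p n
  have hfin : Module.finrank F K = n := FiniteField.finrank_extension F p n
  let b : Module.Basis (Fin n) F K := Module.finBasisOfFinrankEq F K hfin
  have : Finite (Cfsg.isometryGroup F (Cfsg.quadFormPlus n F)) := inferInstance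
  have h1 : (Nat.card (Cfsg.isometryGroup F (Cfsg.quadFormPlus n F))).factorization r =
      (Nat.card (tau b).range).factorization r := by
    rw [factorization_card hn hodd hrp hr2 hr hrn, card_range_tau]
  obtain ⟨x, hx⟩ := exists_conj_mem (tau b).range hrp h1 hg
  obtain ⟨y, hy⟩ := hx
  have hyr : orderOf y = r := by
    rw [← orderOf_injective (tau b) (tau_injective b) y, hy, ← MulAut.conj_apply,
      ← MulEquiv.coe_toMonoidHom, orderOf_injective _ (MulAut.conj x).injective, hg]
  have h2 : Algebra.adjoin F {(y : K)} = ⊤ :=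
    adjoin_eq_top b hr y.ne_zero (by rw [orderOf_units, hyr])
  have h3 := aeval_inv_ne_zero b hrp hr2 hodd hr hrn hyr
  have h4 : centralizer ({tau b y} : Set (Cfsg.isometryGroup F (Cfsg.quadFormPlus n F))) = (tau b).range := by
    apply le_antisymm
    · intro u hu
      rw [mem_centralizer_singleton_iff] at hu
      exact mem_range_tau b h2 h3 hu
    · rintro _ ⟨u, rfl⟩
      rw [mem_centralizer_singleton_iff, ← map_mul, ← map_mul, mul_comm]
  obtain ⟨e⟩ := card_centralizer_conj x g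
  rw [← hy, h4] at e
  have h5 : IsCyclic (tau b).range := isCyclic_of_surjective (tau b).rangeRestrict (tau b).rangeRestrict_surjective
  refine ⟨isCyclic_of_surjective e.symm e.symm.surjective, ?_⟩
  rw [Nat.card_congr e.toEquiv, card_range_tau]

end main

end Cfsg.Agent.H425.Torus
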