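import Cfsg.Agent.H425.EndThree
import Cfsg.Agent.H420.Cross
import Cfsg.Agent.H72.D3SH
import Cfsg.Agent.H45.Uni.U

/-!
# `PΩ⁺(2n,3)`, `n - 1` an odd prime, is recognizable by its prime graph (helper425)

* `main_even` : `n ≥ 6` even, `n ≠ 10, 16`;
* `prime_rank` : `n ≥ 5`, `n - 1` prime (`S3652`, `S3475`);
* `same_of_spec` : the prime graph is determined by the spectrum.
-/

set_option autoImplicit false

namespace Cfsg.Agent.H425.Fin

open Cfsg
open Cfsg.Agent.H436 Cfsg.Agent.H420.QR

universe u v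

/-- the elimination of the other characteristics, `n ≥ 6` -/
theorem cross3 {F : Type v} [Field F] [Fintype F] (hF : Fintype.card F = 3) {n : ℕ} (hn : 6 ≤ n) (h10 : n ≠ 10)
    (h16 : n ≠ 16) : Cross3.{u} (POmega F (quadFormPlus n F)) := by
  intro S _ _ h g hg
  rcases Nat.lt_or_ge n 9 with h9 | h9
  · exact H72.D3.small_ge h hF hn (by omega) hg
  · exact H420.QR.cross h hF h9 h10 h16 hg

/-- **`PΩ⁺(2n,3)`, `n ≥ 6` even, is recognizable by its prime graph.** -/
theorem main_even {G : Type u} [Group G] [Finite G] {F : Type v} [Field F] [Fintype F] (hF : Fintype.card F = 3) {n : ℕ}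
    (hn : 6 ≤ n) (hpar : n % 2 = 0) (h10 : n ≠ 10) (h16 : n ≠ 16) (hL : Same (POmega F (quadFormPlus n F)) G) :
    Nonempty (G ≃* POmega F (quadFormPlus n F)) :=
  end_even hF hn hpar hL (cross3 hF hn h10 h16) fun x hx => H45.Uni.fixAll.{u, v} (Or.inl rfl) (by omega) hF x hx

/-- **`PΩ⁺(2n,3)`, `n - 1` prime.** -/
theorem prime_rank {G : Type u} [Group G] [Finite G] {F : Type v} [Field F] [Fintype F] (hF : Fintype.card F = 3) {n : ℕ}
    (hn : 5 ≤ n) (hp : (n - 1).Prime) (hL : Same (POmega F (quadFormPlus n F)) G) :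
    Nonempty (G ≃* POmega F (quadFormPlus n F)) := by
  have hodd : (n - 1) % 2 = 1 := by
    rcases hp.eq_two_or_odd with h | h
    · omega
    · exact h
  refine main_even hF (by omega) (by omega) ?_ ?_ hL
  · rintro rfl
    exact absurd hp (by norm_num)
  · rintro rfl
    exact absurd hp (by norm_num)

/-- groups with the same spectrum have the same prime graph -/
theorem same_of_spec {G : Type u} [Group G] [Finite G] {L : Type v} [Group L] [Finite L]
    (h : Set.range (orderOf : G → ℕ) = Set.range (orderOf : L → ℕ)) : Same L G := by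
  have key : ∀ m : ℕ, (∃ x : L, orderOf x = m) ↔ ∃ y : G, orderOf y = m := fun m => by
    have h1 := Set.ext_iff.1 h m
    exact h1.symm
  refine ⟨fun r hr => ?_, fun r s _ _ _ => key _⟩
  have := Fact.mk hr
  constructor
  · intro hd
    obtain ⟨x, hx⟩ := exists_prime_orderOf_dvd_card' r hd
    obtain ⟨y, hy⟩ := (key r).1 ⟨x, hx⟩
    rw [← hy]
    exact orderOf_dvd_natCard y
  · intro hd
    obtain ⟨x, hx⟩ := exists_prime_orderOf_dvd_card' r hd
    obtain ⟨y, hy⟩ := (key r).2 ⟨x, hx⟩
    rw [← hy]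
    exact orderOf_dvd_natCard y

end Cfsg.Agent.H425.Fin
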