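import Cfsg.Agent.H425.ChrPlus

/-!
# Groups of Lie type in the characteristic of `PSL_n(p)` whose prime graph almost covers that of `PSL_n(p)` (helper425)
-/

set_option autoImplicit false

namespace Cfsg.Agent.H425.Chr

open Cfsg Cfsg.Agent.OrdDiv Cfsg.Agent.H436 Cfsg.Agent.H425.PartP

variable {p f c n : ℕ} {g : Grp}

/-- The hypotheses on the order `c` of a simple group, coming from the prime graph of `PSL_n(p)`. -/
structure Lin (p n c : ℕ) : Prop where
  hn : 9 ≤ n
  ppd : ∀ e, 3 ≤ e → In p c e → e ≤ n
  miss : ∀ k l, k ≠ l → n < 2 * k → k ≤ n → n < 2 * l → l ≤ n → In p c k ∨ In p c l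

/-- **The groups of Lie type in the characteristic of `PSL_n(p)`.** -/
theorem Lin.main (P : Lin p n c) (H : Dat p f c g) : g = .psl n p ∨ g = .psl (n - 1) p := by
  have hn := P.hn
  have hf1 : f = 1 := by
    by_contra hne
    have hf2 : 2 ≤ f := by have := H.hf; omega
    have key : ∀ e, n < 2 * e → In p c e → f ∣ e := fun e he h =>
      H.dvd_of_in hf2 P.ppd (by omega) h he
    have no1 : ∀ {a b : ℕ}, f ∣ a → f ∣ b → a = b + 1 → False := fun {a b} ha hb hab => by
      have h := (Nat.dvd_sub ha hb)
      rw [hab, Nat.add_sub_cancel_left] at h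
      have := Nat.le_of_dvd (by norm_num) h
      omega
    have a1 : ¬ (In p c n ∧ In p c (n - 1)) := fun h =>
      no1 (key n (by omega) h.1) (key (n - 1) (by omega) h.2) (by omega)
    have a2 : ¬ (In p c (n - 2) ∧ In p c (n - 3)) := fun h =>
      no1 (key (n - 2) (by omega) h.1) (key (n - 3) (by omega) h.2) (by omega)
    have b1 := P.miss n (n - 1) (by omega) (by omega) (by omega) (by omega) (by omega)
    have b2 := P.miss (n - 2) (n - 3) (by omega) (by omega) (by omega) (by omega) (by omega)
    have b3 := P.miss n (n - 2) (by omega) (by omega) (by omega) (by omega) (by omega)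
    have b4 := P.miss n (n - 3) (by omega) (by omega) (by omega) (by omega) (by omega)
    have b5 := P.miss (n - 1) (n - 2) (by omega) (by omega) (by omega) (by omega) (by omega)
    have b6 := P.miss (n - 1) (n - 3) (by omega) (by omega) (by omega) (by omega) (by omega)
    tauto
  subst hf1
  have hin : ∀ {e : ℕ}, 3 ≤ e → (In p c e ↔ K g e) := fun he => H.in_one he
  have hN : ∀ e, 3 ≤ e → K g e → e ≤ n := fun e he h => P.ppd e he ((hin he).2 h)
  have hq := H.hq
  rw [pow_one] at hq
  have mis : ∀ k l, k ≠ l → n < 2 * k → k ≤ n → n < 2 * l → l ≤ n → ¬ K g k → ¬ K g l → False :=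
    fun k l hkl hk hk' hl hl' h1 h2 => by
      rcases P.miss k l hkl hk hk' hl hl' with h | h
      · exact h1 ((hin (by omega)).1 h)
      · exact h2 ((hin (by omega)).1 h)
  obtain ⟨o, ho, ho2⟩ : ∃ o, (o = n ∨ o = n - 1) ∧ o % 2 = 1 := by
    rcases Nat.mod_two_eq_zero_or_one n with h | h
    · exact ⟨n - 1, Or.inr rfl, by omega⟩
    · exact ⟨n, Or.inl rfl, h⟩
  have modd : ¬ K g o → ¬ K g (o - 2) → False :=
    mis o (o - 2) (by omega) (by omega) (by omega) (by omega) (by omega)
  have mtop : ¬ K g n → ¬ K g (n - 1) → False :=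
    mis n (n - 1) (by omega) (by omega) (by omega) (by omega) (by omega)
  have mtop2 : ¬ K g n → ¬ K g (n - 2) → False :=
    mis n (n - 2) (by omega) (by omega) (by omega) (by omega) (by omega)
  have mtop3 : ¬ K g (n - 1) → ¬ K g (n - 2) → False :=
    mis (n - 1) (n - 2) (by omega) (by omega) (by omega) (by omega) (by omega)
  have htop := K_top H.cond H.q_ne
  cases g with
  | psl m q =>
    obtain rfl : q = p := hq
    have hm : 2 ≤ m := H.cond.1
    have h1 : n - 1 ≤ m := by
      by_contra hlt
      exact mtop (fun h => by rw [K_psl] at h; omega) (fun h => by rw [K_psl] at h; omega)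
    have h2 := hN m (by omega) (K_psl.2 le_rfl)
    have h3 : m = n ∨ m = n - 1 := by omega
    rcases h3 with rfl | rfl
    · exact Or.inl rfl
    · exact Or.inr rfl
  | psp m q =>
    have hm : 2 ≤ m := H.cond.1
    have h1 : 2 * m ≤ _ := hN _ (show 3 ≤ 2 * m by omega) htop
    exact (modd (fun h => by rw [K_psp (by omega)] at h; omega) (fun h => by rw [K_psp (by omega)] at h; omega)).elim
  | oodd m q =>
    have hm : 3 ≤ m := H.cond.1
    have h1 : 2 * m ≤ _ := hN _ (show 3 ≤ 2 * m by omega) htop
    exact (modd (fun h => by rw [K_oodd (by omega)] at h; omega) (fun h => by rw [K_oodd (by omega)] at h; omega)).elim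
  | psu m q =>
    have hm : 3 ≤ m := H.cond.1
    have h1 : 2 * (m - (1 - m % 2)) ≤ _ := hN _ (show 3 ≤ 2 * (m - (1 - m % 2)) by omega) htop
    exact (modd (fun h => by rw [K_psu (by omega)] at h; omega) (fun h => by rw [K_psu (by omega)] at h; omega)).elim
  | oplus m q =>
    have hm : 4 ≤ m := H.cond.1
    have h1 : 2 * (m - 1) ≤ _ := hN _ (show 3 ≤ 2 * (m - 1) by omega) htop
    exact (modd (fun h => by rw [K_oplus (by omega) (by omega)] at h; omega)
      (fun h => by rw [K_oplus (by omega) (by omega)] at h; omega)).elim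
  | ominus m q =>
    have hm : 4 ≤ m := H.cond.1
    have h1 : 2 * m ≤ _ := hN _ (show 3 ≤ 2 * m by omega) htop
    exact (modd (fun h => by rw [K_ominus (by omega) (by omega)] at h; omega)
      (fun h => by rw [K_ominus (by omega) (by omega)] at h; omega)).elim
  | g2 q => exact (mtop (fun h => by have := K_g2 h; omega) (fun h => by have := K_g2 h; omega)).elim
  | f4 q =>
    have h1 : 12 ≤ n := hN 12 (by norm_num) htop
    exact (modd (fun h => by have := K_f4 h; omega) (fun h => by have := K_f4 h; omega)).elim
  | e6 q =>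
    have h1 : 12 ≤ n := hN 12 (by norm_num) htop
    rcases Nat.lt_or_ge n 13 with h2 | h2
    · exact (mtop3 (fun h => by have := K_e6 h; omega) (fun h => by have := K_e6 h; omega)).elim
    · rcases Nat.lt_or_ge n 14 with h3 | h3
      · exact (mtop2 (fun h => by have := K_e6 h; omega) (fun h => by have := K_e6 h; omega)).elim
      · exact (mtop (fun h => by have := K_e6 h; omega) (fun h => by have := K_e6 h; omega)).elim
  | e7 q =>
    have h1 : 18 ≤ n := hN 18 (by norm_num) htop
    exact (modd (fun h => by have := K_e7 h; omega) (fun h => by have := K_e7 h; omega)).elim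
  | e8 q =>
    have h1 : 30 ≤ n := hN 30 (by norm_num) htop
    exact (modd (fun h => by have := K_e8 h; omega) (fun h => by have := K_e8 h; omega)).elim
  | te6 q =>
    have h1 : 18 ≤ n := hN 18 (by norm_num) htop
    exact (modd (fun h => by have := K_te6 h; omega) (fun h => by have := K_te6 h; omega)).elim
  | td4 q =>
    have h1 : 12 ≤ n := hN 12 (by norm_num) htop
    exact (modd (fun h => by have := K_td4 h; omega) (fun h => by have := K_td4 h; omega)).elim
  | sz q => exact (mtop (fun h => by have := K_sz h; omega) (fun h => by have := K_sz h; omega)).elim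
  | ree q => exact (mtop (fun h => by have := K_ree h; omega) (fun h => by have := K_ree h; omega)).elim
  | tf4 q =>
    have h1 : 12 ≤ n := hN 12 (by norm_num) htop
    exact (modd (fun h => by have := K_tf4 h; omega) (fun h => by have := K_tf4 h; omega)).elim
  | _ => exact absurd rfl H.q_ne

end Cfsg.Agent.H425.Chr
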