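import Cfsg.Agent.H425.ChrOdd
import Cfsg.Agent.H425.ChrLin
import Cfsg.Agent.H420.Reduce
import Cfsg.Agent.H420.LOrth
import Cfsg.Agent.S2468
import Cfsg.Agent.S2474

/-!
# From the prime graph of `L` to the conditions on the classes of the primes of `|S|` (helper425)
-/

set_option autoImplicit false

namespace Cfsg.Agent.H425.Chr

open Cfsg Cfsg.Agent.OrdDiv Cfsg.Agent.H436 Cfsg.Agent.H420.QR

universe u v

theorem prim_orderOf {q e r : ℕ} (hq : 1 ≤ q) (h : Prim q e r) : orderOf ((q : ℕ) : ZMod r) = e := by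
  have key : ∀ m, ((q : ℕ) : ZMod r) ^ m = 1 ↔ e ∣ m := fun m => by
    rw [← h.dvd_iff, ← Nat.cast_pow, ← ZMod.natCast_eq_zero_iff, Nat.cast_sub (Nat.one_le_pow _ _ hq), Nat.cast_one,
      sub_eq_zero]
  exact Nat.dvd_antisymm (orderOf_dvd_iff_pow_eq_one.2 ((key e).2 dvd_rfl)) ((key _).1 (pow_orderOf_eq_one _))

theorem prim_of_orderOf {q r : ℕ} (hq : 1 ≤ q) (hr : r.Prime) (hqr : ¬ r ∣ q) :
    Prim q (orderOf ((q : ℕ) : ZMod r)) r := by
  refine ⟨hr, fun m => ?_, hqr⟩
  rw [orderOf_dvd_iff_pow_eq_one, ← Nat.cast_pow, ← ZMod.natCast_eq_zero_iff, Nat.cast_sub (Nat.one_le_pow _ _ hq),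
    Nat.cast_one, sub_eq_zero]

/-- three pairwise non-adjacent classes -/
theorem miss_of {p : ℕ} (hp : p.Prime) (hp2 : p ≠ 2) {L : Type v} [Group L] {S : Type u} [Group S] (h : SHyp L S)
    {k l m : ℕ} (hk : 3 ≤ k) (hl : 3 ≤ l) (hm : 3 ≤ m) (hkl : k ≠ l) (hkm : k ≠ m) (hlm : l ≠ m)
    (dk : ∀ w, Prim p k w → w ∣ Nat.card L) (dl : ∀ w, Prim p l w → w ∣ Nat.card L)
    (dm : ∀ w, Prim p m w → w ∣ Nat.card L)
    (nkl : ∀ v w, Prim p k v → Prim p l w → ¬ ∃ x : L, orderOf x = v * w)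
    (nkm : ∀ v w, Prim p k v → Prim p m w → ¬ ∃ x : L, orderOf x = v * w)
    (nlm : ∀ v w, Prim p l v → Prim p m w → ¬ ∃ x : L, orderOf x = v * w) :
    In p (Nat.card S) k ∨ In p (Nat.card S) l := by
  classical
  have hex : ∀ e, 3 ≤ e → ∃ w, Prim p e w := fun e he => exists_prim hp.two_le he (fun h => hp2 h.1)
  obtain ⟨a, ha⟩ := hex k hk
  obtain ⟨b, hb⟩ := hex l hl
  obtain ⟨c, hc⟩ := hex m hm
  have hab : a ≠ b := by
    rintro rfl
    exact hkl (ha.unique hb)
  have hac : a ≠ c := by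
    rintro rfl
    exact hkm (ha.unique hc)
  have hbc : b ≠ c := by
    rintro rfl
    exact hlm (hb.unique hc)
  by_contra hcon
  push Not at hcon
  have h1 : ¬ a ∣ Nat.card S := fun hd => hcon.1 ⟨a, ha, hd⟩
  have h2 : ¬ b ∣ Nat.card S := fun hd => hcon.2 ⟨b, hb, hd⟩
  have hsymm : ∀ {v w : ℕ}, (¬ ∃ x : L, orderOf x = v * w) → ¬ ∃ x : L, orderOf x = w * v := fun {v w} h => by
    rwa [mul_comm w v]
  have hq : IsCoq L {a, b, c} := by
    refine ⟨?_, ?_, ?_⟩
    · intro r hr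
      simp only [Finset.mem_insert, Finset.mem_singleton] at hr
      rcases hr with rfl | rfl | rfl
      exacts [ha.prime, hb.prime, hc.prime]
    · intro r hr
      simp only [Finset.mem_insert, Finset.mem_singleton] at hr
      rcases hr with rfl | rfl | rfl
      exacts [dk _ ha, dl _ hb, dm _ hc]
    · intro r hr s hs hrs
      simp only [Finset.mem_insert, Finset.mem_singleton] at hr hs
      rcases hr with rfl | rfl | rfl <;> rcases hs with rfl | rfl | rfl
      · exact absurd rfl hrs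
      · exact nkl _ _ ha hb
      · exact nkm _ _ ha hc
      · exact hsymm (nkl _ _ ha hb)
      · exact absurd rfl hrs
      · exact nlm _ _ hb hc
      · exact hsymm (nkm _ _ ha hc)
      · exact hsymm (nlm _ _ hb hc)
      · exact absurd rfl hrs
  have h3 : ({a, b, c} : Finset ℕ).card = 3 := Finset.card_eq_three.2 ⟨a, b, c, hab, hac, hbc, rfl⟩
  exact hab (h.coc _ hq h3.ge a (by simp) b (by simp) h1 h2)

/-- the data of a name -/
theorem dat_of_named {S : Type u} [Group S] [Finite S] {g : Grp} (hg : IsNamed g S) {p f : ℕ} (hp : p.Prime)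
    (hp2 : p ≠ 2) (hf : f ≠ 0) (hq : qOf g = p ^ f) : Dat p f (Nat.card S) g :=
  ⟨hp, hp2, hf, Nat.card_pos.ne', hg.cond, hq, hg.eq⟩

theorem not_oddM {k l : ℕ} (hkl : k ≠ l) (hk : 0 < k) (hl : 0 < l) (h1 : k % 2 = l % 2 → k < 3 * l ∧ l < 3 * k) :
    ¬ OddM k l := by
  rintro ⟨t, ht, h | h⟩
  · have h2 : k % 2 = l % 2 := by
      obtain ⟨j, rfl⟩ := ht
      rw [h, show k * (2 * j + 1) = 2 * (k * j) + k by ring]
      omega
    have h3 := h1 h2
    have h4 : t ≠ 0 := by rintro rfl; omega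
    have h5 : t ≠ 1 := by rintro rfl; omega
    have h6 : 3 ≤ t := by obtain ⟨j, rfl⟩ := ht; omega
    have : k * 3 ≤ k * t := Nat.mul_le_mul_left _ h6
    omega
  · have h2 : k % 2 = l % 2 := by
      obtain ⟨j, rfl⟩ := ht
      rw [h, show l * (2 * j + 1) = 2 * (l * j) + l by ring]
      omega
    have h3 := h1 h2
    have h4 : t ≠ 0 := by rintro rfl; omega
    have h5 : t ≠ 1 := by rintro rfl; omega
    have h6 : 3 ≤ t := by obtain ⟨j, rfl⟩ := ht; omega
    have : l * 3 ≤ l * t := Nat.mul_le_mul_left _ h6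
    omega

theorem eta_even {k : ℕ} (h : k % 2 = 0) : eta k = k / 2 := by
  rw [eta, if_pos (Nat.even_iff.2 h)]

theorem eta_odd {k : ℕ} (h : k % 2 = 1) : eta k = k := by
  rw [eta, if_neg (by rw [Nat.even_iff]; omega)]

theorem oplus_eq' {F : Type*} [Field F] [Fintype F] {m : ℕ} (hm : 4 ≤ m) :
    fOPlus.den m (Fintype.card F) * Nat.card (POmega F (quadFormPlus m F)) =
      fOPlus.num m (Fintype.card F) := by
  have h := S0293.result (F := F) rfl m hm
  rw [← prod_list (fun i => Fintype.card F ^ (2 * (i + 1)) - 1)] at h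
  change Nat.gcd 4 (Fintype.card F ^ m - 1) * _ =
    Fintype.card F ^ (m * (m - 1)) * ((Fintype.card F ^ m - 1) * prB (Fintype.card F) (m - 1))
  rw [← mul_assoc (Fintype.card F ^ (m * (m - 1)))]
  exact h

theorem oodd_eq' {F : Type*} [Field F] [Fintype F] {m : ℕ} (hm : 3 ≤ m) (ho : Odd (Fintype.card F)) :
    fOOdd.den m (Fintype.card F) * Nat.card (POmega F (quadFormOdd m F)) = fOOdd.num m (Fintype.card F) := by
  have h := S0292.result (F := F) rfl ho m hm
  rw [← prod_list (fun i => Fintype.card F ^ (2 * (i + 1)) - 1)] at h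
  exact h

theorem ominus_eq' {F : Type*} [Field F] [Fintype F] {m : ℕ} (hm : 4 ≤ m) {a b : F}
    (hab : ∀ z₁ z₂ : F, z₁ ^ 2 + a * z₁ * z₂ + b * z₂ ^ 2 = 0 → z₁ = 0 ∧ z₂ = 0) :
    fOMinus.den m (Fintype.card F) * Nat.card (POmega F (quadFormMinus (m - 1) F a b)) =
      fOMinus.num m (Fintype.card F) := by
  have h := S0294.result (F := F) rfl m hm a b hab
  rw [← prod_list (fun i => Fintype.card F ^ (2 * (i + 1)) - 1)] at h
  change Nat.gcd 4 (Fintype.card F ^ m + 1) * _ =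
    Fintype.card F ^ (m * (m - 1)) * ((Fintype.card F ^ m + 1) * prB (Fintype.card F) (m - 1))
  rw [← mul_assoc (Fintype.card F ^ (m * (m - 1)))]
  exact h

theorem psl_eq' {F : Type*} [Field F] [Fintype F] {n : ℕ} (hn : 2 ≤ n) :
    fPSL.den n (Fintype.card F) * Nat.card (Matrix.ProjectiveSpecialLinearGroup (Fin n) F) =
      fPSL.num n (Fintype.card F) := by
  have h := S0243.result (F := F) rfl n hn
  rw [Fin.prod_univ_eq_prod_range (fun i => Fintype.card F ^ n - Fintype.card F ^ i) n, ← prod_list] at h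
  change Nat.gcd n (Fintype.card F - 1) * (Fintype.card F - 1) * _ = glN n (Fintype.card F)
  rw [mul_assoc]
  exact h

section plus

variable {F : Type*} [Field F] [Fintype F] {p : ℕ}

/-- non-adjacency of classes in `POmega⁺` -/
theorem plus_cls (hp : p.Prime) (hp2 : p ≠ 2) (hF : Fintype.card F = p) {n : ℕ} (hn : 3 ≤ n) {k l : ℕ} (hk : 3 ≤ k)
    (hl : 3 ≤ l) (hkl : k ≠ l) (h : n < eta k + eta l) (ho : ¬ OddM k l) :
    ∀ v w, Prim p k v → Prim p l w → ¬ ∃ x : POmega F (quadFormPlus n F), orderOf x = v * w := by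
  intro v w hv hw
  have h1 := prim_orderOf hp.one_lt.le hv
  have h2 := prim_orderOf hp.one_lt.le hw
  refine plus_nonadj (by rw [hF]; exact hp.odd_of_ne_two hp2) hn hv.prime hw.prime ?_ ?_ ?_ ?_ ?_ ?_ ?_
  · have := hv.odd (by omega)
    omega
  · have := hw.odd (by omega)
    omega
  · rintro rfl
    exact hkl (hv.unique hw)
  · rw [hF]; exact hv.not_dvd
  · rw [hF]; exact hw.not_dvd
  · rw [hF, h1, h2]; exact h
  · rw [hF, h1, h2]; exact ho

theorem plus_dvd (hp : p.Prime) (hF : Fintype.card F = p) {n : ℕ} (hn : 4 ≤ n) {k w : ℕ}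
    (hk : 3 ≤ k) (hw : Prim p k w) : w ∣ Nat.card (POmega F (quadFormPlus n F)) ↔
      (k % 2 = 0 ∧ k ≤ 2 * (n - 1)) ∨ (k % 2 = 1 ∧ k ≤ n) := by
  have h1 := oplus_eq' (F := F) hn
  rw [hF] at h1
  rw [dvd_iff hp.two_le hk hw (g := .oplus n p) rfl h1]
  exact K_oplus (by omega) (by omega)

/-- **The conditions for `D_n(p)`.** -/
theorem plus_of_sHyp (hp : p.Prime) (hp2 : p ≠ 2) (hF : Fintype.card F = p) {n : ℕ} (hn : 5 ≤ n) {S : Type u} [Group S]
    (h : SHyp (POmega F (quadFormPlus n F)) S) : Plus p n (Nat.card S) := by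
  refine ⟨hn, ?_, ?_, ?_⟩
  · rintro e he ⟨w, hw, hd⟩
    have h1 := (plus_dvd hp hF (by omega) he hw).1 (h.pi w hw.prime hd)
    omega
  · intro k l hkl hk hl
    obtain ⟨m, hm, hmk, hml⟩ : ∃ m, MPlus n m ∧ m ≠ k ∧ m ≠ l := by
      have m1 : MPlus n (2 * n - 2) := Or.inl ⟨by omega, by omega, by omega⟩
      have m2 : MPlus n (2 * n - 4) := Or.inl ⟨by omega, by omega, by omega⟩
      obtain ⟨o, ho, ho2⟩ : ∃ o, (o = n ∨ o = n - 1) ∧ o % 2 = 1 := by
        rcases Nat.mod_two_eq_zero_or_one n with h | h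
        · exact ⟨n - 1, Or.inr rfl, by omega⟩
        · exact ⟨n, Or.inl rfl, h⟩
      have mo : MPlus n o := Or.inr ⟨ho2, by omega, by omega⟩
      by_cases h1 : 2 * n - 2 ≠ k ∧ 2 * n - 2 ≠ l
      · exact ⟨_, m1, h1⟩
      · by_cases h2 : 2 * n - 4 ≠ k ∧ 2 * n - 4 ≠ l
        · exact ⟨_, m2, h2⟩
        · exact ⟨o, mo, by omega, by omega⟩
    have dv : ∀ k, MPlus n k → 3 ≤ k ∧ ∀ w, Prim p k w → w ∣ Nat.card (POmega F (quadFormPlus n F)) := fun k hk => by
      have h3 : 3 ≤ k := by unfold MPlus at hk; omega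
      refine ⟨h3, fun w hw => (plus_dvd hp hF (by omega) h3 hw).2 ?_⟩
      unfold MPlus at hk
      omega
    have nd : ∀ k l, MPlus n k → MPlus n l → k ≠ l →
        ∀ v w, Prim p k v → Prim p l w → ¬ ∃ x : POmega F (quadFormPlus n F), orderOf x = v * w := fun k l hk hl hkl => by
      have hk3 := (dv k hk).1
      have hl3 := (dv l hl).1
      have ek : n < 2 * eta k ∧ eta k ≤ n := by
        unfold MPlus at hk
        rcases hk with hk | hk
        · rw [eta_even hk.1]; omega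
        · rw [eta_odd hk.1]; omega
      have el : n < 2 * eta l ∧ eta l ≤ n := by
        unfold MPlus at hl
        rcases hl with hl | hl
        · rw [eta_even hl.1]; omega
        · rw [eta_odd hl.1]; omega
      refine plus_cls hp hp2 hF (by omega) hk3 hl3 hkl (by omega) (not_oddM hkl (by omega) (by omega) fun hpar => ?_)
      unfold MPlus at hk hl
      omega
    exact miss_of hp hp2 h (dv k hk).1 (dv l hl).1 (dv m hm).1 hkl hmk.symm hml.symm (dv k hk).2 (dv l hl).2 (dv m hm).2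
      (nd k l hk hl hkl) (nd k m hk hm hmk.symm) (nd l m hl hm hml.symm)
  · rintro rfl
    have dv : ∀ k, (k = 6 ∨ k = 8 ∨ k = 10) → ∀ w, Prim p k w → w ∣ Nat.card (POmega F (quadFormPlus 6 F)) :=
      fun k hk w hw => (plus_dvd hp hF (by omega) (by omega) hw).2 (by omega)
    have nd : ∀ k l, (k = 6 ∨ k = 8 ∨ k = 10) → (l = 6 ∨ l = 8 ∨ l = 10) → k ≠ l →
        ∀ v w, Prim p k v → Prim p l w → ¬ ∃ x : POmega F (quadFormPlus 6 F), orderOf x = v * w := fun k l hk hl hkl => by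
      refine plus_cls hp hp2 hF (by omega) (by omega) (by omega) hkl ?_
        (not_oddM hkl (by omega) (by omega) fun hpar => by omega)
      rw [eta_even (by omega), eta_even (by omega)]
      omega
    exact miss_of hp hp2 h (m := 10) (by omega) (by omega) (by omega) (by omega) (by omega) (by omega) (dv 6 (by omega))
      (dv 8 (by omega)) (dv 10 (by omega)) (nd 6 8 (by omega) (by omega) (by omega))
      (nd 6 10 (by omega) (by omega) (by omega)) (nd 8 10 (by omega) (by omega) (by omega))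

end plus

end Cfsg.Agent.H425.Chr
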