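import Cfsg.Agent.H425.ChrBase

/-!
# The classes of the names, explicitly (helper425)
-/

set_option autoImplicit false

namespace Cfsg.Agent.H425.Chr

open Cfsg Cfsg.Agent.OrdDiv Cfsg.Agent.H436 Cfsg.Agent.H425.PartP

variable {m n d q : ℕ}

theorem even_cls (hd : 1 ≤ d) : (∃ k, 1 ≤ k ∧ k ≤ m ∧ d ∣ 2 * k) ↔ (d % 2 = 0 ∧ d ≤ 2 * m) ∨ (d % 2 = 1 ∧ d ≤ m) := by
  constructor
  · rintro ⟨k, hk, hkm, h⟩
    rcases Nat.mod_two_eq_zero_or_one d with h2 | h2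
    · have := Nat.le_of_dvd (by omega) h
      exact Or.inl ⟨h2, by omega⟩
    · have h3 : Nat.Coprime d 2 := (Nat.coprime_two_left.mpr (Nat.odd_iff.2 h2)).symm
      have := Nat.le_of_dvd (by omega) (h3.dvd_of_dvd_mul_left h)
      exact Or.inr ⟨h2, by omega⟩
  · rintro (⟨h2, h⟩ | ⟨h2, h⟩)
    · exact ⟨d / 2, by omega, by omega, by rw [Nat.mul_div_cancel' (Nat.dvd_of_mod_eq_zero h2)]⟩
    · exact ⟨d, hd, h, Nat.dvd_mul_left _ _⟩

theorem K_psp (hd : 1 ≤ d) : K (.psp m q) d ↔ (d % 2 = 0 ∧ d ≤ 2 * m) ∨ (d % 2 = 1 ∧ d ≤ m) := even_cls hd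

theorem K_oodd (hd : 1 ≤ d) : K (.oodd m q) d ↔ (d % 2 = 0 ∧ d ≤ 2 * m) ∨ (d % 2 = 1 ∧ d ≤ m) := even_cls hd

theorem K_psl : K (.psl n q) d ↔ d ≤ n := Iff.rfl

theorem K_oplus (hm : 2 ≤ m) (hd : 1 ≤ d) :
    K (.oplus m q) d ↔ (d % 2 = 0 ∧ d ≤ 2 * (m - 1)) ∨ (d % 2 = 1 ∧ d ≤ m) := by
  change (d ∣ m ∨ ∃ k, 1 ≤ k ∧ k ≤ m - 1 ∧ d ∣ 2 * k) ↔ _
  rw [even_cls hd]
  constructor
  · rintro (h | ⟨h2, h⟩ | ⟨h2, h⟩)
    · have := Nat.le_of_dvd (by omega) h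
      omega
    · omega
    · omega
  · rintro (⟨h2, h⟩ | ⟨h2, h⟩)
    · omega
    · rcases Nat.lt_or_ge d m with h3 | h3
      · omega
      · obtain rfl : d = m := by omega
        exact Or.inl dvd_rfl

theorem K_ominus (hm : 2 ≤ m) (hd : 1 ≤ d) :
    K (.ominus m q) d ↔ (d % 2 = 0 ∧ d ≤ 2 * m) ∨ (d % 2 = 1 ∧ d ≤ m - 1) := by
  change ((d ∣ 2 * m ∧ ¬ d ∣ m) ∨ ∃ k, 1 ≤ k ∧ k ≤ m - 1 ∧ d ∣ 2 * k) ↔ _
  rw [even_cls hd]
  constructor
  · rintro (⟨h, h1⟩ | ⟨h2, h⟩ | ⟨h2, h⟩)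
    · rcases Nat.mod_two_eq_zero_or_one d with h2 | h2
      · have := Nat.le_of_dvd (by omega) h
        exact Or.inl ⟨h2, by omega⟩
      · have h3 : Nat.Coprime d 2 := (Nat.coprime_two_left.mpr (Nat.odd_iff.2 h2)).symm
        exact absurd (h3.dvd_of_dvd_mul_left h) h1
    · omega
    · omega
  · rintro (⟨h2, h⟩ | ⟨h2, h⟩)
    · rcases Nat.lt_or_ge d (2 * m) with h3 | h3
      · omega
      · obtain rfl : d = 2 * m := by omega
        refine Or.inl ⟨dvd_rfl, fun h4 => ?_⟩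
        have := Nat.le_of_dvd (by omega) h4
        omega
    · omega

theorem K_psu (hd : 1 ≤ d) : K (.psu n q) d ↔
    (d % 4 = 2 ∧ d ≤ 2 * n) ∨ (d % 4 = 0 ∧ d ≤ n) ∨ (d % 2 = 1 ∧ 2 * d ≤ n) := by
  change (∃ k, 1 ≤ k ∧ k ≤ n ∧ ((k % 2 = 1 ∧ d ∣ 2 * k ∧ ¬ d ∣ k) ∨ (k % 2 = 0 ∧ d ∣ k))) ↔ _
  constructor
  · rintro ⟨k, hk, hkn, ⟨h1, h2, h3⟩ | ⟨h1, h2⟩⟩
    · rcases Nat.mod_two_eq_zero_or_one d with h4 | h4
      · have h5 := Nat.le_of_dvd (by omega) h2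
        obtain ⟨j, hj⟩ := h2
        left
        refine ⟨?_, by omega⟩
        by_contra h6
        have h7 : d % 4 = 0 := by omega
        obtain ⟨i, rfl⟩ := Nat.dvd_of_mod_eq_zero h7
        have : 2 * k = 4 * (i * j) := by rw [hj]; ring
        omega
      · have h5 : Nat.Coprime d 2 := (Nat.coprime_two_left.mpr (Nat.odd_iff.2 h4)).symm
        exact absurd (h5.dvd_of_dvd_mul_left h2) h3
    · have h5 := Nat.le_of_dvd (by omega) h2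
      rcases Nat.mod_two_eq_zero_or_one d with h4 | h4
      · omega
      · right; right
        refine ⟨h4, ?_⟩
        obtain ⟨j, rfl⟩ := h2
        have h6 : j ≠ 0 := by rintro rfl; omega
        have h7 : j ≠ 1 := by rintro rfl; omega
        have : 2 ≤ j := by omega
        nlinarith
  · rintro (⟨h2, h⟩ | ⟨h2, h⟩ | ⟨h2, h⟩)
    · refine ⟨d / 2, by omega, by omega, Or.inl ⟨by omega, ?_, fun h4 => ?_⟩⟩
      · rw [Nat.mul_div_cancel' (Nat.dvd_of_mod_eq_zero (by omega))]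
      · have := Nat.le_of_dvd (by omega) h4
        omega
    · exact ⟨d, by omega, h, Or.inr ⟨by omega, dvd_rfl⟩⟩
    · exact ⟨2 * d, by omega, h, Or.inr ⟨by omega, Nat.dvd_mul_left _ _⟩⟩

theorem K_g2 (h : K (.g2 q) d) : d ≤ 3 ∨ d = 6 := by
  change d ∣ 2 ∨ d ∣ 6 at h
  have h2 : d ≤ 6 := by
    rcases h with h | h <;> have := Nat.le_of_dvd (by norm_num) h <;> omega
  revert h
  interval_cases d <;> decide

theorem K_f4 (h : K (.f4 q) d) : d ≤ 4 ∨ d = 6 ∨ d = 8 ∨ d = 12 := by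
  change d ∣ 2 ∨ d ∣ 6 ∨ d ∣ 8 ∨ d ∣ 12 at h
  have h2 : d ≤ 12 := by
    rcases h with h | h | h | h <;> have := Nat.le_of_dvd (by norm_num) h <;> omega
  revert h
  interval_cases d <;> decide

theorem K_e6 (h : K (.e6 q) d) : d ≤ 6 ∨ d = 8 ∨ d = 9 ∨ d = 12 := by
  change d ∣ 2 ∨ d ∣ 5 ∨ d ∣ 6 ∨ d ∣ 8 ∨ d ∣ 9 ∨ d ∣ 12 at h
  have h2 : d ≤ 12 := by
    rcases h with h | h | h | h | h | h <;> have := Nat.le_of_dvd (by norm_num) h <;> omega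
  revert h
  interval_cases d <;> decide

theorem K_e7 (h : K (.e7 q) d) : d ≤ 10 ∨ d = 12 ∨ d = 14 ∨ d = 18 := by
  change d ∣ 2 ∨ d ∣ 6 ∨ d ∣ 8 ∨ d ∣ 10 ∨ d ∣ 12 ∨ d ∣ 14 ∨ d ∣ 18 at h
  have h2 : d ≤ 18 := by
    rcases h with h | h | h | h | h | h | h <;> have := Nat.le_of_dvd (by norm_num) h <;> omega
  revert h
  interval_cases d <;> decide

theorem K_e8 (h : K (.e8 q) d) : d ≤ 10 ∨ d = 12 ∨ d = 14 ∨ d = 15 ∨ d = 18 ∨ d = 20 ∨ d = 24 ∨ d = 30 := by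
  change d ∣ 2 ∨ d ∣ 8 ∨ d ∣ 12 ∨ d ∣ 14 ∨ d ∣ 18 ∨ d ∣ 20 ∨ d ∣ 24 ∨ d ∣ 30 at h
  have h2 : d ≤ 30 := by
    rcases h with h | h | h | h | h | h | h | h <;> have := Nat.le_of_dvd (by norm_num) h <;> omega
  revert h
  interval_cases d <;> decide

theorem K_te6 (h : K (.te6 q) d) : d ≤ 4 ∨ d = 6 ∨ d = 8 ∨ d = 10 ∨ d = 12 ∨ d = 18 := by
  change d ∣ 2 ∨ (d ∣ 2 * 5 ∧ ¬ d ∣ 5) ∨ d ∣ 6 ∨ d ∣ 8 ∨ (d ∣ 2 * 9 ∧ ¬ d ∣ 9) ∨ d ∣ 12 at h
  have h2 : d ≤ 18 := by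
    rcases h with h | ⟨h, -⟩ | h | h | ⟨h, -⟩ | h <;> have := Nat.le_of_dvd (by norm_num) h <;> omega
  revert h
  interval_cases d <;> decide

theorem K_td4 (h : K (.td4 q) d) : d ≤ 3 ∨ d = 6 ∨ d = 12 := by
  change d ∣ 2 ∨ d ∣ 6 ∨ (d ∣ 12 ∧ ¬ d ∣ 4) at h
  have h2 : d ≤ 12 := by
    rcases h with h | h | ⟨h, -⟩ <;> have := Nat.le_of_dvd (by norm_num) h <;> omega
  revert h
  interval_cases d <;> decide

theorem K_sz (h : K (.sz q) d) : d ≤ 1 ∨ d = 4 := by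
  change d ∣ 1 ∨ (d ∣ 2 * 2 ∧ ¬ d ∣ 2) at h
  have h2 : d ≤ 4 := by
    rcases h with h | ⟨h, -⟩ <;> have := Nat.le_of_dvd (by norm_num) h <;> omega
  revert h
  interval_cases d <;> decide

theorem K_ree (h : K (.ree q) d) : d ≤ 2 ∨ d = 6 := by
  change d ∣ 1 ∨ (d ∣ 2 * 3 ∧ ¬ d ∣ 3) at h
  have h2 : d ≤ 6 := by
    rcases h with h | ⟨h, -⟩ <;> have := Nat.le_of_dvd (by norm_num) h <;> omega
  revert h
  interval_cases d <;> decide

theorem K_tf4 (h : K (.tf4 q) d) : d ≤ 2 ∨ d = 4 ∨ d = 6 ∨ d = 12 := by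
  change d ∣ 1 ∨ (d ∣ 2 * 3 ∧ ¬ d ∣ 3) ∨ d ∣ 4 ∨ (d ∣ 2 * 6 ∧ ¬ d ∣ 6) at h
  have h2 : d ≤ 12 := by
    rcases h with h | ⟨h, -⟩ | h | ⟨h, -⟩ <;> have := Nat.le_of_dvd (by norm_num) h <;> omega
  revert h
  interval_cases d <;> decide

/-- the top class -/
def top : Grp → ℕ
  | .psl n _ => n
  | .psp m _ => 2 * m
  | .psu n _ => 2 * (n - (1 - n % 2))
  | .oodd m _ => 2 * m
  | .oplus m _ => 2 * (m - 1)
  | .ominus m _ => 2 * m
  | .g2 _ => 6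
  | .f4 _ => 12
  | .e6 _ => 12
  | .e7 _ => 18
  | .e8 _ => 30
  | .te6 _ => 18
  | .td4 _ => 12
  | .sz _ => 4
  | .ree _ => 6
  | .tf4 _ => 12
  | _ => 0

/-- is it a projective special linear group? -/
def isPSL : Grp → Prop
  | .psl _ _ => True
  | _ => False

variable {g : Grp}

theorem K_top (hg : Cond g) (hq : qOf g ≠ 0) : K g (top g) := by
  cases g with
  | psl n q => exact le_rfl
  | psp m q =>
    have h1 : 2 ≤ m := hg.1
    exact ⟨m, by omega, le_rfl, dvd_rfl⟩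
  | oodd m q =>
    have h1 : 3 ≤ m := hg.1
    exact ⟨m, by omega, le_rfl, dvd_rfl⟩
  | psu n q =>
    have h1 : 3 ≤ n := hg.1
    refine ⟨n - (1 - n % 2), by omega, by omega, Or.inl ⟨by omega, dvd_rfl, fun h => ?_⟩⟩
    have := Nat.le_of_dvd (by omega) h
    simp only [top] at this
    omega
  | oplus m q =>
    have h1 : 4 ≤ m := hg.1
    exact Or.inr ⟨m - 1, by omega, le_rfl, dvd_rfl⟩
  | ominus m q =>
    have h1 : 4 ≤ m := hg.1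
    refine Or.inl ⟨dvd_rfl, fun h => ?_⟩
    have := Nat.le_of_dvd (by omega) h
    simp only [top] at this
    omega
  | g2 q => exact Or.inr dvd_rfl
  | f4 q => exact Or.inr (Or.inr (Or.inr dvd_rfl))
  | e6 q => exact Or.inr (Or.inr (Or.inr (Or.inr (Or.inr dvd_rfl))))
  | e7 q => exact Or.inr (Or.inr (Or.inr (Or.inr (Or.inr (Or.inr dvd_rfl)))))
  | e8 q => exact Or.inr (Or.inr (Or.inr (Or.inr (Or.inr (Or.inr (Or.inr dvd_rfl))))))
  | te6 q => exact Or.inr (Or.inr (Or.inr (Or.inr (Or.inl ⟨dvd_rfl, by change ¬ (18 ∣ 9); decide⟩))))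
  | td4 q => exact Or.inr (Or.inr ⟨dvd_rfl, by change ¬ (12 ∣ 4); decide⟩)
  | sz q => exact Or.inr ⟨dvd_rfl, by change ¬ (4 ∣ 2); decide⟩
  | ree q => exact Or.inr ⟨dvd_rfl, by change ¬ (6 ∣ 3); decide⟩
  | tf4 q => exact Or.inr (Or.inr (Or.inr ⟨dvd_rfl, by change ¬ (12 ∣ 6); decide⟩))
  | _ => exact absurd rfl hq

theorem four_le_top (hg : Cond g) (hq : qOf g ≠ 0) (hn : ¬ isPSL g) : 4 ≤ top g := by
  cases g with
  | psl n q => exact absurd trivial hn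
  | psp m q =>
    have h1 : 2 ≤ m := hg.1
    change 4 ≤ 2 * m
    omega
  | oodd m q =>
    have h1 : 3 ≤ m := hg.1
    change 4 ≤ 2 * m
    omega
  | psu n q =>
    have h1 : 3 ≤ n := hg.1
    change 4 ≤ 2 * (n - (1 - n % 2))
    omega
  | oplus m q =>
    have h1 : 4 ≤ m := hg.1
    change 4 ≤ 2 * (m - 1)
    omega
  | ominus m q =>
    have h1 : 4 ≤ m := hg.1
    change 4 ≤ 2 * m
    omega
  | g2 q => change 4 ≤ 6; norm_num
  | f4 q => change 4 ≤ 12; norm_num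
  | e6 q => change 4 ≤ 12; norm_num
  | e7 q => change 4 ≤ 18; norm_num
  | e8 q => change 4 ≤ 30; norm_num
  | te6 q => change 4 ≤ 18; norm_num
  | td4 q => change 4 ≤ 12; norm_num
  | sz q => change 4 ≤ 4; norm_num
  | ree q => change 4 ≤ 6; norm_num
  | tf4 q => change 4 ≤ 12; norm_num
  | _ => exact absurd rfl hq

theorem odd_le_top (hg : Cond g) (hq : qOf g ≠ 0) (hn : ¬ isPSL g) (h3 : 3 ≤ d) (hodd : d % 2 = 1) (h : K g d) :
    d + 2 ≤ top g := by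
  cases g with
  | psl n q => exact absurd trivial hn
  | psp m q =>
    have h1 : 2 ≤ m := hg.1
    change d + 2 ≤ 2 * m
    rw [K_psp (by omega)] at h
    omega
  | oodd m q =>
    have h1 : 3 ≤ m := hg.1
    change d + 2 ≤ 2 * m
    rw [K_oodd (by omega)] at h
    omega
  | psu n q =>
    have h1 : 3 ≤ n := hg.1
    change d + 2 ≤ 2 * (n - (1 - n % 2))
    rw [K_psu (by omega)] at h
    omega
  | oplus m q =>
    have h1 : 4 ≤ m := hg.1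
    change d + 2 ≤ 2 * (m - 1)
    rw [K_oplus (by omega) (by omega)] at h
    omega
  | ominus m q =>
    have h1 : 4 ≤ m := hg.1
    change d + 2 ≤ 2 * m
    rw [K_ominus (by omega) (by omega)] at h
    omega
  | g2 q => have := K_g2 h; change d + 2 ≤ 6; omega
  | f4 q => have := K_f4 h; change d + 2 ≤ 12; omega
  | e6 q => have := K_e6 h; change d + 2 ≤ 12; omega
  | e7 q => have := K_e7 h; change d + 2 ≤ 18; omega
  | e8 q => have := K_e8 h; change d + 2 ≤ 30; omega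
  | te6 q => have := K_te6 h; change d + 2 ≤ 18; omega
  | td4 q => have := K_td4 h; change d + 2 ≤ 12; omega
  | sz q => have := K_sz h; change d + 2 ≤ 4; omega
  | ree q => have := K_ree h; change d + 2 ≤ 6; omega
  | tf4 q => have := K_tf4 h; change d + 2 ≤ 12; omega
  | _ => exact absurd rfl hq

end Cfsg.Agent.H425.Chr
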