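import Cfsg.Agent.H425.ChrMinus

/-!
# Groups of Lie type in the characteristic of `B_n(p)` whose prime graph almost covers that of `B_n(p)` (helper425)
-/

set_option autoImplicit false

namespace Cfsg.Agent.H425.Chr

open Cfsg Cfsg.Agent.OrdDiv Cfsg.Agent.H436 Cfsg.Agent.H425.PartP

variable {p f c n : ℕ} {g : Grp}

/-- the classes of the large coclique of `B_n(p)` -/
def MOdd (n e : ℕ) : Prop := (e % 2 = 0 ∧ n < e ∧ e ≤ 2 * n) ∨ (e % 2 = 1 ∧ n < 2 * e ∧ e ≤ n)

/-- The hypotheses on the order `c` of a simple group, coming from the prime graph of `B_n(p)`. -/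
structure OddO (p n c : ℕ) : Prop where
  hn : 6 ≤ n
  ppd : ∀ e, 3 ≤ e → In p c e → e ≤ 2 * n ∧ (e % 2 = 1 → e ≤ n)
  miss : ∀ k l, k ≠ l → MOdd n k → MOdd n l → In p c k ∨ In p c l

theorem OddO.f_le (P : OddO p n c) (H : Dat p f c g) : f ≤ 2 := by
  have hn := P.hn
  by_contra hf
  push Not at hf
  have hN : ∀ e, 3 ≤ e → In p c e → e ≤ 2 * n := fun e he h => (P.ppd e he h).1
  have key : ∀ e, n < e → In p c e → f ∣ e := fun e he h =>
      H.dvd_of_in (by omega) hN (by omega) h (by omega)
  have m1 : MOdd n (2 * n) := Or.inl ⟨by omega, by omega, by omega⟩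
  have m2 : MOdd n (2 * n - 2) := Or.inl ⟨by omega, by omega, by omega⟩
  have m3 : MOdd n (2 * n - 4) := Or.inl ⟨by omega, by omega, by omega⟩
  have k1 := key (2 * n) (by omega)
  have k2 := key (2 * n - 2) (by omega)
  have k3 := key (2 * n - 4) (by omega)
  have no2 : ∀ {a b : ℕ}, f ∣ a → f ∣ b → a = b + 2 → False := fun {a b} ha hb hab => by
    have h := (Nat.dvd_sub ha hb)
    rw [hab, Nat.add_sub_cancel_left] at h
    have := Nat.le_of_dvd (by norm_num) h
    omega
  have i12 := P.miss _ _ (by omega) m1 m2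
  have i23 := P.miss _ _ (by omega) m2 m3
  have i13 := P.miss _ _ (by omega) m1 m3
  by_cases c2 : In p c (2 * n - 2)
  · rcases i13 with c1 | c3
    · exact no2 (k1 c1) (k2 c2) (by omega)
    · exact no2 (k2 c2) (k3 c3) (by omega)
  · have c1 := i12.resolve_right c2
    have c3 := i23.resolve_left c2
    have h4 : f ∣ 4 := by
      have h := (Nat.dvd_sub (k1 c1) (k3 c3))
      rwa [show 2 * n - (2 * n - 4) = 4 by omega] at h
    have h5 : f = 4 := by
      have h6 := Nat.le_of_dvd (by norm_num) h4
      have h7 : f = 3 ∨ f = 4 := by omega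
      rcases h7 with rfl | rfl
      · norm_num at h4
      · rfl
    obtain ⟨o, ho, ho2⟩ : ∃ o, (o = n ∨ o = n - 1) ∧ o % 2 = 1 := by
      rcases Nat.mod_two_eq_zero_or_one n with h | h
      · exact ⟨n - 1, Or.inr rfl, by omega⟩
      · exact ⟨n, Or.inl rfl, h⟩
    have mo : MOdd n o := Or.inr ⟨ho2, by omega, by omega⟩
    have io := (P.miss _ _ (by omega) m2 mo).resolve_left c2
    subst h5
    have h6 := H.in_odd (by omega) ho2 (Or.inr rfl) io
    have h7 := hN _ (by omega) h6.2
    omega

theorem OddO.two (P : OddO p n c) (H : Dat p 2 c g) :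
    g = .psl n (p ^ 2) ∨ (n % 2 = 0 ∧ g = .psl (n - 1) (p ^ 2)) := by
  have hn := P.hn
  have hN : ∀ e, 3 ≤ e → In p c e → e ≤ 2 * n := fun e he h => (P.ppd e he h).1
  have h1 := H.in_top le_rfl
  have htop := two_le_top H.cond H.q_ne
  have h2 := hN _ (by omega) h1
  obtain ⟨o, ho, ho2⟩ : ∃ o, (o = n ∨ o = n - 1) ∧ o % 2 = 1 := by
    rcases Nat.mod_two_eq_zero_or_one n with h | h
    · exact ⟨n - 1, Or.inr rfl, by omega⟩
    · exact ⟨n, Or.inl rfl, h⟩
  have mo : MOdd n o := Or.inr ⟨ho2, by omega, by omega⟩
  have ko : In p c o → K g o := fun h => (H.in_odd (by omega) ho2 (Or.inl rfl) h).1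
  have kev : ∀ k, 3 ≤ k → In p c (2 * k) → K g k := fun k hk h => by
    have h5 : (2 * k) / Nat.gcd (2 * k) 2 = k := by
      rw [Nat.gcd_eq_right (Nat.dvd_mul_right 2 k)]
      omega
    have h6 := (H.in_iff (by rw [h5]; omega)).1 h
    rwa [h5] at h6
  by_cases hpsl : isPSL g
  · cases g with
    | psl m q =>
      obtain rfl : q = p ^ 2 := H.hq
      change 2 * m ≤ _ at h2
      rcases Nat.lt_or_ge m n with h4 | h4
      · right
        have h3 : m = n - 1 := by
          by_contra hne
          rcases P.miss (2 * n) (2 * (n - 1)) (by omega) (Or.inl ⟨by omega, by omega, by omega⟩)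
              (Or.inl ⟨by omega, by omega, by omega⟩) with h | h
          · have h7 : n ≤ m := kev n (by omega) h
            omega
          · have h7 : n - 1 ≤ m := kev (n - 1) (by omega) h
            omega
        refine ⟨?_, by rw [h3]⟩
        by_contra hne
        have h8 : o = n := by omega
        rcases P.miss (2 * n) o (by omega) (Or.inl ⟨by omega, by omega, by omega⟩) mo with h | h
        · have h7 : n ≤ m := kev n (by omega) h
          omega
        · have h7 : o ≤ m := ko h
          omega
      · left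
        have h3 : m = n := by omega
        rw [h3]
    | _ => exact hpsl.elim
  · exfalso
    rcases P.miss (2 * o) o (by omega) (Or.inl ⟨by omega, by omega, by omega⟩) mo with h | h
    · have h7 := odd_le_top H.cond H.q_ne hpsl (by omega) ho2 (kev o (by omega) h)
      omega
    · have h7 := odd_le_top H.cond H.q_ne hpsl (by omega) ho2 (ko h)
      omega

/-- the groups which remain -/
def SurvOdd (p n : ℕ) (g : Grp) : Prop :=
  g = .psp n p ∨ g = .oodd n p ∨ (n % 2 = 0 ∧ (g = .psp (n - 1) p ∨ g = .oodd (n - 1) p)) ∨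
    (n % 2 = 1 ∧ g = .oplus (n + 1) p) ∨ g = .oplus n p ∨ g = .ominus n p ∨ (n = 9 ∧ g = .e7 p)

theorem OddO.one (P : OddO p n c) (H : Dat p 1 c g) : SurvOdd p n g := by
  have hn := P.hn
  have hin : ∀ {e : ℕ}, 3 ≤ e → (In p c e ↔ K g e) := fun he => H.in_one he
  have hN : ∀ e, 3 ≤ e → K g e → e ≤ 2 * n ∧ (e % 2 = 1 → e ≤ n) := fun e he h =>
    P.ppd e he ((hin he).2 h)
  have hq := H.hq
  rw [pow_one] at hq
  have mis : ∀ k l, k ≠ l → MOdd n k → MOdd n l → ¬ K g k → ¬ K g l → False := fun k l hkl hk hl h1 h2 => by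
    have hk3 : 3 ≤ k := by unfold MOdd at hk; omega
    have hl3 : 3 ≤ l := by unfold MOdd at hl; omega
    rcases P.miss k l hkl hk hl with h | h
    · exact h1 ((hin hk3).1 h)
    · exact h2 ((hin hl3).1 h)
  obtain ⟨o, ho, ho2⟩ : ∃ o, (o = n ∨ o = n - 1) ∧ o % 2 = 1 := by
    rcases Nat.mod_two_eq_zero_or_one n with h | h
    · exact ⟨n - 1, Or.inr rfl, by omega⟩
    · exact ⟨n, Or.inl rfl, h⟩
  have mo : MOdd n o := Or.inr ⟨ho2, by omega, by omega⟩
  have m1 : MOdd n (2 * n) := Or.inl ⟨by omega, by omega, by omega⟩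
  have m2 : MOdd n (2 * n - 2) := Or.inl ⟨by omega, by omega, by omega⟩
  have m3 : MOdd n (2 * n - 4) := Or.inl ⟨by omega, by omega, by omega⟩
  have mis1 := mis _ _ (by omega) m1 m2
  have mis2 := mis _ _ (by omega) m2 m3
  have mis3 := mis _ _ (by omega) m1 m3
  have mis4 := mis _ _ (by omega) m1 mo
  have mis5 := mis _ _ (by omega) m2 mo
  have htop := K_top H.cond H.q_ne
  cases g with
  | psl m q =>
    have hm : 2 ≤ m := H.cond.1
    have h1 : m ≤ n + 1 := by
      by_contra hlt
      rcases Nat.mod_two_eq_zero_or_one n with h | h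
      · have := (hN (n + 1) (by omega) (K_psl.2 (by omega))).2 (by omega)
        omega
      · have := (hN (n + 2) (by omega) (K_psl.2 (by omega))).2 (by omega)
        omega
    exact (mis1 (fun h => by rw [K_psl] at h; omega) (fun h => by rw [K_psl] at h; omega)).elim
  | psp m q =>
    obtain rfl : q = p := hq
    have hm : 2 ≤ m := H.cond.1
    have h1 : 2 * m ≤ _ := (hN _ (show 3 ≤ 2 * m by omega) htop).1
    rcases Nat.lt_or_ge m n with h3 | h3
    · have h2 : m = n - 1 := by
        by_contra hne
        exact mis1 (fun h => by rw [K_psp (by omega)] at h; omega)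
          (fun h => by rw [K_psp (by omega)] at h; omega)
      have h4 : n % 2 = 0 := by
        by_contra hne
        exact mis4 (fun h => by rw [K_psp (by omega)] at h; omega)
          (fun h => by rw [K_psp (by omega)] at h; omega)
      subst h2
      exact Or.inr (Or.inr (Or.inl ⟨h4, Or.inl rfl⟩))
    · obtain rfl : m = n := by omega
      exact Or.inl rfl
  | oodd m q =>
    obtain rfl : q = p := hq
    have hm : 3 ≤ m := H.cond.1
    have h1 : 2 * m ≤ _ := (hN _ (show 3 ≤ 2 * m by omega) htop).1
    rcases Nat.lt_or_ge m n with h3 | h3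
    · have h2 : m = n - 1 := by
        by_contra hne
        exact mis1 (fun h => by rw [K_oodd (by omega)] at h; omega)
          (fun h => by rw [K_oodd (by omega)] at h; omega)
      have h4 : n % 2 = 0 := by
        by_contra hne
        exact mis4 (fun h => by rw [K_oodd (by omega)] at h; omega)
          (fun h => by rw [K_oodd (by omega)] at h; omega)
      subst h2
      exact Or.inr (Or.inr (Or.inl ⟨h4, Or.inr rfl⟩))
    · obtain rfl : m = n := by omega
      exact Or.inr (Or.inl rfl)
  | psu m q =>
    exfalso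
    have hm : 3 ≤ m := H.cond.1
    have h1 : 2 * (m - (1 - m % 2)) ≤ _ := (hN _ (show 3 ≤ 2 * (m - (1 - m % 2)) by omega) htop).1
    rcases Nat.mod_two_eq_zero_or_one n with h | h
    · exact mis4 (fun h => by rw [K_psu (by omega)] at h; omega)
        (fun h => by rw [K_psu (by omega)] at h; omega)
    · exact mis5 (fun h => by rw [K_psu (by omega)] at h; omega)
        (fun h => by rw [K_psu (by omega)] at h; omega)
  | oplus m q =>
    obtain rfl : q = p := hq
    have hm : 4 ≤ m := H.cond.1
    have h1 : 2 * (m - 1) ≤ _ := (hN _ (show 3 ≤ 2 * (m - 1) by omega) htop).1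
    rcases Nat.lt_or_ge m n with h3 | h3
    · exact (mis1 (fun h => by rw [K_oplus (by omega) (by omega)] at h; omega)
        (fun h => by rw [K_oplus (by omega) (by omega)] at h; omega)).elim
    · rcases Nat.lt_or_ge m (n + 1) with h4 | h4
      · obtain rfl : m = n := by omega
        exact Or.inr (Or.inr (Or.inr (Or.inr (Or.inl rfl))))
      · obtain rfl : m = n + 1 := by omega
        have h5 : n % 2 = 1 := by
          by_contra hne
          have := (hN (n + 1) (by omega) ((K_oplus (by omega) (by omega)).2 (by omega))).2 (by omega)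
          omega
        exact Or.inr (Or.inr (Or.inr (Or.inl ⟨h5, rfl⟩)))
  | ominus m q =>
    obtain rfl : q = p := hq
    have hm : 4 ≤ m := H.cond.1
    have h1 : 2 * m ≤ _ := (hN _ (show 3 ≤ 2 * m by omega) htop).1
    rcases Nat.lt_or_ge m n with h3 | h3
    · exact (mis4 (fun h => by rw [K_ominus (by omega) (by omega)] at h; omega)
        (fun h => by rw [K_ominus (by omega) (by omega)] at h; omega)).elim
    · obtain rfl : m = n := by omega
      exact Or.inr (Or.inr (Or.inr (Or.inr (Or.inr (Or.inl rfl)))))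
  | g2 q => exact (mis1 (fun h => by have := K_g2 h; omega) (fun h => by have := K_g2 h; omega)).elim
  | f4 q =>
    rcases Nat.lt_or_ge n 7 with h2 | h2
    · exact (mis5 (fun h => by have := K_f4 h; omega) (fun h => by have := K_f4 h; omega)).elim
    · rcases Nat.lt_or_ge n 8 with h3 | h3
      · exact (mis3 (fun h => by have := K_f4 h; omega) (fun h => by have := K_f4 h; omega)).elim
      · exact (mis1 (fun h => by have := K_f4 h; omega) (fun h => by have := K_f4 h; omega)).elim
  | e6 q =>
    have h2 := (hN 9 (by norm_num) (Or.inr (Or.inr (Or.inr (Or.inr (Or.inl dvd_rfl)))))).2 (by norm_num)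
    exact (mis1 (fun h => by have := K_e6 h; omega) (fun h => by have := K_e6 h; omega)).elim
  | e7 q =>
    obtain rfl : q = p := hq
    have h2 := (hN 9 (by norm_num)
      (Or.inr (Or.inr (Or.inr (Or.inr (Or.inr (Or.inr (by decide : 9 ∣ 18)))))))).2 (by norm_num)
    have h3 : n = 9 := by
      by_contra hne
      rcases Nat.lt_or_ge n 11 with h3 | h3
      · exact mis3 (fun h => by have := K_e7 h; omega) (fun h => by have := K_e7 h; omega)
      · exact mis1 (fun h => by have := K_e7 h; omega) (fun h => by have := K_e7 h; omega)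
    exact Or.inr (Or.inr (Or.inr (Or.inr (Or.inr (Or.inr ⟨h3, rfl⟩)))))
  | e8 q =>
    have h1 : 30 ≤ _ := (hN 30 (by norm_num) htop).1
    rcases Nat.lt_or_ge n 16 with h2 | h2
    · exact (mis2 (fun h => by have := K_e8 h; omega) (fun h => by have := K_e8 h; omega)).elim
    · rcases Nat.lt_or_ge n 17 with h3 | h3
      · exact (mis3 (fun h => by have := K_e8 h; omega) (fun h => by have := K_e8 h; omega)).elim
      · exact (mis1 (fun h => by have := K_e8 h; omega) (fun h => by have := K_e8 h; omega)).elim
  | te6 q =>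
    have h1 : 18 ≤ _ := (hN 18 (by norm_num) htop).1
    rcases Nat.lt_or_ge n 10 with h2 | h2
    · exact (mis2 (fun h => by have := K_te6 h; omega) (fun h => by have := K_te6 h; omega)).elim
    · rcases Nat.lt_or_ge n 11 with h3 | h3
      · exact (mis3 (fun h => by have := K_te6 h; omega) (fun h => by have := K_te6 h; omega)).elim
      · exact (mis1 (fun h => by have := K_te6 h; omega) (fun h => by have := K_te6 h; omega)).elim
  | td4 q =>
    rcases Nat.lt_or_ge n 7 with h2 | h2
    · exact (mis5 (fun h => by have := K_td4 h; omega) (fun h => by have := K_td4 h; omega)).elim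
    · rcases Nat.lt_or_ge n 8 with h3 | h3
      · exact (mis3 (fun h => by have := K_td4 h; omega) (fun h => by have := K_td4 h; omega)).elim
      · exact (mis1 (fun h => by have := K_td4 h; omega) (fun h => by have := K_td4 h; omega)).elim
  | sz q => exact (mis1 (fun h => by have := K_sz h; omega) (fun h => by have := K_sz h; omega)).elim
  | ree q => exact (mis1 (fun h => by have := K_ree h; omega) (fun h => by have := K_ree h; omega)).elim
  | tf4 q =>
    rcases Nat.lt_or_ge n 7 with h2 | h2
    · exact (mis5 (fun h => by have := K_tf4 h; omega) (fun h => by have := K_tf4 h; omega)).elim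
    · rcases Nat.lt_or_ge n 8 with h3 | h3
      · exact (mis3 (fun h => by have := K_tf4 h; omega) (fun h => by have := K_tf4 h; omega)).elim
      · exact (mis1 (fun h => by have := K_tf4 h; omega) (fun h => by have := K_tf4 h; omega)).elim
  | _ => exact absurd rfl H.q_ne

/-- **The groups of Lie type in the characteristic of `B_n(p)`.** -/
theorem OddO.main (P : OddO p n c) (H : Dat p f c g) :
    SurvOdd p n g ∨ g = .psl n (p ^ 2) ∨ (n % 2 = 0 ∧ g = .psl (n - 1) (p ^ 2)) := by
  have h1 := P.f_le H
  have h2 := H.hf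
  have h3 : f = 1 ∨ f = 2 := by omega
  rcases h3 with rfl | rfl
  · exact Or.inl (P.one H)
  · exact Or.inr (P.two H)

end Cfsg.Agent.H425.Chr
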