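import Mathlib
import Cfsg.Agent.H363.Frat
import Cfsg.Agent.S4084

/-!
# The non-commuting graph (helper425)

`φ` a bijection between the non-central elements of `G` and of `M` preserving (non-)commutation.
-/

set_option autoImplicit false

namespace Cfsg.Agent.H425.Graph

open Subgroup Cfsg.Agent.H363.Frat

theorem card_eq_add {G : Type*} [Group G] [Finite G] (H : Subgroup G) (hH : center G ≤ H) :
    Nat.card H = Nat.card (center G) + Nat.card {y : {g : G // g ∉ center G} // y.1 ∈ H} := by
  have h1 : Nat.card H = Nat.card {h : H // (h : G) ∈ center G} + Nat.card {h : H // ¬ (h : G) ∈ center G} := by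
    classical
    rw [← Nat.card_sum]
    exact Nat.card_congr (Equiv.sumCompl (fun h : H => (h : G) ∈ center G)).symm
  rw [h1]
  congr 1
  · apply Nat.card_congr
    exact ⟨fun h => ⟨h.1.1, h.2⟩, fun c => ⟨⟨c.1, hH c.2⟩, c.2⟩, fun _ => rfl, fun _ => rfl⟩
  · apply Nat.card_congr
    exact ⟨fun h => ⟨⟨h.1.1, h.2⟩, h.1.2⟩, fun c => ⟨⟨c.1.1, c.2⟩, c.1.2⟩, fun _ => rfl, fun _ => rfl⟩

section main

variable {G M : Type*} [Group G] [Finite G] [Group M] [Finite M]
  (φ : {g : G // g ∉ center G} ≃ {m : M // m ∉ center M})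
  (hφ : ∀ x y : {g : G // g ∉ center G}, Commute x.1 y.1 ↔ Commute (φ x).1 (φ y).1)

include hφ

theorem card_centralizer (x : {g : G // g ∉ center G}) :
    Nat.card (centralizer ({x.1} : Set G)) + Nat.card (center M) =
      Nat.card (centralizer ({(φ x).1} : Set M)) + Nat.card (center G) := by
  rw [card_eq_add (centralizer ({x.1} : Set G)) (center_le_centralizer _),
    card_eq_add (centralizer ({(φ x).1} : Set M)) (center_le_centralizer _)]
  have h1 : Nat.card {y : {g : G // g ∉ center G} // y.1 ∈ centralizer ({x.1} : Set G)} =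
      Nat.card {y : {m : M // m ∉ center M} // y.1 ∈ centralizer ({(φ x).1} : Set M)} := by
    apply Nat.card_congr
    apply φ.subtypeEquiv
    intro y
    rw [mem_centralizer_singleton_iff, mem_centralizer_singleton_iff]
    exact hφ y x
  omega

theorem card_center_eq_one (hM : center M = ⊥) {m0 : M} (hm0 : m0 ≠ 1)
    (hP : ∀ u : ℕ, u.Prime → u ∣ Nat.card (centralizer ({m0} : Set M)) - 1 → u ∣ Nat.card M) :
    Nat.card (center G) = 1 := by
  have hdvd : ∀ m : M, m ≠ 1 → Nat.card (center G) ∣ Nat.card (centralizer ({m} : Set M)) - 1 := by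
    intro m hm
    have hm' : m ∉ center M := by
      rw [hM, mem_bot]
      exact hm
    have h1 := card_centralizer φ hφ (φ.symm ⟨m, hm'⟩)
    have hM1 : Nat.card (center M) = 1 := by rw [hM, card_bot]
    rw [φ.apply_symm_apply, hM1] at h1
    have h2 : Nat.card (center G) ∣ Nat.card (centralizer ({(φ.symm ⟨m, hm'⟩).1} : Set G)) :=
      card_dvd_of_le (center_le_centralizer _)
    have h3 : Nat.card (centralizer ({m} : Set M)) - 1 =
        Nat.card (centralizer ({(φ.symm ⟨m, hm'⟩).1} : Set G)) - Nat.card (center G) := by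
      have h4 : 0 < Nat.card (centralizer ({m} : Set M)) := Nat.card_pos
      simp only at h1
      omega
    rw [h3]
    exact Nat.dvd_sub h2 dvd_rfl
  by_contra hne
  obtain ⟨u, hu, huz⟩ := Nat.exists_prime_and_dvd hne
  have h1 := hP u hu (huz.trans (hdvd m0 hm0))
  have := Fact.mk hu
  obtain ⟨m, hm⟩ := exists_prime_orderOf_dvd_card' u h1
  have hm1 : m ≠ 1 := by
    rintro rfl
    rw [orderOf_one] at hm
    exact hu.one_lt.ne hm
  have h2 := huz.trans (hdvd m hm1)
  have h3 : u ∣ Nat.card (centralizer ({m} : Set M)) := by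
    rw [← hm, ← Nat.card_zpowers]
    apply card_dvd_of_le
    rw [zpowers_le, mem_centralizer_singleton_iff]
  have h4 := Nat.dvd_sub h3 h2
  have h5 : 0 < Nat.card (centralizer ({m} : Set M)) := Nat.card_pos
  rw [Nat.sub_sub_self h5] at h4
  exact hu.one_lt.ne' (Nat.dvd_one.mp h4)

theorem exists_equiv (hZ : Nat.card (center G) = Nat.card (center M)) :
    ∃ e : G ≃ M, ∀ x y : G, Commute x y ↔ Commute (e x) (e y) := by
  classical
  obtain ⟨e1⟩ : Nonempty (center G ≃ center M) := Finite.card_eq.mp hZ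
  let e1' : {g : G // g ∈ center G} ≃ {m : M // m ∈ center M} := e1
  let e : G ≃ M := (Equiv.sumCompl (fun g : G => g ∈ center G)).symm.trans
    ((Equiv.sumCongr e1' φ).trans (Equiv.sumCompl (fun m : M => m ∈ center M)))
  have he1 : ∀ g : G, g ∈ center G → e g ∈ center M := by
    intro g hg
    have h1 : e g = (e1' ⟨g, hg⟩ : M) := by
      simp [e, Equiv.sumCompl_symm_apply_of_pos hg]
    rw [h1]
    exact (e1' ⟨g, hg⟩).2
  have he2 : ∀ (g : G) (hg : g ∉ center G), e g = (φ ⟨g, hg⟩).1 := by
    intro g hg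
    simp [e, Equiv.sumCompl_symm_apply_of_neg hg]
  refine ⟨e, fun x y => ?_⟩
  by_cases hx : x ∈ center G
  · have h1 : Commute x y := ((mem_center_iff.mp hx y).symm : x * y = y * x)
    have h2 : Commute (e x) (e y) := ((mem_center_iff.mp (he1 x hx) (e y)).symm : _)
    exact ⟨fun _ => h2, fun _ => h1⟩
  · by_cases hy : y ∈ center G
    · have h1 : Commute x y := (mem_center_iff.mp hy x : x * y = y * x)
      have h2 : Commute (e x) (e y) := (mem_center_iff.mp (he1 y hy) (e x) : _)
      exact ⟨fun _ => h2, fun _ => h1⟩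
    · rw [he2 x hx, he2 y hy]
      exact hφ ⟨x, hx⟩ ⟨y, hy⟩

end main

theorem card_eq {G M : Type*} [Group G] [Finite G] [Group M] [Finite M] (e : G ≃ M) : Nat.card G = Nat.card M :=
  Nat.card_congr e

theorem nonAdj {G M : Type*} [Group G] [Finite G] [Group M] [Finite M] (e : G ≃ M)
    (he : ∀ x y : G, Commute x y ↔ Commute (e x) (e y)) {p q : ℕ} (hp : p.Prime) (hq : q.Prime) (hpq : p ≠ q)
    (h : NonAdj M p q) : NonAdj G p q := by
  intro g hg
  obtain ⟨m, hm⟩ := (Cfsg.Agent.S4084.result e he hp hq hpq).mp ⟨g, hg⟩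
  exact h m hm

end Cfsg.Agent.H425.Graph
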