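import Mathlib
import Cfsg.Prelude.Def_Classical
import Cfsg.Agent.H425.Torus
import Cfsg.Agent.S0287
import Cfsg.Agent.S0293
import Cfsg.Agent.S0790

/-!
# `Ω⁺_{2n}(q)` for `q ^ n ≡ 3` mod 4: centre and centralizer of the torus elements (helper425)
-/

set_option autoImplicit false

namespace Cfsg.Agent.H425.OmegaPlus

open Matrix Subgroup Cfsg.Agent.LieClassical.OmegaReindex

variable {F : Type*} [Field F] {n : ℕ}

theorem neg_one_mem : (-1 : GL (Fin n ⊕ Fin n) F) ∈ Cfsg.isometryGroup F (Cfsg.quadFormPlus n F) := by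
  rw [mem_isometryGroup]
  intro v
  rw [Units.val_neg, Units.val_one, Matrix.neg_mulVec, Matrix.one_mulVec]
  simp [Cfsg.quadFormPlus]

/-- The element `-1`. -/
def negOne (n : ℕ) (F : Type*) [Field F] : Cfsg.isometryGroup F (Cfsg.quadFormPlus n F) := ⟨-1, neg_one_mem⟩

theorem negOne_mul (x : Cfsg.isometryGroup F (Cfsg.quadFormPlus n F)) : negOne n F * x = x * negOne n F := by
  apply Subtype.ext
  simp [negOne]

theorem negOne_sq : negOne n F ^ 2 = 1 := by
  apply Subtype.ext
  simp [negOne]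

variable [Finite F]

theorem negOne_notMem (hn : 1 ≤ n) (h3 : Nat.card F ^ n % 4 = 3) :
    negOne n F ∉ Cfsg.Omega F (Cfsg.quadFormPlus n F) := by
  have : Fintype F := Fintype.ofFinite F
  have hodd : Odd (Nat.card F) := by
    by_contra h
    rw [Nat.not_odd_iff_even] at h
    obtain ⟨k, hk⟩ := (h.pow_of_ne_zero (n := n) (by omega) : Even (Nat.card F ^ n))
    omega
  intro hmem
  have h1 := (Cfsg.Agent.S0790.result (F := F) (q := Nat.card F) Nat.card_eq_fintype_card.symm hodd n hn).mp
    ⟨negOne n F, hmem, by simp [negOne]⟩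
  omega

theorem card_mul (hn : 4 ≤ n) (h3 : Nat.card F ^ n % 4 = 3) :
    (Cfsg.Omega F (Cfsg.quadFormPlus n F)).index * Nat.card (center (Cfsg.Omega F (Cfsg.quadFormPlus n F))) = 4 := by
  have : Fintype F := Fintype.ofFinite F
  have h1 := Cfsg.Agent.S0287.result (F := F) (q := Nat.card F) Nat.card_eq_fintype_card.symm n (by omega)
  have h2 := Cfsg.Agent.S0293.result (F := F) (q := Nat.card F) Nat.card_eq_fintype_card.symm n hn
  have hg : Nat.gcd 4 (Nat.card F ^ n - 1) = 2 := by
    have h4 : (Nat.card F ^ n - 1) % 4 = 2 := by omega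
    rw [Nat.gcd_rec, h4]
    norm_num
  rw [hg] at h2
  have h4 : Nat.card (Cfsg.isometryGroup F (Cfsg.quadFormPlus n F)) =
      4 * Nat.card (Cfsg.POmega F (Cfsg.quadFormPlus n F)) := by
    rw [h1, mul_assoc, mul_assoc, ← mul_assoc (Nat.card F ^ (n * (n - 1))), ← h2]
    ring
  have h5 := (Cfsg.Omega F (Cfsg.quadFormPlus n F)).index_mul_card
  have h6 : Nat.card (Cfsg.Omega F (Cfsg.quadFormPlus n F)) =
      Nat.card (Cfsg.POmega F (Cfsg.quadFormPlus n F)) * Nat.card (center (Cfsg.Omega F (Cfsg.quadFormPlus n F))) :=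
    Subgroup.card_eq_card_quotient_mul_card_subgroup _
  have h7 : 0 < Nat.card (Cfsg.POmega F (Cfsg.quadFormPlus n F)) := Nat.card_pos
  rw [h6, h4] at h5
  have h8 : Nat.card (Cfsg.POmega F (Cfsg.quadFormPlus n F)) *
      ((Cfsg.Omega F (Cfsg.quadFormPlus n F)).index * Nat.card (center (Cfsg.Omega F (Cfsg.quadFormPlus n F)))) =
      Nat.card (Cfsg.POmega F (Cfsg.quadFormPlus n F)) * 4 := by
    rw [mul_comm _ 4, ← h5]
    ring
  exact Nat.eq_of_mul_eq_mul_left h7 h8

section generic

variable {O : Type*} [Group O] (Om : Subgroup O) {nu : O} (hnu : nu ∈ center O)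
  (hnm : nu ∉ Om) {N : ℕ} (hN : N % 4 = 2) {g : Om} (hC : Nat.card (centralizer ({(g : O)} : Set O)) = N)

include hnu hnm hN hC

theorem two_mul_card [Om.Normal] (hidx : Om.index ∣ 4) : 2 * Nat.card (centralizer ({g} : Set Om)) = N := by
  have hD : Nat.card (centralizer ({g} : Set Om)) = Nat.card (Om.subgroupOf (centralizer ({(g : O)} : Set O))) := by
    apply Nat.card_congr
    refine ⟨fun x => ⟨⟨x.1.1, ?_⟩, ?_⟩, fun x => ⟨⟨x.1.1, ?_⟩, ?_⟩, fun x => rfl, fun x => rfl⟩
    · have hx := x.2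
      rw [mem_centralizer_singleton_iff] at hx
      rw [mem_centralizer_singleton_iff]
      exact congrArg Subtype.val hx
    · rw [mem_subgroupOf]
      exact x.1.2
    · have hx := x.2
      rw [mem_subgroupOf] at hx
      exact hx
    · have hx := x.1.2
      rw [mem_centralizer_singleton_iff] at hx
      rw [mem_centralizer_singleton_iff]
      exact Subtype.ext hx
  rw [hD]
  have h4 := Subgroup.card_mul_index (Om.subgroupOf (centralizer ({(g : O)} : Set O)))
  have h5 : (Om.subgroupOf (centralizer ({(g : O)} : Set O))).index ∣ 4 :=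
    (Subgroup.relIndex_dvd_index_of_normal Om _).trans hidx
  have h6 : (Om.subgroupOf (centralizer ({(g : O)} : Set O))).index ≠ 1 := by
    rw [Ne, Subgroup.index_eq_one]
    intro h
    have h7 : nu ∈ centralizer ({(g : O)} : Set O) := by
      rw [mem_centralizer_singleton_iff]
      exact (mem_center_iff.mp hnu _).symm
    have h8 : (⟨nu, h7⟩ : centralizer ({(g : O)} : Set O)) ∈ Om.subgroupOf (centralizer ({(g : O)} : Set O)) :=
      h ▸ mem_top _
    rw [mem_subgroupOf] at h8
    exact hnm h8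
  have h7 : (Om.subgroupOf (centralizer ({(g : O)} : Set O))).index ≤ 4 := Nat.le_of_dvd (by norm_num) h5
  rw [hC] at h4
  generalize (Om.subgroupOf (centralizer ({(g : O)} : Set O))).index = i at *
  generalize Nat.card (Om.subgroupOf (centralizer ({(g : O)} : Set O))) = c at *
  interval_cases i
  · omega
  · omega
  · omega
  · omega
  · omega

theorem center_eq_bot [Finite O] (hnu2 : nu ^ 2 = 1) [hcyc : IsCyclic (centralizer ({(g : O)} : Set O))]
    (hidx : Om.index * Nat.card (center Om) = 4) : center Om = ⊥ := by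
  rw [eq_bot_iff]
  intro z hz
  rw [mem_bot]
  have hzC : (z : O) ∈ centralizer ({(g : O)} : Set O) := by
    rw [mem_centralizer_singleton_iff]
    exact congrArg Subtype.val (mem_center_iff.mp hz g).symm
  have hnC : nu ∈ centralizer ({(g : O)} : Set O) := by
    rw [mem_centralizer_singleton_iff]
    exact (mem_center_iff.mp hnu _).symm
  have hz4 : (z : O) ^ 4 = 1 := by
    have h5 : (⟨z, hz⟩ : center Om) ^ 4 = 1 := by
      rw [← hidx, mul_comm, pow_mul, pow_card_eq_one', one_pow]
    exact congrArg (fun x : center Om => ((x : Om) : O)) h5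
  have hz2 : (z : O) ^ 2 = 1 := by
    have h5 : (z : O) ^ N = 1 := by
      have h6 : (⟨z, hzC⟩ : centralizer ({(g : O)} : Set O)) ^ (Nat.card (centralizer ({(g : O)} : Set O))) = 1 :=
        pow_card_eq_one'
      rw [hC] at h6
      exact congrArg Subtype.val h6
    have h6 : orderOf (z : O) ∣ Nat.gcd 4 N :=
      Nat.dvd_gcd (orderOf_dvd_of_pow_eq_one hz4) (orderOf_dvd_of_pow_eq_one h5)
    have hg : Nat.gcd 4 N = 2 := by
      rw [Nat.gcd_rec, hN]
      norm_num
    rw [hg] at h6
    exact orderOf_dvd_iff_pow_eq_one.mp h6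
  classical
  have := Fintype.ofFinite (centralizer ({(g : O)} : Set O))
  have hle := IsCyclic.card_pow_eq_one_le (α := centralizer ({(g : O)} : Set O)) (n := 2) (by norm_num)
  by_contra hz1
  have hnu1 : nu ≠ 1 := fun h => hnm (h ▸ one_mem _)
  have hznu : (z : O) ≠ nu := fun h => hnm (h ▸ z.2)
  have h3 : ({1, ⟨z, hzC⟩, ⟨nu, hnC⟩} : Finset (centralizer ({(g : O)} : Set O))) ⊆
      Finset.univ.filter (fun a => a ^ 2 = 1) := by
    intro a ha
    rw [Finset.mem_filter]
    refine ⟨Finset.mem_univ _, ?_⟩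
    simp only [Finset.mem_insert, Finset.mem_singleton] at ha
    rcases ha with rfl | rfl | rfl
    · exact one_pow _
    · exact Subtype.ext hz2
    · exact Subtype.ext hnu2
  have h4 := Finset.card_le_card h3
  rw [Finset.card_insert_of_notMem, Finset.card_insert_of_notMem, Finset.card_singleton] at h4
  · omega
  · rw [Finset.mem_singleton]
    intro h
    exact hznu (congrArg Subtype.val h)
  · rw [Finset.mem_insert, Finset.mem_singleton]
    rintro (h | h)
    · exact hz1 (Subtype.ext (congrArg Subtype.val h).symm)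
    · exact hnu1 (congrArg Subtype.val h).symm

end generic

section main

variable (hn : 4 ≤ n) (h3 : Nat.card F ^ n % 4 = 3) (hodd : Odd n) {r : ℕ} (hrp : r.Prime) (hr2 : r ≠ 2)
  (hr : ∀ a, r ∣ Nat.card F ^ a - 1 → n ∣ a) (hrn : r ∣ Nat.card F ^ n - 1)

include hn h3 hodd hrp hr2 hr hrn

theorem card_centralizer_omega {g : Cfsg.Omega F (Cfsg.quadFormPlus n F)} (hg : orderOf g = r) :
    2 * Nat.card (centralizer ({g} : Set (Cfsg.Omega F (Cfsg.quadFormPlus n F)))) = Nat.card F ^ n - 1 := by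
  have hg' : orderOf (g : Cfsg.isometryGroup F (Cfsg.quadFormPlus n F)) = r := by rw [← hg, Subgroup.orderOf_coe]
  obtain ⟨hcyc, hcard⟩ := Torus.centralizer_facts (by omega) hodd hrp hr2 hr hrn hg'
  exact two_mul_card (Cfsg.Omega F (Cfsg.quadFormPlus n F)) (mem_center_iff.mpr fun x => (negOne_mul x).symm)
    (negOne_notMem (by omega) h3) (by omega) hcard (Dvd.intro _ (card_mul hn h3))

omit h3 hodd hr in
theorem dvd_card : r ∣ Nat.card (Cfsg.POmega F (Cfsg.quadFormPlus n F)) := by
  have : Fintype F := Fintype.ofFinite F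
  have h2 := Cfsg.Agent.S0293.result (F := F) (q := Nat.card F) Nat.card_eq_fintype_card.symm n hn
  have h4 : r ∣ Nat.gcd 4 (Nat.card F ^ n - 1) * Nat.card (Cfsg.POmega F (Cfsg.quadFormPlus n F)) := by
    rw [h2]
    exact (hrn.mul_left _).mul_right _
  rcases hrp.dvd_mul.mp h4 with h5 | h5
  · have h6 : r ∣ 2 ^ 2 := h5.trans (Nat.gcd_dvd_left _ _)
    exact absurd ((Nat.prime_dvd_prime_iff_eq hrp Nat.prime_two).mp (hrp.dvd_of_dvd_pow h6)) hr2
  · exact h5

theorem center_omega : center (Cfsg.Omega F (Cfsg.quadFormPlus n F)) = ⊥ := by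
  have hfac : r ∣ Nat.card (Cfsg.Omega F (Cfsg.quadFormPlus n F)) :=
    (dvd_card hn hrp hr2 hrn).trans (Subgroup.card_quotient_dvd_card _)
  have := Fact.mk hrp
  obtain ⟨g, hg⟩ := exists_prime_orderOf_dvd_card' r hfac
  have hg' : orderOf (g : Cfsg.isometryGroup F (Cfsg.quadFormPlus n F)) = r := by rw [← hg, Subgroup.orderOf_coe]
  obtain ⟨hcyc, hcard⟩ := Torus.centralizer_facts (by omega) hodd hrp hr2 hr hrn hg'
  exact center_eq_bot (Cfsg.Omega F (Cfsg.quadFormPlus n F)) (mem_center_iff.mpr fun x => (negOne_mul x).symm)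
    (negOne_notMem (by omega) h3) (by omega) hcard negOne_sq (card_mul hn h3)

/-- `PΩ = Ω`. -/
theorem nonempty_equiv : Nonempty (Cfsg.POmega F (Cfsg.quadFormPlus n F) ≃* Cfsg.Omega F (Cfsg.quadFormPlus n F)) :=
  ⟨(QuotientGroup.quotientMulEquivOfEq (center_omega hn h3 hodd hrp hr2 hr hrn)).trans QuotientGroup.quotientBot⟩

theorem center_pomega : center (Cfsg.POmega F (Cfsg.quadFormPlus n F)) = ⊥ := by
  obtain ⟨e⟩ := nonempty_equiv hn h3 hodd hrp hr2 hr hrn
  rw [eq_bot_iff]
  intro z hz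
  have h4 : e z ∈ center (Cfsg.Omega F (Cfsg.quadFormPlus n F)) := by
    rw [mem_center_iff]
    intro x
    have h5 := mem_center_iff.mp hz (e.symm x)
    have h6 := congrArg e h5
    rwa [map_mul, map_mul, e.apply_symm_apply] at h6
  have h7 : e z = 1 := by
    have h8 := (center_omega hn h3 hodd hrp hr2 hr hrn).le h4
    exact mem_bot.mp h8
  rw [mem_bot]
  exact e.injective (by rw [h7, map_one])

theorem card_centralizer_pomega {g : Cfsg.POmega F (Cfsg.quadFormPlus n F)} (hg : orderOf g = r) :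
    2 * Nat.card (centralizer ({g} : Set (Cfsg.POmega F (Cfsg.quadFormPlus n F)))) = Nat.card F ^ n - 1 := by
  obtain ⟨e⟩ := nonempty_equiv hn h3 hodd hrp hr2 hr hrn
  have hg' : orderOf (e g) = r := by rw [← hg]; exact orderOf_injective e.toMonoidHom e.injective g
  rw [← card_centralizer_omega hn h3 hodd hrp hr2 hr hrn hg']
  congr 1
  apply Nat.card_congr
  refine ⟨fun x => ⟨e x.1, ?_⟩, fun x => ⟨e.symm x.1, ?_⟩, fun x => ?_, fun x => ?_⟩
  · have hx := x.2
    rw [mem_centralizer_singleton_iff] at hx ⊢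
    rw [← map_mul, hx, map_mul]
  · have hx := x.2
    rw [mem_centralizer_singleton_iff] at hx ⊢
    apply e.injective
    rw [map_mul, map_mul, e.apply_symm_apply, hx]
  · exact Subtype.ext (e.symm_apply_apply _)
  · exact Subtype.ext (e.apply_symm_apply _)

end main

end Cfsg.Agent.H425.OmegaPlus
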