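import Cfsg.Agent.H425.OrdM
import Cfsg.Agent.H425.Graph
import Cfsg.Agent.H425.OmegaPlus
import Cfsg.Agent.H425.NonAdjL
import Cfsg.Agent.UGT.U2.Rec.Congr

/-!
# `PΩ⁺_{2n}(3)`, `n` odd, is determined by its non-commuting graph (helper425)

The theorem with the classification and the table of the orders as hypotheses.
-/

set_option autoImplicit false

namespace Cfsg.Agent.H425.Core3674

open Cfsg Subgroup Cfsg.Agent.OrdDiv Cfsg.Agent.H436 Cfsg.Agent.H363.Frat

universe u v

theorem quadFormPlus_map {F F' : Type*} [Field F] [Field F'] (σ : F ≃+* F') (m : ℕ) (v : Fin m ⊕ Fin m → F) :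
    quadFormPlus m F' (σ ∘ v) = σ (quadFormPlus m F v) := by
  simp [quadFormPlus, map_sum, map_mul]

theorem nonempty_POmegaPlus {F F' : Type*} [Field F] [Field F'] [Fintype F] [Fintype F']
    (h : Fintype.card F = Fintype.card F') (m : ℕ) :
    Nonempty (POmega F (quadFormPlus m F) ≃* POmega F' (quadFormPlus m F')) :=
  UGT.U2.Rec.Congr.nonempty_POmega (FiniteField.ringEquivOfCardEq h) (quadFormPlus_map _ m)

section

variable {F : Type v} [Field F] [Fintype F] (hF : Fintype.card F = 3) {n : ℕ} (hn : 5 ≤ n) (hodd : Odd n)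

include hF hn hodd

theorem ord : OrdM.Ord n (Nat.card (POmega F (quadFormPlus n F))) := by
  refine ⟨hn, hodd, ?_⟩
  have h1 := S0293.result hF n (by omega)
  have h2 : (3 ^ n - 1) % 4 = 2 := by
    obtain ⟨k, hk⟩ := hodd
    have h1 : 3 ^ n % 4 = 3 := by
      rw [hk, pow_succ, pow_mul, Nat.mul_mod, Nat.pow_mod]
      norm_num
    have h2 : 1 ≤ 3 ^ n := Nat.one_le_pow _ _ (by norm_num)
    omega
  have h3 : Nat.gcd 4 (3 ^ n - 1) = 2 := by
    rw [Nat.gcd_rec, h2]
    norm_num
  rw [h3] at h1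
  rw [h1, H676.OrdNT.P]
  ring

theorem pow_mod : Nat.card F ^ n % 4 = 3 := by
  rw [Nat.card_eq_fintype_card, hF]
  have := (ord hF hn hodd).mod_four
  omega

theorem nonAdj_r {r : ℕ} (hr : Prim 3 n r) : NonAdj (POmega F (quadFormPlus n F)) 3 r := by
  intro g hg
  have hr1 : ∀ a, r ∣ Nat.card F ^ a - 1 → n ∣ a := by
    intro a ha
    rw [Nat.card_eq_fintype_card, hF] at ha
    exact (hr.dvd_iff a).1 ha
  have hr2 : r ∣ Nat.card F ^ n - 1 := by
    rw [Nat.card_eq_fintype_card, hF]
    exact hr.dvd dvd_rfl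
  have hodd' := hr.odd (by omega)
  have h1 : orderOf (g ^ 3) = r := by
    rw [orderOf_pow' _ (by norm_num), hg, Nat.gcd_mul_right_left, Nat.mul_div_cancel_left _ (by norm_num)]
  have h2 : orderOf (g ^ r) = 3 := by
    rw [orderOf_pow' _ hr.prime.ne_zero, hg, Nat.gcd_mul_left_left, Nat.mul_div_cancel _ hr.prime.pos]
  have h3 := OmegaPlus.card_centralizer_pomega (n := n) (by omega) (pow_mod hF hn hodd) hodd hr.prime
    (by omega) hr1 hr2 h1
  have h4 : orderOf (g ^ r) ∣ Nat.card (centralizer ({g ^ 3} : Set (POmega F (quadFormPlus n F)))) := by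
    rw [← Nat.card_zpowers]
    apply card_dvd_of_le
    rw [zpowers_le, mem_centralizer_singleton_iff]
    exact ((Commute.refl g).pow_pow r 3).eq
  rw [h2] at h4
  have h5 : 3 ∣ Nat.card F ^ n - 1 := h3 ▸ (h4.mul_left 2)
  rw [Nat.card_eq_fintype_card, hF] at h5
  have := PartP.not_dvd_sub (f := 1) Nat.prime_three one_ne_zero (i := n) (by omega)
  rw [pow_one] at this
  exact this h5

theorem nonAdj_l {r l : ℕ} (hr : Prim 3 n r) (hl : Prim 3 (2 * (n - 1)) l) :
    NonAdj (POmega F (quadFormPlus n F)) 3 l := by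
  have hr1 : ∀ a, r ∣ Nat.card F ^ a - 1 → n ∣ a := by
    intro a ha
    rw [Nat.card_eq_fintype_card, hF] at ha
    exact (hr.dvd_iff a).1 ha
  have hr2 : r ∣ Nat.card F ^ n - 1 := by
    rw [Nat.card_eq_fintype_card, hF]
    exact hr.dvd dvd_rfl
  have hodd' := hr.odd (by omega)
  obtain ⟨e⟩ := OmegaPlus.nonempty_equiv (F := F) (n := n) (by omega) (pow_mod hF hn hodd) hodd hr.prime
    (by omega) hr1 hr2
  have : Fact (Nat.Prime 3) := ⟨Nat.prime_three⟩
  have : CharP F 3 := by
    have h1 : Fintype.card F = 3 ^ 1 := by rw [hF, pow_one]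
    exact charP_of_card_eq_prime_pow h1
  have h1 : NonAdj (isometryGroup F (quadFormPlus n F)) 3 l := by
    refine NonAdjL.nonAdj (by norm_num) (by omega) hl.prime ?_ ?_
    · rintro rfl
      exact hl.not_dvd dvd_rfl
    · intro a ha
      rw [Nat.card_eq_fintype_card, hF] at ha
      exact (hl.dvd_iff a).1 ha
  exact (h1.subgroup (Omega F (quadFormPlus n F))).of_injective e.toMonoidHom e.injective

theorem main {G : Type u} [Group G] [Finite G] (T : OrderTable.{u})
    (hK : ∀ (S : Type u) [Group S] [Finite S] [IsSimpleGroup S], IsKnownSimple' S)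
    (φ : {g : G // g ∉ center G} ≃ {m : POmega F (quadFormPlus n F) // m ∉ center (POmega F (quadFormPlus n F))})
    (hφ : ∀ x y : {g : G // g ∉ center G}, Commute x.1 y.1 ↔ Commute (φ x).1 (φ y).1) :
    Nonempty (G ≃* POmega F (quadFormPlus n F)) := by
  have H := ord hF hn hodd
  obtain ⟨r, hr⟩ := exists_prim (q := 3) (e := n) (by norm_num) (by omega) (by omega)
  obtain ⟨l, hl⟩ := exists_prim (q := 3) (e := 2 * (n - 1)) (by norm_num) (by omega) (by omega)
  have hr1 : ∀ a, r ∣ Nat.card F ^ a - 1 → n ∣ a := by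
    intro a ha
    rw [Nat.card_eq_fintype_card, hF] at ha
    exact (hr.dvd_iff a).1 ha
  have hr2 : r ∣ Nat.card F ^ n - 1 := by
    rw [Nat.card_eq_fintype_card, hF]
    exact hr.dvd dvd_rfl
  have hrodd := hr.odd (by omega)
  have hcen : center (POmega F (quadFormPlus n F)) = ⊥ :=
    OmegaPlus.center_pomega (by omega) (pow_mod hF hn hodd) hodd hr.prime (by omega) hr1 hr2
  -- the centre of `G` is trivial
  have hZ : Nat.card (center G) = 1 := by
    have := Fact.mk hr.prime
    obtain ⟨m0, hm0⟩ := exists_prime_orderOf_dvd_card' r (H.dvd_r hr)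
    have hm1 : m0 ≠ 1 := by
      rintro rfl
      rw [orderOf_one] at hm0
      exact hr.prime.one_lt.ne hm0
    refine Graph.card_center_eq_one φ hφ hcen hm1 fun w hw hd => ?_
    have h3 := OmegaPlus.card_centralizer_pomega (n := n) (by omega) (pow_mod hF hn hodd) hodd hr.prime
      (by omega) hr1 hr2 hm0
    have hcF : Nat.card F = 3 := by rw [Nat.card_eq_fintype_card, hF]
    rw [hcF] at h3
    have h4 : w ∣ 3 * (3 ^ (n - 1) - 1) := by
      have h5 : 3 * (3 ^ (n - 1) - 1) =
          2 * (Nat.card (centralizer ({m0} : Set (POmega F (quadFormPlus n F)))) - 1) := by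
        rw [Nat.mul_sub, Nat.mul_sub, h3, ← pow_succ', Nat.sub_add_cancel (by omega)]
        omega
      rw [h5]
      exact hd.mul_left 2
    have hP : 3 ^ (n - 1) - 1 ∣ H676.OrdNT.P 3 (n - 1) := by
      obtain ⟨m, rfl⟩ : ∃ m, n = m + 2 := ⟨n - 2, by omega⟩
      rw [show m + 2 - 1 = m + 1 by omega, OrdM.P_succ]
      refine Dvd.dvd.mul_left ?_ _
      rw [mul_comm 2, pow_mul]
      have := Nat.sub_dvd_pow_sub_pow (3 ^ (m + 1)) 1 2
      rwa [one_pow] at this
    have h5 : w ∣ 2 * Nat.card (POmega F (quadFormPlus n F)) := by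
      rw [H.eq]
      rcases hw.dvd_mul.1 h4 with h6 | h6
      · exact (dvd_pow h6 (Nat.mul_ne_zero (by omega) (by omega))).mul_right _
      · exact ((h6.trans hP).mul_left _).mul_left _
    rcases hw.dvd_mul.1 h5 with h6 | h6
    · have h7 := (Nat.prime_dvd_prime_iff_eq hw Nat.prime_two).1 h6
      subst h7
      have h8 : 2 * 2 ∣ 2 * Nat.card (POmega F (quadFormPlus n F)) := by
        rw [H.eq]
        refine Dvd.dvd.mul_left ?_ _
        refine Nat.mul_dvd_mul ?_ ?_
        · have := H.mod_four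
          omega
        · refine Dvd.dvd.trans ?_ hP
          have h9 : Odd (3 ^ (n - 1)) := Odd.pow (by decide)
          exact (Nat.Odd.sub_odd h9 odd_one).two_dvd
      exact Nat.dvd_of_mul_dvd_mul_left (by norm_num) h8
    · exact h6
  obtain ⟨e, he⟩ := Graph.exists_equiv φ hφ (by rw [hZ, hcen, card_bot])
  have hcard : Nat.card G = Nat.card (POmega F (quadFormPlus n F)) := Nat.card_congr e
  have hr3 : (3 : ℕ) ≠ r := fun h => hr.not_dvd (h ▸ dvd_rfl)
  have hl3 : (3 : ℕ) ≠ l := fun h => hl.not_dvd (h ▸ dvd_rfl)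
  have hnr : NonAdj G 3 r := Graph.nonAdj e he Nat.prime_three hr.prime hr3 (nonAdj_r hF hn hodd hr)
  have hnl : NonAdj G 3 l := Graph.nonAdj e he Nat.prime_three hl.prime hl3 (nonAdj_l hF hn hodd hr hl)
  rw [← hcard] at H
  have hle : 3 ^ n ≤ 3 ^ (n * (n - 1)) :=
    Nat.pow_le_pow_right (by norm_num) (Nat.le_mul_of_pos_right n (by omega))
  have h3G : 3 ∣ Nat.card G := by
    by_contra h
    have h1 := Nat.factorization_eq_zero_of_not_dvd h
    rw [H.fac] at h1
    exact Nat.mul_ne_zero (by omega) (by omega) h1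
  obtain ⟨K, hKn, S, hSn, hSs, hna, -, -, -, hcardKS, -, hor, hk1, hk2, hk3, -⟩ :=
    CharChief.exists_simple (G := G) (p := 3) (e₁ := n) (e₂ := 2 * (n - 1)) Nat.prime_three hr.prime hl.prime hr3 hl3
      hnr hnl h3G (H.dvd_r hr) (H.dvd_l hl)
      (by
        rw [H.fac]
        have := H.r_le hr (Nat.ordProj_dvd _ r)
        have h1 : 1 ≤ 3 ^ n := Nat.one_le_pow _ _ (by norm_num)
        exact le_trans (by omega) hle)
      (by
        rw [H.fac]
        have h1 := H.l_le hl (Nat.ordProj_dvd _ l)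
        have h2 : 3 ^ (n - 1) + 1 ≤ 3 ^ n := by
          have h3 : 3 ^ n = 3 ^ (n - 1) * 3 := by rw [← pow_succ, Nat.sub_add_cancel (by omega)]
          have h4 : 1 ≤ 3 ^ (n - 1) := Nat.one_le_pow _ _ (by norm_num)
          omega
        exact le_trans (by omega) hle)
      (fun a ha => (hr.dvd_iff a).1 ha) (fun a ha => (hl.dvd_iff a).1 ha)
      (by
        rw [H.fac, OrdM.lcm_eq hn hodd]
        have : 0 < n * (n - 1) := Nat.mul_pos (by omega) (by omega)
        have h2 : n * (2 * (n - 1)) = 2 * (n * (n - 1)) := by ring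
        omega)
  have hSdvd : Nat.card S ∣ Nat.card G := by
    rw [← hcardKS]
    exact (Dvd.intro_left _ rfl).mul_left _
  have hyp := H.hyp hr hl hSdvd hor hk1 hk2 hk3
  obtain ⟨F', _, _, hF', ⟨e'⟩⟩ := OrdM.main T H (hK S) hna hSdvd hyp
  obtain ⟨e''⟩ := nonempty_POmegaPlus (F := F') (F' := F) (by rw [hF', hF]) n
  have hSG : Nat.card S = Nat.card G := by
    rw [hcard, Nat.card_congr (e'.trans e'').toEquiv]
  obtain ⟨g⟩ := CharChief.mulEquiv_of_card K S hSG
  exact ⟨g.trans (e'.trans e'')⟩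

end

end Cfsg.Agent.H425.Core3674
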