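import Cfsg.Agent.H425.EmbOdd
import Cfsg.Agent.H425.KFix
import Cfsg.Agent.H425.KPlus
import Cfsg.Agent.H425.NoCommute

/-!
# The radical `K` for `L = PΩ^±_{2n}(p)`: the prime `p` (helper425)

* `nadj_p` : `PΩ(Q)`, `dim V = 2 n`, has no element of order `p r`, `r` of class `2 (n - 1)`;
* `plus_p_part`, `minus_p_part` : `Red G K S`, `S ≅ L`, `K` nilpotent, given the existence of fixed vectors of `p'`-elements of
  `Ω_{2n-1}(p)` on its modules in characteristic `p` (hypothesis `U`): `p ∤ |K|`.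
-/

set_option autoImplicit false
set_option linter.unusedSectionVars false

namespace Cfsg.Agent.H425.PPart

open Cfsg Module QuadraticMap
open Cfsg.Agent.OrdDiv Cfsg.Agent.H436 Cfsg.Agent.H420.QR Cfsg.Agent.H425.Fin Cfsg.Agent.H425.KFix
open Cfsg.Agent.LieClassical.OmegaReindex

universe u v

section nadj

variable {F : Type*} [Field F] [Finite F] {ι : Type} [Fintype ι] [DecidableEq ι] {Q : QuadraticForm F (ι → F)}

theorem nadj_p {p : ℕ} [CharP F p] (hp : p.Prime) (hp2 : p ≠ 2) (hD : Cfsg.Agent.H390.Lift.Data Q) {n : ℕ}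
    (hn : 3 ≤ n) (hc : Fintype.card ι = 2 * n) {r : ℕ} (hr : Prim (Nat.card F) (2 * (n - 1)) r) :
    ¬ ∃ g : POmega F (⇑Q), orderOf g = p * r := by
  intro hg
  have := Fact.mk hp
  have hrp : r ≠ p := by
    rintro rfl
    apply hr.not_dvd
    have := Fintype.ofFinite F
    rw [Nat.card_eq_fintype_card]
    exact (CharP.cast_eq_zero_iff F r _).1 (FiniteField.cast_card_eq_zero F)
  have hro := hr.odd (by omega)
  obtain ⟨T, hTQ, hT⟩ := Cfsg.Agent.H390.exists_lin_of_order hD (m := p * r)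
    ((hp.odd_of_ne_two hp2).mul (Nat.odd_iff.2 (by omega))) hg
  have hTQn : ∀ (j : ℕ) (u : ι → F), Q ((T ^ j) u) = Q u := fun j => by
    induction j with
    | zero => intro u; rfl
    | succ j ih => intro u; rw [pow_succ', Module.End.mul_apply, hTQ, ih]
  have hcomm : Commute (T ^ p) (T ^ r) := (Commute.refl T).pow_pow p r
  have hy : (T ^ p) ^ r = 1 := by rw [← pow_mul, hT]
  have hu : (T ^ r) ^ p = 1 := by rw [← pow_mul, hT, mul_comm]
  have hy1 : T ^ p ≠ 1 := by
    rw [Ne, hT]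
    intro h
    have h1 := (Nat.mul_dvd_mul_iff_left hp.pos).1 (by rwa [mul_one] : p * r ∣ p * 1)
    exact hr.prime.one_lt.ne' (Nat.dvd_one.1 h1)
  have hfin : finrank F (ι → F) = 2 * (n - 1) + 2 := by
    rw [Module.finrank_fintype_fun_eq_card, hc]
    omega
  have hle := NoCommute.finrank_range_le (p := p) hr.prime hrp hcomm hy hy1 hu (fun a h => (hr.dvd_iff a).1 h) hfin
    (by omega)
  have h3 : T ^ r = 1 := NoCommute.eq_one_of_finrank_range_le_one hp2 Q (fun w hw => hD.nd.2 w hw) (hTQn r) hu hle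
  rw [hT] at h3
  have h1 := (Nat.mul_dvd_mul_iff_right hr.prime.pos).1 (by rwa [one_mul] : p * r ∣ 1 * r)
  exact hp.one_lt.ne' (Nat.dvd_one.1 h1)

end nadj

theorem charP_of' {F : Type*} [Field F] [Fintype F] {p : ℕ} (hp : p.Prime) (hF : Fintype.card F = p) : CharP F p := by
  obtain ⟨q, hq⟩ := CharP.exists F
  have hqp : Fact q.Prime := ⟨CharP.char_is_prime F q⟩
  have h3 : q ∣ Fintype.card F := (CharP.cast_eq_zero_iff F q _).1 (FiniteField.cast_card_eq_zero F)
  rw [hF] at h3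
  rw [(Nat.prime_dvd_prime_iff_eq hqp.out hp).1 h3] at hq
  exact hq

theorem two_ne' {F : Type*} [Field F] {p : ℕ} [CharP F p] (hp2 : p ≠ 2) (hp : p.Prime) : (2 : F) ≠ 0 := by
  intro h
  have h1 : ((2 : ℕ) : F) = 0 := by exact_mod_cast h
  rw [CharP.cast_eq_zero_iff F p] at h1
  exact hp2 ((Nat.prime_dvd_prime_iff_eq hp Nat.prime_two).1 h1)

variable {G : Type u} [Group G] [Finite G] {K : Subgroup G} [K.Normal] {S : Subgroup (G ⧸ K)} [S.Normal]
variable {F : Type v} [Field F] [Fintype F] {p : ℕ}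

/-- **The general step.** -/
theorem p_part {L : Type*} [Group L] (hL : Same L G) (e : S ≃* L) (hKn : Group.IsNilpotent K) (hp : p.Prime)
    (hp2 : p ≠ 2) (hF : Fintype.card F = p) {m : ℕ} (hm : 3 ≤ m) (φ : Omega F (quadFormOdd m F) →* L)
    (hφ : Function.Injective φ) (hN : ∀ r, Prim p (2 * m) r → ¬ ∃ g : L, orderOf g = p * r)
    (hU : ∀ x : Omega F (quadFormOdd m F), (orderOf x).Coprime p → FixAll.{u} p x) : ¬ p ∣ Nat.card K := by
  intro hpK
  obtain ⟨r, hr⟩ := exists_prim (q := p) (e := 2 * m) hp.two_le (by omega) (fun h => hp2 h.1)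
  have := Fact.mk hr.prime
  have hpr : p ≠ r := by rintro rfl; exact hr.not_dvd dvd_rfl
  have hd : r ∣ Nat.card (Omega F (quadFormOdd m F)) :=
    ((Chr.odd_dvd hp hp2 hF hm (by omega) hr).2 (by omega)).trans (Subgroup.card_quotient_dvd_card _)
  obtain ⟨x, hx⟩ := exists_prime_orderOf_dvd_card' r hd
  have hinj : Function.Injective (S.subtype.comp (e.symm.toMonoidHom.comp φ)) :=
    (Subgroup.subtype_injective S).comp (e.symm.injective.comp hφ)
  have h1 := exists_adj_of_nilpotent K hKn hp hr.prime hpr hpK (S.subtype.comp (e.symm.toMonoidHom.comp φ)) x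
    (by rw [orderOf_injective _ hinj, hx]) (hU x (by rw [hx]; exact (Nat.coprime_primes hr.prime hp).2 hpr.symm))
  exact hN r hr ((hL.2 p r hp hr.prime hpr).2 h1)

/-- **`L = PΩ⁺_{2n}(p)`.** -/
theorem plus_p_part {n : ℕ} (hn : 4 ≤ n) (hp : p.Prime) (hp2 : p ≠ 2) (hF : Fintype.card F = p)
    (hL : Same (POmega F (quadFormPlus n F)) G) (e : S ≃* POmega F (quadFormPlus n F)) (hKn : Group.IsNilpotent K)
    (hU : ∀ x : Omega F (quadFormOdd (n - 1) F), (orderOf x).Coprime p → FixAll.{u} p x) : ¬ p ∣ Nat.card K := by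
  have hch := charP_of' hp hF
  obtain ⟨m, rfl⟩ : ∃ m, n = m + 1 := ⟨n - 1, by omega⟩
  obtain ⟨φ, hφ⟩ := Emb.exists_emb_plus (F := F) (m := m) (two_ne' hp2 hp) (by omega)
  refine p_part hL e hKn hp hp2 hF (m := m) (by omega) φ hφ (fun r hr => ?_) hU
  have hcard : Fintype.card (Fin (m + 1) ⊕ Fin (m + 1)) = 2 * (m + 1) := by simp; ring
  have hD : Cfsg.Agent.H390.Lift.Data (quadPlus (m + 1) F) :=
    Cfsg.Agent.H390.data_of _ quadPlus_nondegenerate (by rw [hcard]; omega)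
    (quadPlus_isotropic (by omega)) (Or.inr (by rw [hcard]; omega))
  rw [← coe_quadPlus]
  exact nadj_p hp hp2 hD (n := m + 1) (by omega) hcard (by
    rw [Nat.card_eq_fintype_card, hF, Nat.add_sub_cancel]
    exact hr)

/-- **`L = PΩ⁻_{2n}(p)`.** -/
theorem minus_p_part {n : ℕ} (hn : 4 ≤ n) (hp : p.Prime) (hp2 : p ≠ 2) (hF : Fintype.card F = p) {a b : F}
    (hab : ∀ z₁ z₂ : F, z₁ ^ 2 + a * z₁ * z₂ + b * z₂ ^ 2 = 0 → z₁ = 0 ∧ z₂ = 0)
    (hL : Same (POmega F (quadFormMinus (n - 1) F a b)) G) (e : S ≃* POmega F (quadFormMinus (n - 1) F a b))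
    (hKn : Group.IsNilpotent K)
    (hU : ∀ x : Omega F (quadFormOdd (n - 1) F), (orderOf x).Coprime p → FixAll.{u} p x) : ¬ p ∣ Nat.card K := by
  have hch := charP_of' hp hF
  obtain ⟨m, rfl⟩ : ∃ m, n = m + 1 := ⟨n - 1, by omega⟩
  rw [Nat.add_sub_cancel] at hL e
  obtain ⟨φ, hφ⟩ := Emb.exists_emb_minus (F := F) (m := m) (two_ne' hp2 hp) (by omega) hab
  refine p_part hL e hKn hp hp2 hF (m := m) (by omega) φ hφ (fun r hr => ?_) hU
  have hcard : Fintype.card ((Fin m ⊕ Fin m) ⊕ Fin 2) = 2 * (m + 1) := by simp; ring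
  have hD : Cfsg.Agent.H390.Lift.Data (quadMinus m F a b) :=
    Cfsg.Agent.H390.data_of _ (quadMinus_nondegenerate hab) (by rw [hcard]; omega)
    (quadMinus_isotropic (by omega) a b) (Or.inr (by rw [hcard]; omega))
  rw [← coe_quadMinus]
  exact nadj_p hp hp2 hD (n := m + 1) (by omega) hcard (by
    rw [Nat.card_eq_fintype_card, hF, Nat.add_sub_cancel]
    exact hr)

end Cfsg.Agent.H425.PPart
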