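import Cfsg.Agent.H425.EndOdd

/-!
# The end in the same characteristic for `L = Ω_{2n+1}(p)`, `n ≥ 5` (helper425)

The same as `ChrOdd`, `odd_surv`, `odd_end` for `n ≥ 6`; `n = 5` is included: `odd_surv5`, `odd_end_name5`, `odd_end5`.
-/

set_option autoImplicit false

namespace Cfsg.Agent.H425.Chr

open Cfsg Cfsg.Agent.OrdDiv Cfsg.Agent.H436 Cfsg.Agent.H425.PartP Cfsg.Agent.H420.QR

section base

variable {p f c n : ℕ} {g : Grp}

/-- The hypotheses on the order `c` of a simple group, coming from the prime graph of `B_n(p)`. -/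
structure OddO5 (p n c : ℕ) : Prop where
  hn : 5 ≤ n
  ppd : ∀ e, 3 ≤ e → In p c e → e ≤ 2 * n ∧ (e % 2 = 1 → e ≤ n)
  miss : ∀ k l, k ≠ l → MOdd n k → MOdd n l → In p c k ∨ In p c l

theorem OddO5.f_le (P : OddO5 p n c) (H : Dat p f c g) : f ≤ 2 := by
  have hn := P.hn
  by_contra hf
  push Not at hf
  have hN : ∀ e, 3 ≤ e → In p c e → e ≤ 2 * n := fun e he h => (P.ppd e he h).1
  have key : ∀ e, n < e → In p c e → f ∣ e := fun e he h =>
      H.dvd_of_in (by omega) hN (by omega) h (by omega)
  have m1 : MOdd n (2 * n) := Or.inl ⟨by omega, by omega, by omega⟩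
  have m2 : MOdd n (2 * n - 2) := Or.inl ⟨by omega, by omega, by omega⟩
  have m3 : MOdd n (2 * n - 4) := Or.inl ⟨by omega, by omega, by omega⟩
  have k1 := key (2 * n) (by omega)
  have k2 := key (2 * n - 2) (by omega)
  have k3 := key (2 * n - 4) (by omega)
  have no2 : ∀ {a b : ℕ}, f ∣ a → f ∣ b → a = b + 2 → False := fun {a b} ha hb hab => by
    have h := (Nat.dvd_sub ha hb)
    rw [hab, Nat.add_sub_cancel_left] at h
    have := Nat.le_of_dvd (by norm_num) h
    omega
  have i12 := P.miss _ _ (by omega) m1 m2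
  have i23 := P.miss _ _ (by omega) m2 m3
  have i13 := P.miss _ _ (by omega) m1 m3
  by_cases c2 : In p c (2 * n - 2)
  · rcases i13 with c1 | c3
    · exact no2 (k1 c1) (k2 c2) (by omega)
    · exact no2 (k2 c2) (k3 c3) (by omega)
  · have c1 := i12.resolve_right c2
    have c3 := i23.resolve_left c2
    have h4 : f ∣ 4 := by
      have h := (Nat.dvd_sub (k1 c1) (k3 c3))
      rwa [show 2 * n - (2 * n - 4) = 4 by omega] at h
    have h5 : f = 4 := by
      have h6 := Nat.le_of_dvd (by norm_num) h4
      have h7 : f = 3 ∨ f = 4 := by omega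
      rcases h7 with rfl | rfl
      · norm_num at h4
      · rfl
    obtain ⟨o, ho, ho2⟩ : ∃ o, (o = n ∨ o = n - 1) ∧ o % 2 = 1 := by
      rcases Nat.mod_two_eq_zero_or_one n with h | h
      · exact ⟨n - 1, Or.inr rfl, by omega⟩
      · exact ⟨n, Or.inl rfl, h⟩
    have mo : MOdd n o := Or.inr ⟨ho2, by omega, by omega⟩
    have io := (P.miss _ _ (by omega) m2 mo).resolve_left c2
    subst h5
    have h6 := H.in_odd (by omega) ho2 (Or.inr rfl) io
    have h7 := hN _ (by omega) h6.2
    omega

theorem OddO5.two (P : OddO5 p n c) (H : Dat p 2 c g) :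
    g = .psl n (p ^ 2) ∨ (n % 2 = 0 ∧ g = .psl (n - 1) (p ^ 2)) := by
  have hn := P.hn
  have hN : ∀ e, 3 ≤ e → In p c e → e ≤ 2 * n := fun e he h => (P.ppd e he h).1
  have h1 := H.in_top le_rfl
  have htop := two_le_top H.cond H.q_ne
  have h2 := hN _ (by omega) h1
  obtain ⟨o, ho, ho2⟩ : ∃ o, (o = n ∨ o = n - 1) ∧ o % 2 = 1 := by
    rcases Nat.mod_two_eq_zero_or_one n with h | h
    · exact ⟨n - 1, Or.inr rfl, by omega⟩
    · exact ⟨n, Or.inl rfl, h⟩
  have mo : MOdd n o := Or.inr ⟨ho2, by omega, by omega⟩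
  have ko : In p c o → K g o := fun h => (H.in_odd (by omega) ho2 (Or.inl rfl) h).1
  have kev : ∀ k, 3 ≤ k → In p c (2 * k) → K g k := fun k hk h => by
    have h5 : (2 * k) / Nat.gcd (2 * k) 2 = k := by
      rw [Nat.gcd_eq_right (Nat.dvd_mul_right 2 k)]
      omega
    have h6 := (H.in_iff (by rw [h5]; omega)).1 h
    rwa [h5] at h6
  by_cases hpsl : isPSL g
  · cases g with
    | psl m q =>
      obtain rfl : q = p ^ 2 := H.hq
      change 2 * m ≤ _ at h2
      rcases Nat.lt_or_ge m n with h4 | h4
      · right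
        have h3 : m = n - 1 := by
          by_contra hne
          rcases P.miss (2 * n) (2 * (n - 1)) (by omega) (Or.inl ⟨by omega, by omega, by omega⟩)
              (Or.inl ⟨by omega, by omega, by omega⟩) with h | h
          · have h7 : n ≤ m := kev n (by omega) h
            omega
          · have h7 : n - 1 ≤ m := kev (n - 1) (by omega) h
            omega
        refine ⟨?_, by rw [h3]⟩
        by_contra hne
        have h8 : o = n := by omega
        rcases P.miss (2 * n) o (by omega) (Or.inl ⟨by omega, by omega, by omega⟩) mo with h | h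
        · have h7 : n ≤ m := kev n (by omega) h
          omega
        · have h7 : o ≤ m := ko h
          omega
      · left
        have h3 : m = n := by omega
        rw [h3]
    | _ => exact hpsl.elim
  · exfalso
    rcases P.miss (2 * o) o (by omega) (Or.inl ⟨by omega, by omega, by omega⟩) mo with h | h
    · have h7 := odd_le_top H.cond H.q_ne hpsl (by omega) ho2 (kev o (by omega) h)
      omega
    · have h7 := odd_le_top H.cond H.q_ne hpsl (by omega) ho2 (ko h)
      omega

theorem OddO5.one (P : OddO5 p n c) (H : Dat p 1 c g) : SurvOdd p n g := by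
  have hn := P.hn
  have hin : ∀ {e : ℕ}, 3 ≤ e → (In p c e ↔ K g e) := fun he => H.in_one he
  have hN : ∀ e, 3 ≤ e → K g e → e ≤ 2 * n ∧ (e % 2 = 1 → e ≤ n) := fun e he h =>
    P.ppd e he ((hin he).2 h)
  have hq := H.hq
  rw [pow_one] at hq
  have mis : ∀ k l, k ≠ l → MOdd n k → MOdd n l → ¬ K g k → ¬ K g l → False := fun k l hkl hk hl h1 h2 => by
    have hk3 : 3 ≤ k := by unfold MOdd at hk; omega
    have hl3 : 3 ≤ l := by unfold MOdd at hl; omega
    rcases P.miss k l hkl hk hl with h | h
    · exact h1 ((hin hk3).1 h)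
    · exact h2 ((hin hl3).1 h)
  obtain ⟨o, ho, ho2⟩ : ∃ o, (o = n ∨ o = n - 1) ∧ o % 2 = 1 := by
    rcases Nat.mod_two_eq_zero_or_one n with h | h
    · exact ⟨n - 1, Or.inr rfl, by omega⟩
    · exact ⟨n, Or.inl rfl, h⟩
  have mo : MOdd n o := Or.inr ⟨ho2, by omega, by omega⟩
  have m1 : MOdd n (2 * n) := Or.inl ⟨by omega, by omega, by omega⟩
  have m2 : MOdd n (2 * n - 2) := Or.inl ⟨by omega, by omega, by omega⟩
  have m3 : MOdd n (2 * n - 4) := Or.inl ⟨by omega, by omega, by omega⟩
  have mis1 := mis _ _ (by omega) m1 m2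
  have mis2 := mis _ _ (by omega) m2 m3
  have mis3 := mis _ _ (by omega) m1 m3
  have mis4 := mis _ _ (by omega) m1 mo
  have mis5 := mis _ _ (by omega) m2 mo
  have htop := K_top H.cond H.q_ne
  cases g with
  | psl m q =>
    have hm : 2 ≤ m := H.cond.1
    have h1 : m ≤ n + 1 := by
      by_contra hlt
      rcases Nat.mod_two_eq_zero_or_one n with h | h
      · have := (hN (n + 1) (by omega) (K_psl.2 (by omega))).2 (by omega)
        omega
      · have := (hN (n + 2) (by omega) (K_psl.2 (by omega))).2 (by omega)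
        omega
    exact (mis1 (fun h => by rw [K_psl] at h; omega) (fun h => by rw [K_psl] at h; omega)).elim
  | psp m q =>
    obtain rfl : q = p := hq
    have hm : 2 ≤ m := H.cond.1
    have h1 : 2 * m ≤ _ := (hN _ (show 3 ≤ 2 * m by omega) htop).1
    rcases Nat.lt_or_ge m n with h3 | h3
    · have h2 : m = n - 1 := by
        by_contra hne
        exact mis1 (fun h => by rw [K_psp (by omega)] at h; omega)
          (fun h => by rw [K_psp (by omega)] at h; omega)
      have h4 : n % 2 = 0 := by
        by_contra hne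
        exact mis4 (fun h => by rw [K_psp (by omega)] at h; omega)
          (fun h => by rw [K_psp (by omega)] at h; omega)
      subst h2
      exact Or.inr (Or.inr (Or.inl ⟨h4, Or.inl rfl⟩))
    · obtain rfl : m = n := by omega
      exact Or.inl rfl
  | oodd m q =>
    obtain rfl : q = p := hq
    have hm : 3 ≤ m := H.cond.1
    have h1 : 2 * m ≤ _ := (hN _ (show 3 ≤ 2 * m by omega) htop).1
    rcases Nat.lt_or_ge m n with h3 | h3
    · have h2 : m = n - 1 := by
        by_contra hne
        exact mis1 (fun h => by rw [K_oodd (by omega)] at h; omega)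
          (fun h => by rw [K_oodd (by omega)] at h; omega)
      have h4 : n % 2 = 0 := by
        by_contra hne
        exact mis4 (fun h => by rw [K_oodd (by omega)] at h; omega)
          (fun h => by rw [K_oodd (by omega)] at h; omega)
      subst h2
      exact Or.inr (Or.inr (Or.inl ⟨h4, Or.inr rfl⟩))
    · obtain rfl : m = n := by omega
      exact Or.inr (Or.inl rfl)
  | psu m q =>
    exfalso
    have hm : 3 ≤ m := H.cond.1
    have h1 : 2 * (m - (1 - m % 2)) ≤ _ := (hN _ (show 3 ≤ 2 * (m - (1 - m % 2)) by omega) htop).1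
    rcases Nat.mod_two_eq_zero_or_one n with h | h
    · exact mis4 (fun h => by rw [K_psu (by omega)] at h; omega)
        (fun h => by rw [K_psu (by omega)] at h; omega)
    · exact mis5 (fun h => by rw [K_psu (by omega)] at h; omega)
        (fun h => by rw [K_psu (by omega)] at h; omega)
  | oplus m q =>
    obtain rfl : q = p := hq
    have hm : 4 ≤ m := H.cond.1
    have h1 : 2 * (m - 1) ≤ _ := (hN _ (show 3 ≤ 2 * (m - 1) by omega) htop).1
    rcases Nat.lt_or_ge m n with h3 | h3
    · exact (mis1 (fun h => by rw [K_oplus (by omega) (by omega)] at h; omega)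
        (fun h => by rw [K_oplus (by omega) (by omega)] at h; omega)).elim
    · rcases Nat.lt_or_ge m (n + 1) with h4 | h4
      · obtain rfl : m = n := by omega
        exact Or.inr (Or.inr (Or.inr (Or.inr (Or.inl rfl))))
      · obtain rfl : m = n + 1 := by omega
        have h5 : n % 2 = 1 := by
          by_contra hne
          have := (hN (n + 1) (by omega) ((K_oplus (by omega) (by omega)).2 (by omega))).2 (by omega)
          omega
        exact Or.inr (Or.inr (Or.inr (Or.inl ⟨h5, rfl⟩)))
  | ominus m q =>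
    obtain rfl : q = p := hq
    have hm : 4 ≤ m := H.cond.1
    have h1 : 2 * m ≤ _ := (hN _ (show 3 ≤ 2 * m by omega) htop).1
    rcases Nat.lt_or_ge m n with h3 | h3
    · exact (mis4 (fun h => by rw [K_ominus (by omega) (by omega)] at h; omega)
        (fun h => by rw [K_ominus (by omega) (by omega)] at h; omega)).elim
    · obtain rfl : m = n := by omega
      exact Or.inr (Or.inr (Or.inr (Or.inr (Or.inr (Or.inl rfl)))))
  | g2 q => exact (mis1 (fun h => by have := K_g2 h; omega) (fun h => by have := K_g2 h; omega)).elim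
  | f4 q =>
    have h12 : 12 ≤ _ := (hN 12 (by norm_num) htop).1
    rcases Nat.lt_or_ge n 7 with h2 | h2
    · exact (mis5 (fun h => by have := K_f4 h; omega) (fun h => by have := K_f4 h; omega)).elim
    · rcases Nat.lt_or_ge n 8 with h3 | h3
      · exact (mis3 (fun h => by have := K_f4 h; omega) (fun h => by have := K_f4 h; omega)).elim
      · exact (mis1 (fun h => by have := K_f4 h; omega) (fun h => by have := K_f4 h; omega)).elim
  | e6 q =>
    have h2 := (hN 9 (by norm_num) (Or.inr (Or.inr (Or.inr (Or.inr (Or.inl dvd_rfl)))))).2 (by norm_num)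
    exact (mis1 (fun h => by have := K_e6 h; omega) (fun h => by have := K_e6 h; omega)).elim
  | e7 q =>
    obtain rfl : q = p := hq
    have h2 := (hN 9 (by norm_num)
      (Or.inr (Or.inr (Or.inr (Or.inr (Or.inr (Or.inr (by decide : 9 ∣ 18)))))))).2 (by norm_num)
    have h3 : n = 9 := by
      by_contra hne
      rcases Nat.lt_or_ge n 11 with h3 | h3
      · exact mis3 (fun h => by have := K_e7 h; omega) (fun h => by have := K_e7 h; omega)
      · exact mis1 (fun h => by have := K_e7 h; omega) (fun h => by have := K_e7 h; omega)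
    exact Or.inr (Or.inr (Or.inr (Or.inr (Or.inr (Or.inr ⟨h3, rfl⟩)))))
  | e8 q =>
    have h1 : 30 ≤ _ := (hN 30 (by norm_num) htop).1
    rcases Nat.lt_or_ge n 16 with h2 | h2
    · exact (mis2 (fun h => by have := K_e8 h; omega) (fun h => by have := K_e8 h; omega)).elim
    · rcases Nat.lt_or_ge n 17 with h3 | h3
      · exact (mis3 (fun h => by have := K_e8 h; omega) (fun h => by have := K_e8 h; omega)).elim
      · exact (mis1 (fun h => by have := K_e8 h; omega) (fun h => by have := K_e8 h; omega)).elim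
  | te6 q =>
    have h1 : 18 ≤ _ := (hN 18 (by norm_num) htop).1
    rcases Nat.lt_or_ge n 10 with h2 | h2
    · exact (mis2 (fun h => by have := K_te6 h; omega) (fun h => by have := K_te6 h; omega)).elim
    · rcases Nat.lt_or_ge n 11 with h3 | h3
      · exact (mis3 (fun h => by have := K_te6 h; omega) (fun h => by have := K_te6 h; omega)).elim
      · exact (mis1 (fun h => by have := K_te6 h; omega) (fun h => by have := K_te6 h; omega)).elim
  | td4 q =>
    rcases Nat.lt_or_ge n 7 with h2 | h2
    · exact (mis5 (fun h => by have := K_td4 h; omega) (fun h => by have := K_td4 h; omega)).elim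
    · rcases Nat.lt_or_ge n 8 with h3 | h3
      · exact (mis3 (fun h => by have := K_td4 h; omega) (fun h => by have := K_td4 h; omega)).elim
      · exact (mis1 (fun h => by have := K_td4 h; omega) (fun h => by have := K_td4 h; omega)).elim
  | sz q => exact (mis1 (fun h => by have := K_sz h; omega) (fun h => by have := K_sz h; omega)).elim
  | ree q => exact (mis1 (fun h => by have := K_ree h; omega) (fun h => by have := K_ree h; omega)).elim
  | tf4 q =>
    rcases Nat.lt_or_ge n 7 with h2 | h2
    · exact (mis5 (fun h => by have := K_tf4 h; omega) (fun h => by have := K_tf4 h; omega)).elim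
    · rcases Nat.lt_or_ge n 8 with h3 | h3
      · exact (mis3 (fun h => by have := K_tf4 h; omega) (fun h => by have := K_tf4 h; omega)).elim
      · exact (mis1 (fun h => by have := K_tf4 h; omega) (fun h => by have := K_tf4 h; omega)).elim
  | _ => exact absurd rfl H.q_ne

/-- **The groups of Lie type in the characteristic of `B_n(p)`.** -/
theorem OddO5.main (P : OddO5 p n c) (H : Dat p f c g) :
    SurvOdd p n g ∨ g = .psl n (p ^ 2) ∨ (n % 2 = 0 ∧ g = .psl (n - 1) (p ^ 2)) := by
  have h1 := P.f_le H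
  have h2 := H.hf
  have h3 : f = 1 ∨ f = 2 := by omega
  rcases h3 with rfl | rfl
  · exact Or.inl (P.one H)
  · exact Or.inr (P.two H)

end base

universe u v

/-- **The conditions for `B_n(p)`.** -/
theorem odd_of_sHyp5 {F : Type*} [Field F] [Fintype F] {p : ℕ} (hp : p.Prime) (hp2 : p ≠ 2) (hF : Fintype.card F = p) {n : ℕ} (hn : 5 ≤ n) {S : Type u} [Group S]
    (h : SHyp (POmega F (quadFormOdd n F)) S) : OddO5 p n (Nat.card S) := by
  refine ⟨hn, ?_, ?_⟩
  · rintro e he ⟨w, hw, hd⟩
    have h1 := (odd_dvd hp hp2 hF (by omega) he hw).1 (h.pi w hw.prime hd)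
    omega
  · intro k l hkl hk hl
    obtain ⟨m, hm, hmk, hml⟩ : ∃ m, MOdd n m ∧ m ≠ k ∧ m ≠ l := by
      have m1 : MOdd n (2 * n) := Or.inl ⟨by omega, by omega, by omega⟩
      have m2 : MOdd n (2 * n - 2) := Or.inl ⟨by omega, by omega, by omega⟩
      have m3 : MOdd n (2 * n - 4) := Or.inl ⟨by omega, by omega, by omega⟩
      by_cases h1 : 2 * n ≠ k ∧ 2 * n ≠ l
      · exact ⟨_, m1, h1⟩
      · by_cases h2 : 2 * n - 2 ≠ k ∧ 2 * n - 2 ≠ l
        · exact ⟨_, m2, h2⟩
        · exact ⟨_, m3, by omega, by omega⟩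
    have dv : ∀ k, MOdd n k → 3 ≤ k ∧ ∀ w, Prim p k w → w ∣ Nat.card (POmega F (quadFormOdd n F)) := fun k hk => by
      have h3 : 3 ≤ k := by unfold MOdd at hk; omega
      refine ⟨h3, fun w hw => (odd_dvd hp hp2 hF (by omega) h3 hw).2 ?_⟩
      unfold MOdd at hk
      omega
    have nd : ∀ k l, MOdd n k → MOdd n l → k ≠ l → ∀ v w, Prim p k v → Prim p l w →
        ¬ ∃ x : POmega F (quadFormOdd n F), orderOf x = v * w := fun k l hk hl hkl => by
      have hk3 := (dv k hk).1
      have hl3 := (dv l hl).1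
      have ek : n < 2 * eta k := by
        unfold MOdd at hk
        rcases hk with hk | hk
        · rw [eta_even hk.1]; omega
        · rw [eta_odd hk.1]; omega
      have el : n < 2 * eta l := by
        unfold MOdd at hl
        rcases hl with hl | hl
        · rw [eta_even hl.1]; omega
        · rw [eta_odd hl.1]; omega
      refine odd_cls hp hp2 hF (by omega) hk3 hl3 hkl (by omega)
        (not_oddM hkl (by omega) (by omega) fun hpar => ?_)
      unfold MOdd at hk hl
      omega
    exact miss_of hp hp2 h (dv k hk).1 (dv l hl).1 (dv m hm).1 hkl hmk.symm hml.symm (dv k hk).2 (dv l hl).2 (dv m hm).2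
      (nd k l hk hl hkl) (nd k m hk hm hmk.symm) (nd l m hl hm hml.symm)

theorem odd_surv5 {p f : ℕ} {F : Type*} [Field F] [Fintype F] (hp : p.Prime) (hp2 : p ≠ 2) (hF : Fintype.card F = p) {n : ℕ}
    (hn : 5 ≤ n) {S : Type u} [Group S] [Finite S] (h : SHyp (POmega F (quadFormOdd n F)) S) {g : Grp}
    (hg : IsNamed g S) (hf : f ≠ 0) (hq : qOf g = p ^ f) : SurvOdd p n g := by
  have P := odd_of_sHyp5 hp hp2 hF hn h
  have H := dat_of_named hg hp hp2 hf hq
  have hex : ∀ e, 3 ≤ e → ∃ w, Prim p e w := fun e he => exists_prim hp.two_le he (fun h => hp2 h.1)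
  obtain ⟨o, ho, ho2⟩ : ∃ o, (o = n - 1 ∨ o = n - 2) ∧ o % 2 = 1 := by
    rcases Nat.mod_two_eq_zero_or_one n with h | h
    · exact ⟨n - 1, Or.inl rfl, by omega⟩
    · exact ⟨n - 2, Or.inr rfl, by omega⟩
  obtain ⟨v, hv⟩ := hex o (by omega)
  obtain ⟨w, hw⟩ := hex (2 * o) (by omega)
  have hvw : v ≠ w := by
    rintro rfl
    have := hv.unique hw
    omega
  have key : ∀ m, o ≤ m → ¬ IsNamed (.psl m (p ^ 2)) S := fun m hm hg => by
    have hx := psl_sq_adj hp hg (by omega) ho2 hm hv hw
    refine odd_cls hp hp2 hF (n := n) (by omega) (k := o) (l := 2 * o) (by omega) (by omega) (by omega) ?_ ?_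
      v w hv hw (h.adj v w hv.prime hw.prime hvw hx)
    · rw [eta_odd ho2, eta_even (by omega)]
      omega
    · exact not_oddM (by omega) (by omega) (by omega) fun h => by omega
  rcases P.main H with h1 | h1 | ⟨-, h1⟩
  · exact h1
  · subst h1
    exact absurd hg (key _ (by omega))
  · subst h1
    exact absurd hg (key _ (by omega))

end Cfsg.Agent.H425.Chr

namespace Cfsg.Agent.H425.Fin

open Cfsg Subgroup
open Cfsg.Agent.OrdDiv Cfsg.Agent.H436 Cfsg.Agent.H420.QR Cfsg.Agent.H425.KStep Cfsg.Agent.H425.Chr Cfsg.Agent.H425.Siegel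

universe u v

variable {G : Type u} [Group G] [Finite G] {K : Subgroup G} [K.Normal] {S : Subgroup (G ⧸ K)} [S.Normal]
variable {F : Type*} [Field F] [Fintype F] {p : ℕ}

/-- **`L = Ω_{2n+1}(p)`, `n ≥ 5`, `S` of characteristic `p`.** -/
theorem odd_end_name5 (hp : p.Prime) (hp2 : p ≠ 2) (hF : Fintype.card F = p) {n : ℕ} (hn : 5 ≤ n) (R : Red G K S)
    (hL : Same (POmega F (quadFormOdd n F)) G) {g : Grp} (hg : IsNamed g S) {f : ℕ} (hf : f ≠ 0)
    (hq : qOf g = p ^ f) : g = .psp n p ∨ g = .oodd n p := by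
  have hsH := R.sHyp hL
  have h2 : ∀ {m t : ℕ}, 3 ≤ m → Prim p m t → t.Prime ∧ t ≠ 2 := fun {m t} hm ht =>
    ⟨ht.prime, by have := ht.odd (by omega); omega⟩
  have hZ := red_center R
  rcases odd_surv5 hp hp2 hF hn hsH hg hf hq with rfl | rfl | ⟨hpar, rfl | rfl⟩ | ⟨hpar, rfl⟩ | rfl | rfl | ⟨h3, rfl⟩
  · exact Or.inl rfl
  · exact Or.inr rfl
  · exfalso
    refine odd_miss hp hp2 hF (by omega) R hL hg rfl (k := n - 1) (l := 2 * (n - 1)) (m := 2 * n) ?_
      (fun r hr => mov_named_psp hg hp hp2 (by omega) (by omega) hr)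
      (fun t ht => out_psp hZ hg hp hp2 (h2 (by omega) ht).1 (h2 (by omega) ht).2) ?_
    · constructor <;> (try unfold Far IsEta) <;> (try intro x y hx hy) <;> omega
    · intro h
      have := (K_psp (by omega)).1 h
      omega
  · exfalso
    refine odd_miss hp hp2 hF (by omega) R hL hg rfl (k := n - 1) (l := 2 * (n - 1)) (m := 2 * n) ?_
      (fun r hr => mov_named_odd hg hp hp2 (by omega) (by omega) (by omega) hr)
      (fun t ht => out_odd hg hp hp2 (h2 (by omega) ht).1 (h2 (by omega) ht).2) ?_
    · constructor <;> (try unfold Far IsEta) <;> (try intro x y hx hy) <;> omega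
    · intro h
      have := (K_oodd (by omega)).1 h
      omega
  · exfalso
    have h1 := named_plus_ac hg hp (a := (n - 1) / 2) (b := (n + 3) / 2) (by omega) (by omega) (by omega)
    rw [show 2 * ((n - 1) / 2) = n - 1 by omega, show 2 * ((n + 3) / 2) = n + 3 by omega] at h1
    have h4 : NC (POmega F (quadFormOdd n F)) p (n - 1) (n + 3) := odd_N hp hp2 hF (by omega) (by
      unfold Far IsEta
      intro x y hx hy
      omega)
    obtain ⟨v, hv⟩ := exists_prim (q := p) (e := n - 1) hp.two_le (by omega) (fun h => hp2 h.1)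
    obtain ⟨w, hw⟩ := exists_prim (q := p) (e := n + 3) hp.two_le (by omega) (fun h => hp2 h.1)
    have hvw : v ≠ w := by
      rintro rfl
      have := hv.unique hw
      omega
    exact h4 v w hv hw (hsH.adj v w hv.prime hw.prime hvw (h1 v w hv hw))
  · exfalso
    obtain ⟨o, ho, ho2⟩ : ∃ o, (o = n ∨ o = n - 1) ∧ o % 2 = 1 := by
      rcases Nat.mod_two_eq_zero_or_one n with h | h
      · exact ⟨n - 1, Or.inr rfl, by omega⟩
      · exact ⟨n, Or.inl rfl, by omega⟩
    refine odd_miss hp hp2 hF (by omega) R hL hg rfl (k := o) (l := 2 * (n - 1)) (m := 2 * n) ?_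
      (fun r hr => mov_named_plus hg hp hp2 (by omega) (by omega) (by omega) hr)
      (fun t ht => out_plus hg hp hp2 (by omega) (h2 (by omega) ht).1 (h2 (by omega) ht).2) ?_
    · constructor <;> (try unfold Far IsEta) <;> (try intro x y hx hy) <;> omega
    · intro h
      have := (K_oplus (by omega) (by omega)).1 h
      omega
  · exfalso
    have hg' : IsNamed (.ominus (n - 1 + 1) p) S := by rwa [show n - 1 + 1 = n by omega]
    rcases Nat.mod_two_eq_zero_or_one n with hpar | hpar
    · have hA : AC (POmega F (quadFormOdd n F)) p (n - 2) (n + 2) := by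
        refine odd_ac hp hp2 hF (by omega) (by omega) (by omega) (by omega) ?_
        rw [eta_even (by omega), eta_even (by omega)]
        omega
      have hN : NC S p (n - 2) (n + 2) := by
        have h1 := named_minus_bd hg hp hp2 (a := (n - 2) / 2) (b := (n + 2) / 2) (by omega) (by omega) (by omega) (by
          intro t ht
          have h4 : t ≠ 0 := by rintro rfl; omega
          have h5 : t ≠ 1 := by rintro rfl; omega
          have h6 : t < 3 := by
            by_contra h6
            have : (n - 2) / 2 * 3 ≤ (n - 2) / 2 * t := Nat.mul_le_mul_left _ (by omega)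
            omega
          omega)
        rwa [show 2 * ((n - 2) / 2) = n - 2 by omega, show 2 * ((n + 2) / 2) = n + 2 by omega] at h1
      rcases adj_cases R hL hp hp2 (by omega) (by omega) (by omega) hA hN
        (fun t ht => out_minus hg hp hp2 (h2 (by omega) ht).1 (h2 (by omega) ht).2)
        (fun t ht => out_minus hg hp hp2 (h2 (by omega) ht).1 (h2 (by omega) ht).2) with ⟨t, ht, htK⟩ | ⟨t, ht, htK⟩
      · refine odd_K hp hp2 hF (by omega) R hL (k := n - 1) (l := 2 * (n - 1)) (m := n - 2) ?_
          (fun r hr => mov_named_minus hg' hp hp2 (by omega) (by omega) (by omega) hr) ht htK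
        constructor <;> (try unfold Far IsEta) <;> (try intro x y hx hy) <;> omega
      · refine odd_K hp hp2 hF (by omega) R hL (k := n - 1) (l := 2 * (n - 1)) (m := n + 2) ?_
          (fun r hr => mov_named_minus hg' hp hp2 (by omega) (by omega) (by omega) hr) ht htK
        constructor <;> (try unfold Far IsEta) <;> (try intro x y hx hy) <;> omega
    · refine odd_miss hp hp2 hF (by omega) R hL hg rfl (k := n - 2) (l := 2 * n) (m := n) ?_
        (fun r hr => mov_named_minus hg' hp hp2 (by omega) (by omega) (by omega) hr)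
        (fun t ht => out_minus hg hp hp2 (h2 (by omega) ht).1 (h2 (by omega) ht).2) ?_
      · constructor <;> (try unfold Far IsEta) <;> (try intro x y hx hy) <;> omega
      · intro h
        have := (K_ominus (by omega) (by omega)).1 h
        omega
  · exfalso
    subst h3
    refine kill_e7 R hL hp hp2 hg (odd_D hp hp2 hF (by omega) (by omega) (by omega)) (odd_N hp hp2 hF (by omega) ?_)
    unfold Far IsEta
    intro x y hx hy
    omega

/-- **`L = Ω_{2n+1}(p)`, `n ≥ 5`, `S` of characteristic `p`.** -/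
theorem odd_end5 (hp : p.Prime) (hp2 : p ≠ 2) (hF : Fintype.card F = p) {n : ℕ} (hn : 5 ≤ n) (R : Red G K S)
    (hL : Same (POmega F (quadFormOdd n F)) G) {g : Grp} (hg : IsNamed g S) {f : ℕ} (hf : f ≠ 0)
    (hq : qOf g = p ^ f) : Nonempty (S ≃* POmega F (quadFormOdd n F)) ∨ Nonempty (S ≃* PSp n F) := by
  rcases odd_end_name5 hp hp2 hF hn R hL hg hf hq with rfl | rfl
  · right
    obtain ⟨F', _, _, hF', ⟨e⟩⟩ := hg.real
    obtain ⟨σ⟩ : Nonempty (F' ≃+* F) := ⟨FiniteField.ringEquivOfCardEq (hF'.trans hF.symm)⟩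
    exact ⟨e.trans (LieClassical.FieldTransfer.pspCongr n σ)⟩
  · left
    obtain ⟨F', _, _, hF', ⟨e⟩⟩ := hg.real
    obtain ⟨σ⟩ : Nonempty (F' ≃+* F) := ⟨FiniteField.ringEquivOfCardEq (hF'.trans hF.symm)⟩
    obtain ⟨e'⟩ := UGT.U2.Rec.Congr.nonempty_POmega σ (UGT.U2.Rec.Congr.quadFormOdd_map σ n)
    exact ⟨e.trans e'⟩

end Cfsg.Agent.H425.Fin
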