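import Cfsg.Agent.H175.OmegaAdjust
import Cfsg.Agent.AutOrth.Main

/-!
# Classes of `Ω(Q)` fixed by all automorphisms (helper425)

* `aut_class` : `X ∈ Ω(Q)` fixes two vectors whose norms are in different square classes and commutes with similarities
  of all multipliers: for every automorphism `α` of `PΩ(Q)` induced by a similarity the element `α(x)` is conjugate to
  `x` in `PΩ(Q)`.
-/

set_option autoImplicit false

namespace Cfsg.Agent.H425.OutC

open Cfsg Matrix QuadraticMap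
open Cfsg.Agent.ClassicalGeometry.Reflection Cfsg.Agent.ClassicalGeometry.SpinorSign
  Cfsg.Agent.ClassicalGeometry.OmegaIndex Cfsg.Agent.H175.OmegaAdjust

universe u

variable {F : Type u} [Field F] {ι : Type} [Fintype ι] [DecidableEq ι]

/-- the action -/
def act {Q : (ι → F) → F} (g : isometryGroup F Q) (v : ι → F) : ι → F :=
  ((g : GL ι F) : Matrix ι ι F) *ᵥ v

theorem act_mul {Q : (ι → F) → F} (g h : isometryGroup F Q) (v : ι → F) : act (g * h) v = act g (act h v) := by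
  change (((g : GL ι F) : Matrix ι ι F) * ((h : GL ι F) : Matrix ι ι F)) *ᵥ v = _
  rw [← Matrix.mulVec_mulVec]
  rfl

/-- **The class of `x` is fixed by all automorphisms.** -/
theorem aut_class [Finite F] (h2 : (2 : F) ≠ 0) (hσ : ∀ (σ : F ≃+* F) (c : F), σ c = c)
    (Q : QuadraticForm F (ι → F)) (hQ : (polarBilin Q).Nondegenerate) (hn : 2 ≤ Fintype.card ι)
    {X : isometryGroup F ⇑Q} (hX : X ∈ Omega F ⇑Q) {a b : ι → F} (ha : Q a ≠ 0) (hb : Q b ≠ 0)
    (hab : ¬ IsSquare (Q a * Q b)) (hXa : act X a = a) (hXb : act X b = b)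
    (hE : ∀ μ : F, μ ≠ 0 → ∃ E : (ι → F) ≃ₗ[F] (ι → F), (∀ v, μ * Q (E v) = Q v) ∧ ∀ v, E (act X v) = act X (E v))
    (α : MulAut (POmega F ⇑Q)) (hα : Cfsg.Agent.AutOrth.Main.Ind ⇑Q α) :
    ∃ w : POmega F ⇑Q, α (QuotientGroup.mk ⟨X, hX⟩) = w * QuotientGroup.mk ⟨X, hX⟩ * w⁻¹ := by
  obtain ⟨σ, μ, T, ⟨hμ, hTs, hTQ⟩, hind⟩ := hα
  obtain ⟨E, hEQ, hEX⟩ := hE μ hμ
  let T' : (ι → F) ≃ₗ[F] (ι → F) := E.trans
    { T with
      map_smul' := fun c v => by
        change T (c • v) = c • T v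
        rw [hTs, hσ] }
  have hT' : ∀ v, T' v = T (E v) := fun v => rfl
  have hT'Q : ∀ v, Q (T' v) = Q v := fun v => by
    rw [hT', hTQ, hσ, hEQ]
  have hTT : ∀ v, T v = T' (E.symm v) := fun v => by rw [hT', LinearEquiv.apply_symm_apply]
  have hES : ∀ v, E.symm (act X v) = act X (E.symm v) := fun v => by
    apply E.injective
    rw [LinearEquiv.apply_symm_apply, hEX, LinearEquiv.apply_symm_apply]
  let g : isometryGroup F ⇑Q := toIso Q T' hT'Q
  have hg : ∀ v, act g v = T' v := fun v => toIso_mulVec Q T' hT'Q v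
  let K : Subgroup (isometryGroup F ⇑Q) := Subgroup.centralizer {X}
  have hrK : ∀ (v : ι → F) (hv : Q v ≠ 0), act X v = v → reflIso Q v hv ∈ K := by
    intro v hv hXv
    rw [Subgroup.mem_centralizer_singleton_iff]
    have h1 : ((X : GL ι F) : Matrix ι ι F) *ᵥ v = v := hXv
    have h3 : Q (((X : GL ι F) : Matrix ι ι F) *ᵥ v) ≠ 0 := by rwa [h1]
    have h4 := conj_reflIso Q v hv X h3
    have h5 : reflIso Q (((X : GL ι F) : Matrix ι ι F) *ᵥ v) h3 = reflIso Q v hv := by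
      congr 1
    rw [h5, mul_inv_eq_iff_eq_mul] at h4
    exact h4.symm
  obtain ⟨s, hs, hgs⟩ := adjust_odd_refl Q h2 hQ hn K a b ha hb hab (hrK a ha hXa) (hrK b hb hXb) g
  have hs' : s * X = X * s := Subgroup.mem_centralizer_singleton_iff.1 hs
  let w : Omega F ⇑Q := ⟨g * s, hgs⟩
  refine ⟨QuotientGroup.mk w, ?_⟩
  rw [hind ⟨X, hX⟩ (w * ⟨X, hX⟩ * w⁻¹)]
  · rfl
  · intro v
    change act (g * s * X * (g * s)⁻¹) (T v) = T (act X v)
    rw [hTT, hTT, hES, ← hg, ← hg, ← act_mul, ← act_mul]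
    congr 1
    calc g * s * X * (g * s)⁻¹ * g = g * (s * X * s⁻¹) := by group
      _ = g * X := by rw [hs', mul_inv_cancel_right]

end Cfsg.Agent.H425.OutC
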