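import Cfsg.Agent.H168.TwoFive

/-!
# 2 and the primitive prime divisors of `3 ^ (n - 1) - 1`, `n` even, are not adjacent in `PΩ⁺(2n,3)` (helper425)
-/

set_option autoImplicit false
set_option linter.unusedSectionVars false

namespace Cfsg.Agent.H425.TwoThree

open Module QuadraticMap
open Cfsg.Agent.LieClassical.OrthCore Cfsg.Agent.H955 Cfsg.Agent.H168.TwoFive
open Cfsg.Agent.H160.QSpin Cfsg.Agent.H141.SpinFacts

universe u v

variable {F : Type u} [Field F] [Finite F] {V : Type v} [AddCommGroup V] [Module F V] [FiniteDimensional F V]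
  {Q : QuadraticForm F V}

/-- an isometry of determinant and spinor norm 1 acting as 1 on the complement of `⟨a, b⟩`, `Q a Q b` a nonsquare -/
theorem core3 [Finite V] (h2 : (2 : F) ≠ 0) {U : Submodule F V} {a b : V} (hQa : Q a ≠ 0) (hQb : Q b ≠ 0)
    (hns : ¬ IsSquare (Q a * Q b))
    (hUa : ∀ u ∈ U, polar Q a u = 0) (hUb : ∀ u ∈ U, polar Q b u = 0) (hab : polar Q a b = 0)
    (hspan : ∀ v, ∃ u ∈ U, ∃ x y : F, v = u + (x • a + y • b))
    {Z : V ≃ₗ[F] V} (hZO : Z ∈ O Q) (hdet : LinearEquiv.det Z = 1) (hspin : spin Q ⟨Z, hZO⟩ = 1)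
    (hZU : ∀ u ∈ U, Z u = u) (hZa : Z a = a ∨ Z a = -a) (hZb : Z b = b ∨ Z b = -b) : ∀ v, Z v = v := by
  have hself : ∀ c, polar Q c c = 2 * Q c := fun c => by rw [polar_self, two_nsmul, two_mul]
  have hra : ∀ u ∈ U, ∀ x y : F, refl Q a hQa (u + (x • a + y • b)) = u + ((-x) • a + y • b) := by
    intro u hu x y
    rw [refl_apply, polar_add_right, polar_add_right, hUa u hu, polar_smul_right, polar_smul_right, hself, hab]
    have : (Q a)⁻¹ * (0 + (x • (2 * Q a) + y • (0 : F))) = 2 * x := by
      rw [smul_zero, add_zero, zero_add, smul_eq_mul]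
      field_simp
    rw [this, neg_smul, mul_smul, two_smul]
    abel
  have hrb : ∀ u ∈ U, ∀ x y : F, refl Q b hQb (u + (x • a + y • b)) = u + (x • a + (-y) • b) := by
    intro u hu x y
    rw [refl_apply, polar_add_right, polar_add_right, hUb u hu, polar_smul_right, polar_smul_right, hself,
      polar_comm Q b a, hab]
    have : (Q b)⁻¹ * (0 + (x • (0 : F) + y • (2 * Q b))) = 2 * y := by
      rw [smul_zero, zero_add, zero_add, smul_eq_mul]
      field_simp
    rw [this, neg_smul, mul_smul, two_smul]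
    abel
  have hZv : ∀ u ∈ U, ∀ x y : F, Z (u + (x • a + y • b)) = u + (x • Z a + y • Z b) := by
    intro u hu x y
    rw [map_add, map_add, map_smul, map_smul, hZU u hu]
  rcases hZa with h | h <;> rcases hZb with h' | h' <;> rw [h, h'] at hZv
  · intro v
    obtain ⟨u, hu, x, y, rfl⟩ := hspan v
    exact hZv u hu x y
  · exfalso
    have h3 : Z = refl Q b hQb := by
      apply LinearEquiv.ext
      intro v
      obtain ⟨u, hu, x, y, rfl⟩ := hspan v
      rw [hZv u hu, hrb u hu, smul_neg, neg_smul]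
    rw [h3] at hdet
    exact det_eq_neg_one_of_refl hQb hdet h2
  · exfalso
    have h3 : Z = refl Q a hQa := by
      apply LinearEquiv.ext
      intro v
      obtain ⟨u, hu, x, y, rfl⟩ := hspan v
      rw [hZv u hu, hra u hu, smul_neg, neg_smul]
    rw [h3] at hdet
    exact det_eq_neg_one_of_refl hQa hdet h2
  · exfalso
    have h3 : (⟨Z, hZO⟩ : O Q) = ⟨refl Q a hQa, refl_mem_O hQa⟩ * ⟨refl Q b hQb, refl_mem_O hQb⟩ := by
      apply Subtype.ext
      apply LinearEquiv.ext
      intro v
      obtain ⟨u, hu, x, y, rfl⟩ := hspan v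
      change Z _ = refl Q a hQa (refl Q b hQb _)
      rw [hZv u hu, hrb u hu, hra u hu, smul_neg, smul_neg, neg_smul, neg_smul]
    rw [h3, map_mul, spin_refl' h2 hQa, spin_refl' h2 hQb, neg_mul_neg, ← chi_mul hQa hQb, chi_eq_one_iff] at hspin
    exact hns hspin

/-- **The centralizer of an isometry of order `r`, `e(r,3) = n - 1` odd.** -/
theorem no_two3 (hF : Nat.card F = 3) (h2 : (2 : F) ≠ 0) (hm1 : ¬ IsSquare (-1 : F)) (hQ : Nondeg Q) {n : ℕ}
    (hn : 4 ≤ n) (hev : n % 2 = 0)
    (hd : finrank F V = 2 * n) (hP : IsPlus Q) {r : ℕ} [hr : Fact r.Prime] (hr2 : 2 < r) (hrF : ¬ r ∣ Nat.card F)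
    (he : orderOf (Nat.card F : ZMod r) = n - 1) {T : V ≃ₗ[F] V} (hT : T ∈ O Q) (hT2 : ∀ x, T (T x) = -x)
    {X Z : V ≃ₗ[F] V} (hX : X ∈ O Q) (hZ : Z ∈ ⁅O Q, O Q⁆) (hXr : X ^ r = 1) (hX1 : X ≠ 1)
    (hc : ∀ v, X (Z v) = Z (X v)) (hZ2 : (∀ x, Z (Z x) = x) ∨ ∀ x, Z (Z x) = -x) :
    (∀ x, Z x = x) ∨ ∀ x, Z x = -x := by
  have hfin : Finite V := Module.finite_of_finite F
  have hZO : Z ∈ O Q := comm_le hZ
  have hrF' := natCast_ne_zero_of_not_dvd (F := F) hrF
  obtain ⟨hnd, t, ht, htP⟩ := blocks_of_comS hQ hX hr2 hrF hXr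
  have hodd : Odd (n - 1) := Nat.odd_iff.2 (by omega)
  have hcc : cc (Nat.card F) r = 2 * (n - 1) := by
    rw [cc, he, if_neg (Nat.not_even_iff_odd.2 hodd)]
  have ht1 : t = 1 := by
    have h1 : finrank F (comS X) ≤ finrank F V := Submodule.finrank_le _
    have h3 : comS X ≠ ⊥ := by
      intro h
      apply hX1
      apply LinearEquiv.ext
      intro v
      have h4 := sub_mem_comS X v
      rw [h, Submodule.mem_bot, sub_eq_zero] at h4
      exact h4
    have h4 : 0 < finrank F (comS X) := by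
      rw [Nat.pos_iff_ne_zero]
      intro h
      exact h3 (Submodule.finrank_eq_zero.1 h)
    rw [ht, hcc] at h1 h4
    rw [hd] at h1
    have ht0 : t ≠ 0 := by rintro rfl; simp at h4
    have : t ≤ 1 := by
      by_contra hlt
      push Not at hlt
      have h5 : 2 * (n - 1) * 2 ≤ 2 * (n - 1) * t := Nat.mul_le_mul_left _ hlt
      omega
    omega
  rw [ht1, mul_one] at ht
  have hnP : IsPlus (res Q (comS X)) := by
    rw [htP, he]
    exact Or.inl hodd
  -- the fixed space
  have hperp : perp Q (comS X) = fixS X := perp_comS hQ hX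
  have hW2 : finrank F (fixS X) = 2 := by
    have := finrank_fixS_add_comS X
    rw [ht, hcc, hd] at this
    omega
  have hWnd : Nondeg (res Q (fixS X)) := by rw [← hperp]; exact nondeg_perp hQ hnd
  have hWP : IsPlus (res Q (fixS X)) := by
    rw [← hperp]
    exact ((isPlus_iff_perp hQ hnd (by rw [hd]; exact even_two_mul _)
      (by rw [ht, hcc]; exact even_two_mul _)).1 hP).1 hnP
  have hZW : ∀ w ∈ fixS X, Z w ∈ fixS X := fun w hw => by
    rw [mem_fixS] at hw ⊢
    rw [hc, hw]
  have hZU : Inv Z (comS X) := by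
    intro w hw
    obtain ⟨y, rfl⟩ := mem_comS.1 hw
    rw [map_sub, ← hc]
    exact mem_comS.2 ⟨Z y, rfl⟩
  -- `Z² = -1` is impossible
  have hZ2' : ∀ x, Z (Z x) = x := by
    rcases hZ2 with h | h
    · exact h
    exfalso
    exact Cfsg.Agent.H420.QR.no_sq_neg_one (Q := res Q (fixS X)) hF h2 hWnd (n := 1) odd_one (by rw [hW2]) hWP
      (Z := resT Z (fixS X) hZW) (resT_mem_O hZO _) (fun v => Subtype.ext (h v))
  -- `Z` on the commutator space
  have hU : (∀ x ∈ comS X, Z x = x) ∨ ∀ x ∈ comS X, Z x = -x := by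
    rcases eq_or_neg h2 hnd hr2 hrF (by rw [ht]) (X := resT X (comS X) (inv_comS X)) (Z := resT Z (comS X) hZU)
      (resT_mem_O hX _) (resT_mem_O hZO _) (resT_pow_eq_one hXr)
      (fun v hv => Subtype.ext (free_comS hrF' hXr v v.2 (congrArg Subtype.val hv)))
      (fun v => Subtype.ext (hc v)) (fun v => Subtype.ext (hZ2' v)) with h | h
    · left; intro x hx; exact congrArg Subtype.val (h ⟨x, hx⟩)
    · right; intro x hx; exact congrArg Subtype.val (h ⟨x, hx⟩)
  have hcompl : IsCompl (fixS X) (comS X) := isCompl_fixS_comS hrF' hXr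
  -- a hyperbolic pair of the fixed space
  obtain ⟨e, f, heW, hfW, he0, hf0, hef, hspanW⟩ : ∃ e f : V, e ∈ fixS X ∧ f ∈ fixS X ∧ Q e = 0 ∧ Q f = 0 ∧
      polar Q e f = 1 ∧ ∀ w ∈ fixS X, ∃ x y : F, w = x • e + y • f := by
    obtain ⟨L, hL0, hL⟩ := hWP
    have hL1 : finrank F L = 1 := by omega
    obtain ⟨⟨e, heL⟩, he1, -⟩ := finrank_eq_one_iff'.1 hL1
    have he1' : (e : V) ≠ 0 := fun h => he1 (Subtype.ext (Subtype.ext h))
    have hQe : Q (e : V) = 0 := hL0 e heL
    obtain ⟨g, hg⟩ : ∃ g : fixS X, polar Q (e : V) g ≠ 0 := by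
      by_contra hcon
      push Not at hcon
      exact he1' (congrArg Subtype.val (hWnd e fun y => hcon y))
    -- rescale and correct
    obtain ⟨g', hg'W, hcg⟩ : ∃ g' ∈ fixS X, polar Q (e : V) g' = 1 := by
      refine ⟨(polar Q (e : V) g)⁻¹ • (g : V), (fixS X).smul_mem _ g.2, ?_⟩
      rw [polar_smul_right, smul_eq_mul, inv_mul_cancel₀ hg]
    have hQf : Q (g' - Q g' • (e : V)) = 0 := by
      rw [sub_eq_add_neg, Q_add, QuadraticMap.map_neg, QuadraticMap.map_smul, hQe, polar_neg_right, polar_smul_right,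
        polar_comm Q g' e, hcg]
      simp
    have hpf : polar Q (e : V) (g' - Q g' • (e : V)) = 1 := by
      rw [polar_sub_right, hcg, polar_smul_right, polar_self, hQe]
      simp
    have hfW : g' - Q g' • (e : V) ∈ fixS X := (fixS X).sub_mem hg'W ((fixS X).smul_mem _ e.2)
    refine ⟨e, g' - Q g' • (e : V), e.2, hfW, hQe, hQf, hpf, ?_⟩
    set f := g' - Q g' • (e : V) with hfdef
    have hspan : fixS X = Submodule.span F {(e : V), f} := by
      symm
      apply Submodule.eq_of_le_of_finrank_eq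
      · rw [Submodule.span_le]
        rintro z (rfl | hz)
        · exact e.2
        · rw [Set.mem_singleton_iff.1 hz]; exact hfW
      · rw [hW2]
        have hli : LinearIndependent F ![(e : V), f] := by
          rw [LinearIndependent.pair_iff]
          intro x y hxy
          have h3 : polar Q (x • (e : V) + y • f) e = 0 := by rw [hxy, polar_zero_left]
          have h4 : polar Q (x • (e : V) + y • f) f = 0 := by rw [hxy, polar_zero_left]
          rw [polar_add_left, polar_smul_left, polar_smul_left, polar_comm Q f e, hpf, polar_self, hQe] at h3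
          rw [polar_add_left, polar_smul_left, polar_smul_left, hpf, polar_self, hQf] at h4
          exact ⟨by simpa using h4, by simpa using h3⟩
        have h3 : finrank F (Submodule.span F (Set.range ![(e : V), f])) = 2 := by
          simpa using finrank_span_eq_card hli
        have h4 : Set.range ![(e : V), f] = {(e : V), f} := by
          ext z
          rw [Set.mem_range, Fin.exists_fin_two]
          change ((e : V) = z ∨ f = z) ↔ (z = e ∨ z = f)
          rw [eq_comm, @eq_comm _ f z]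
        rwa [h4] at h3
    intro w hw
    rw [hspan, Submodule.mem_span_pair] at hw
    obtain ⟨x, y, h⟩ := hw
    exact ⟨x, y, h.symm⟩
  -- scalars
  have hsq : ∀ x : F, x ≠ 0 → x * x = 1 := by
    intro x hx
    have := Fintype.ofFinite F
    have h3 := FiniteField.pow_card_sub_one_eq_one x hx
    rw [← Nat.card_eq_fintype_card, hF] at h3
    rw [← pow_two]
    exact h3
  have hpm : ∀ x : F, x ≠ 0 → x = 1 ∨ x = -1 := fun x hx => by
    have h3 := hsq x hx
    have h4 : (x - 1) * (x + 1) = 0 := by linear_combination h3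
    rcases mul_eq_zero.1 h4 with h | h
    · left; linear_combination h
    · right; linear_combination h
  have he00 : e ≠ 0 := by
    rintro rfl
    rw [polar_zero_left] at hef
    exact zero_ne_one hef
  -- the action of `Z` on the pair
  have hpair : ∃ c : F, (c = 1 ∨ c = -1) ∧ ((Z e = c • e ∧ Z f = c • f) ∨ (Z e = c • f ∧ Z f = c • e)) := by
    obtain ⟨x, y, hxy⟩ := hspanW _ (hZW e heW)
    obtain ⟨x', y', hxy'⟩ := hspanW _ (hZW f hfW)
    have hQ2 : ∀ x y : F, Q (x • e + y • f) = x * y := fun x y => by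
      rw [Q_add, QuadraticMap.map_smul, QuadraticMap.map_smul, he0, hf0, polar_smul_left, polar_smul_right, hef]
      simp
    have h3 : x * y = 0 := by rw [← hQ2, ← hxy, mem_O.1 hZO, he0]
    have h3' : x' * y' = 0 := by rw [← hQ2, ← hxy', mem_O.1 hZO, hf0]
    have hpol : polar Q (x • e + y • f) (x' • e + y' • f) = x * y' + y * x' := by
      rw [polar_add_left, polar_add_right, polar_add_right, polar_smul_left, polar_smul_left, polar_smul_left,
        polar_smul_left, polar_smul_right, polar_smul_right, polar_smul_right, polar_smul_right, polar_self, polar_self,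
        he0, hf0, hef, polar_comm Q f e, hef]
      simp
    have h4 : x * y' + y * x' = 1 := by
      rw [← hpol, ← hxy, ← hxy']
      exact (polar_map hZO _ _).trans hef
    rcases mul_eq_zero.1 h3 with hx | hy
    · -- `Z e = y f`
      rw [hx, zero_mul, zero_add] at h4
      have hx0 : x' ≠ 0 := by rintro rfl; rw [mul_zero] at h4; exact zero_ne_one h4
      have hy0 : y ≠ 0 := by rintro rfl; rw [zero_mul] at h4; exact zero_ne_one h4
      have hy' : y' = 0 := (mul_eq_zero.1 h3').resolve_left hx0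
      rw [hx, zero_smul, zero_add] at hxy
      rw [hy', zero_smul, add_zero] at hxy'
      have hxy2 : x' = y := by
        have := hsq y hy0
        have h5 : y * (x' - y) = 0 := by linear_combination h4 - this
        have h6 := (mul_eq_zero.1 h5).resolve_left hy0
        linear_combination h6
      exact ⟨y, hpm y hy0, Or.inr ⟨hxy, by rw [hxy', hxy2]⟩⟩
    · rw [hy, zero_mul, add_zero] at h4
      have hx0 : x ≠ 0 := by rintro rfl; rw [zero_mul] at h4; exact zero_ne_one h4
      have hy0 : y' ≠ 0 := by rintro rfl; rw [mul_zero] at h4; exact zero_ne_one h4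
      have hx' : x' = 0 := (mul_eq_zero.1 h3').resolve_right hy0
      rw [hy, zero_smul, add_zero] at hxy
      rw [hx', zero_smul, zero_add] at hxy'
      have hxy2 : y' = x := by
        have := hsq x hx0
        have h5 : x * (y' - x) = 0 := by linear_combination h4 - this
        have h6 := (mul_eq_zero.1 h5).resolve_left hx0
        linear_combination h6
      exact ⟨x, hpm x hx0, Or.inl ⟨hxy, by rw [hxy', hxy2]⟩⟩
  set a := e + f with hadef
  set b := e - f with hbdef
  have hQa : Q a = 1 := by rw [hadef, Q_add, he0, hf0, hef]; ring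
  have hQb : Q b = -1 := by
    rw [hbdef, sub_eq_add_neg, Q_add, QuadraticMap.map_neg, he0, hf0, polar_neg_right, hef]; ring
  have hab : polar Q a b = 0 := by
    rw [hadef, hbdef, polar_add_left, polar_sub_right, polar_sub_right, polar_self, polar_self, he0, hf0, hef,
      polar_comm Q f e, hef]
    simp
  have haW : a ∈ fixS X := (fixS X).add_mem heW hfW
  have hbW : b ∈ fixS X := (fixS X).sub_mem heW hfW
  have hZa : Z a = a ∨ Z a = -a := by
    obtain ⟨c, hc1, h⟩ := hpair
    have h3 : Z a = c • a := by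
      rw [hadef, map_add, smul_add]
      rcases h with ⟨h, h'⟩ | ⟨h, h'⟩ <;> rw [h, h']
      rw [add_comm]
    rcases hc1 with rfl | rfl
    · left; rw [h3, one_smul]
    · right; rw [h3, neg_smul, one_smul]
  have hZb : Z b = b ∨ Z b = -b := by
    obtain ⟨c, hc1, h⟩ := hpair
    rcases h with ⟨h, h'⟩ | ⟨h, h'⟩
    · have h3 : Z b = c • b := by rw [hbdef, map_sub, smul_sub, h, h']
      rcases hc1 with rfl | rfl
      · left; rw [h3, one_smul]
      · right; rw [h3, neg_smul, one_smul]
    · have h3 : Z b = -(c • b) := by rw [hbdef, map_sub, smul_sub, h, h', neg_sub]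
      rcases hc1 with rfl | rfl
      · right; rw [h3, one_smul]
      · left; rw [h3, neg_smul, one_smul, neg_neg]
  have hspan : ∀ v, ∃ u ∈ comS X, ∃ x y : F, v = u + (x • a + y • b) := by
    intro v
    obtain ⟨w, hw, u, hu, rfl⟩ := Submodule.mem_sup.1 (hcompl.sup_eq_top ▸ Submodule.mem_top (x := v))
    obtain ⟨x, y, rfl⟩ := hspanW w hw
    refine ⟨u, hu, (x + y) / 2, (x - y) / 2, ?_⟩
    have h3 : ((x + y) / 2) • a + ((x - y) / 2) • b = x • e + y • f := by
      rw [hadef, hbdef, smul_add, smul_sub]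
      have e1 : ((x + y) / 2) • e + ((x + y) / 2) • f + (((x - y) / 2) • e - ((x - y) / 2) • f) =
        ((x + y) / 2 + (x - y) / 2) • e + ((x + y) / 2 - (x - y) / 2) • f := by module
      rw [e1]
      congr 2
      · field_simp; ring
      · field_simp; ring
    rw [h3, add_comm]
  have hUW : ∀ w ∈ fixS X, ∀ u ∈ comS X, polar Q w u = 0 := by
    intro w hw u hu
    rw [← hperp] at hw
    rw [polar_comm]
    exact hw u hu
  have hns : ¬ IsSquare (Q a * Q b) := by rw [hQa, hQb, one_mul]; exact hm1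
  have hQa0 : Q a ≠ 0 := by rw [hQa]; exact one_ne_zero
  have hQb0 : Q b ≠ 0 := by rw [hQb]; exact neg_ne_zero.2 one_ne_zero
  have hdZ : LinearEquiv.det Z = 1 := det_eq_one hZ
  have hsZ : spin Q ⟨Z, hZO⟩ = 1 := hom_eq_one (spin Q) hZ hZO
  rcases hU with hU | hU
  · left
    exact core3 h2 hQa0 hQb0 hns (hUW a haW) (hUW b hbW) hab hspan hZO hdZ hsZ hU hZa hZb
  · right
    have hZ'O : T * T * Z ∈ O Q := (O Q).mul_mem ((O Q).mul_mem hT hT) hZO
    have hZ' : ∀ x, (T * T * Z) x = -Z x := fun x => hT2 (Z x)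
    have hdT : LinearEquiv.det (T * T * Z) = 1 := by
      rw [map_mul, map_mul, hdZ, mul_one]
      have h3 : LinearEquiv.det T * LinearEquiv.det T = LinearEquiv.det (T * T) := (map_mul _ _ _).symm
      have h4 : (LinearEquiv.det (T * T) : Fˣ) = 1 := by
        apply Units.ext
        rw [LinearEquiv.coe_det, Units.val_one]
        have h5 : ((T * T : V ≃ₗ[F] V) : V →ₗ[F] V) = (-1 : F) • LinearMap.id := by
          ext x
          change T (T x) = (-1 : F) • x
          rw [hT2, neg_smul, one_smul]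
        rw [h5, LinearMap.det_smul, hd, LinearMap.det_id, pow_mul]
        norm_num
      rw [h3, h4]
    have h6 := core3 h2 hQa0 hQb0 hns (hUW a haW) (hUW b hbW) hab hspan hZ'O hdT
      ((spin_neg hT hT2 hZO hZ'O hZ').trans hsZ)
      (fun u hu => by rw [hZ', hU u hu, neg_neg])
      (by rw [hZ']; rcases hZa with h | h
          · right; rw [h]
          · left; rw [h, neg_neg])
      (by rw [hZ']; rcases hZb with h | h
          · right; rw [h]
          · left; rw [h, neg_neg])
    intro x
    have h7 := h6 x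
    rw [hZ'] at h7
    exact neg_eq_iff_eq_neg.1 h7

/-! ### The square root of `-1` -/

/-- the partner of an index -/
def sg {n : ℕ} (hn : n % 2 = 0) (i : Fin n) : Fin n :=
  if h : (i : ℕ) % 2 = 0 then ⟨i + 1, by have := i.2; omega⟩ else ⟨i - 1, by have := i.2; omega⟩

theorem sg_sg {n : ℕ} (hn : n % 2 = 0) (i : Fin n) : sg hn (sg hn i) = i := by
  apply Fin.ext
  rcases Nat.mod_two_eq_zero_or_one (i : ℕ) with h | h
  · have h1 : ((sg hn i : Fin n) : ℕ) = i + 1 := by rw [sg, dif_pos h]
    rw [sg, dif_neg (by rw [h1]; omega)]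
    change ((sg hn i : Fin n) : ℕ) - 1 = i
    rw [h1]
    omega
  · have h1 : ((sg hn i : Fin n) : ℕ) = i - 1 := by rw [sg, dif_neg (by omega)]
    rw [sg, dif_pos (by rw [h1]; omega)]
    change ((sg hn i : Fin n) : ℕ) + 1 = i
    rw [h1]
    omega

/-- the sign -/
def sgn (F : Type u) [Field F] {n : ℕ} (i : Fin n) : F := if (i : ℕ) % 2 = 0 then 1 else -1

theorem sgn_sg {n : ℕ} (hn : n % 2 = 0) (i : Fin n) : sgn F (sg hn i) = -sgn F i := by
  rcases Nat.mod_two_eq_zero_or_one (i : ℕ) with h | h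
  · have h1 : ((sg hn i : Fin n) : ℕ) = i + 1 := by rw [sg, dif_pos h]
    rw [sgn, sgn, if_neg (by rw [h1]; omega), if_pos h]
  · have h1 : ((sg hn i : Fin n) : ℕ) = i - 1 := by rw [sg, dif_neg (by omega)]
    rw [sgn, sgn, if_pos (by rw [h1]; omega), if_neg (by omega), neg_neg]

theorem sgn_mul {n : ℕ} (i : Fin n) : sgn F i * sgn F i = 1 := by
  rw [sgn]
  split_ifs <;> ring

/-- the linear map -/
def rt (F : Type u) [Field F] {n : ℕ} (hn : n % 2 = 0) : (Fin n ⊕ Fin n → F) →ₗ[F] (Fin n ⊕ Fin n → F) where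
  toFun v s := Sum.elim (fun j => sgn F j * v (.inl (sg hn j))) (fun j => sgn F j * v (.inr (sg hn j))) s
  map_add' a b := by ext s; rcases s with s | s <;> simp [mul_add]
  map_smul' a b := by ext s; rcases s with s | s <;> simp <;> ring

theorem rt_rt {n : ℕ} (hn : n % 2 = 0) (v : Fin n ⊕ Fin n → F) : rt F hn (rt F hn v) = -v := by
  funext s
  rcases s with s | s
  · change sgn F s * (sgn F (sg hn s) * v (.inl (sg hn (sg hn s)))) = -v (.inl s)
    rw [sgn_sg, sg_sg]
    linear_combination (-v (.inl s)) * sgn_mul (F := F) s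
  · change sgn F s * (sgn F (sg hn s) * v (.inr (sg hn (sg hn s)))) = -v (.inr s)
    rw [sgn_sg, sg_sg]
    linear_combination (-v (.inr s)) * sgn_mul (F := F) s

/-- the isometry -/
def rtE (F : Type u) [Field F] [Finite F] {n : ℕ} (hn : n % 2 = 0) : (Fin n ⊕ Fin n → F) ≃ₗ[F] (Fin n ⊕ Fin n → F) :=
  LinearEquiv.ofLinearMap (rt F hn) (-rt F hn)
    (by
      apply LinearMap.ext
      intro v
      change rt F hn (-(rt F hn v)) = v
      rw [map_neg, rt_rt, neg_neg])
    (by
      apply LinearMap.ext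
      intro v
      change -(rt F hn (rt F hn v)) = v
      rw [rt_rt, neg_neg])

theorem rtE_mem {n : ℕ} (hn : n % 2 = 0) : rtE F hn ∈ O (LieClassical.OmegaReindex.quadPlus n F) := by
  intro v
  rw [LieClassical.OmegaReindex.coe_quadPlus, Cfsg.quadFormPlus, Cfsg.quadFormPlus]
  have h1 : ∀ j : Fin n, rtE F hn v (.inl j) * rtE F hn v (.inr j) = v (.inl (sg hn j)) * v (.inr (sg hn j)) := by
    intro j
    change sgn F j * v (.inl (sg hn j)) * (sgn F j * v (.inr (sg hn j))) = _
    linear_combination (v (.inl (sg hn j)) * v (.inr (sg hn j))) * sgn_mul (F := F) j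
  rw [Finset.sum_congr rfl fun j _ => h1 j]
  exact Equiv.sum_comp (Function.Involutive.toPerm (sg hn) (sg_sg hn)) (fun j => v (.inl j) * v (.inr j))

/-- **2 and `r`, `e(r,3) = n - 1`, `n` even, are not adjacent in `PΩ⁺(2n,3)`.** -/
theorem two_nonadj_even {F : Type u} [Field F] [Fintype F] (hF : Fintype.card F = 3) {n : ℕ} (hn : 4 ≤ n)
    (hev : n % 2 = 0) {r : ℕ} (hr : r.Prime) (he : orderOf (3 : ZMod r) = n - 1) :
    ¬ ∃ g : Cfsg.POmega F (Cfsg.quadFormPlus n F), orderOf g = 2 * r := by
  have hr3 : r ≠ 3 := by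
    rintro rfl
    have h : (3 : ZMod 3) = 0 := by decide
    have : Nontrivial (ZMod 3) := (ZMod.nontrivial_iff (n := 3)).2 (by norm_num)
    rw [h, orderOf_zero] at he
    omega
  have hr2 : r ≠ 2 := by
    rintro rfl
    have h : (3 : ZMod 2) = 1 := by decide
    rw [h, orderOf_one] at he
    omega
  have h2 : (2 : F) ≠ 0 := H420.QR.two_ne_zero_of_odd (by rw [hF]; decide)
  have h3 : (3 : F) = 0 := by
    have := FiniteField.cast_card_eq_zero F
    rw [hF] at this
    exact_mod_cast this
  have hm1 : ¬ IsSquare (-1 : F) := by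
    rintro ⟨c, hc⟩
    have hc0 : c ≠ 0 := by
      rintro rfl
      rw [mul_zero] at hc
      exact neg_ne_zero.2 one_ne_zero hc
    have h4 := FiniteField.pow_card_sub_one_eq_one c hc0
    rw [hF] at h4
    have h5 : c * c = 1 := by rw [← pow_two]; exact h4
    rw [← hc] at h5
    apply h2
    linear_combination -h5
  have hfr : Fact r.Prime := ⟨hr⟩
  have hFN : Nat.card F = 3 := by rw [Nat.card_eq_fintype_card, hF]
  rw [← LieClassical.OmegaReindex.coe_quadPlus]
  have hQ : (polarBilin (LieClassical.OmegaReindex.quadPlus n F)).Nondegenerate :=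
    LieClassical.OmegaReindex.quadPlus_nondegenerate
  have hι : Fintype.card (Fin n ⊕ Fin n) = 2 * n := by simp; ring
  rintro ⟨g, hg⟩
  obtain ⟨X, Z, hX, hZ, hXr, hX1, hc, hZ2, hne⟩ := ops _ hQ (by omega)
    (LieClassical.OmegaReindex.quadPlus_isotropic (by omega)) hr hr2 hg
  have hND : Nondeg (LieClassical.OmegaReindex.quadPlus n F) := fun x hx => hQ.1 x hx
  have hfin : finrank F (Fin n ⊕ Fin n → F) = 2 * n := by rw [Module.finrank_fintype_fun_eq_card, hι]
  have hr2' : 2 < r := lt_of_le_of_ne hr.two_le (Ne.symm hr2)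
  have hrF : ¬ r ∣ Nat.card F := by
    rw [hFN]
    intro h
    exact hr3 ((Nat.prime_dvd_prime_iff_eq hr Nat.prime_three).1 h)
  have he' : orderOf (Nat.card F : ZMod r) = n - 1 := by
    rw [hFN]
    exact_mod_cast he
  have hP : IsPlus (LieClassical.OmegaReindex.quadPlus n F) := by
    refine ⟨LinearMap.ker (LinearMap.funLeft F F (Sum.inl : Fin n → Fin n ⊕ Fin n)), ?_, ?_⟩
    · intro u hu
      rw [LieClassical.OmegaReindex.coe_quadPlus, Cfsg.quadFormPlus]
      refine Finset.sum_eq_zero fun i _ => ?_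
      have : u (.inl i) = 0 := congrFun (LinearMap.mem_ker.1 hu) i
      rw [this, zero_mul]
    · have h1 := LinearMap.finrank_range_add_finrank_ker (LinearMap.funLeft F F (Sum.inl : Fin n → Fin n ⊕ Fin n))
      rw [LinearMap.range_eq_top.2 (LinearMap.funLeft_surjective_of_injective _ _ _ Sum.inl_injective), finrank_top,
        Module.finrank_fintype_fun_eq_card, Module.finrank_fintype_fun_eq_card, hι, Fintype.card_fin] at h1
      rw [Module.finrank_fintype_fun_eq_card, hι]
      omega
  exact hne (no_two3 hFN h2 hm1 hND hn hev hfin hP hr2' hrF he' (rtE_mem hev) (fun x => rt_rt hev x) hX hZ hXr hX1 hc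
    hZ2)

end Cfsg.Agent.H425.TwoThree
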