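import Cfsg.Agent.H425.KPlus
import Cfsg.Agent.H425.TwoThree

/-!
# The reduction for `L = PΩ⁺_{2n}(3)`, `n ≥ 5` (helper425)

* `exists_red_of_classes` : three pairwise nonadjacent classes of `L` and an odd vertex not adjacent to `2`;
* `two_nonadj_three` : `2` is not adjacent to the primes of class `n` (`n` odd), `n - 1` (`n` even) in `PΩ⁺_{2n}(3)`;
* `exists_red_plus_three` : `Red G K S` for a group with the prime graph of `PΩ⁺_{2n}(3)`, `n ≥ 5`;
* `plus_three_K` : `K` is a `3`-group, `n ≥ 5`, for `S ≅ PΩ⁺_{2n}(3)`.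
-/

set_option autoImplicit false

namespace Cfsg.Agent.H425.Fin

open Cfsg Subgroup
open Cfsg.Agent.OrdDiv Cfsg.Agent.H436 Cfsg.Agent.H420.QR Cfsg.Agent.H425.KStep Cfsg.Agent.H425.Chr Cfsg.Agent.H425.Siegel

universe u v

theorem exists_red_of_classes {G : Type u} [Group G] [Finite G] {L : Type v} [Group L] {p : ℕ} (hL : Same L G)
    (hp : p.Prime) (hp2 : p ≠ 2) {k l m : ℕ} (hk : 3 ≤ k) (hl : 3 ≤ l) (hm : 3 ≤ m) (hkl : k ≠ l) (hkm : k ≠ m)
    (hlm : l ≠ m) (dk : DC L p k) (dl : DC L p l) (dm : DC L p m)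
    (nkl : NC L p k l) (nkm : NC L p k m) (nlm : NC L p l m)
    (h2 : ∃ r : ℕ, r.Prime ∧ r ≠ 2 ∧ r ∣ Nat.card L ∧ ¬ ∃ x : L, orderOf x = 2 * r) :
    ∃ (K : Subgroup G) (_ : K.Normal) (S : Subgroup (G ⧸ K)) (_ : S.Normal), Red G K S := by
  have hex : ∀ e, 3 ≤ e → ∃ w, Prim p e w := fun e he => exists_prim hp.two_le he (fun h => hp2 h.1)
  obtain ⟨r, hr⟩ := hex k hk
  obtain ⟨s, hs⟩ := hex l hl
  obtain ⟨t, ht⟩ := hex m hm
  have hrs : r ≠ s := by rintro rfl; exact hkl (hr.unique hs)
  have hrt : r ≠ t := by rintro rfl; exact hkm (hr.unique ht)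
  have hst : s ≠ t := by rintro rfl; exact hlm (hs.unique ht)
  have h1 := nkl r s hr hs
  have h3 := nkm r t hr ht
  have h4 := nlm s t hs ht
  have hcoq : IsCoq L {r, s, t} := by
    refine ⟨?_, ?_, ?_⟩
    · intro w hw
      simp only [Finset.mem_insert, Finset.mem_singleton] at hw
      rcases hw with rfl | rfl | rfl
      · exact hr.prime
      · exact hs.prime
      · exact ht.prime
    · intro w hw
      simp only [Finset.mem_insert, Finset.mem_singleton] at hw
      rcases hw with rfl | rfl | rfl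
      · exact dk _ hr
      · exact dl _ hs
      · exact dm _ ht
    · intro w hw w' hw' hww hx
      simp only [Finset.mem_insert, Finset.mem_singleton] at hw hw'
      rcases hw with rfl | rfl | rfl <;> rcases hw' with rfl | rfl | rfl
      · exact hww rfl
      · exact h1 hx
      · exact h3 hx
      · exact h1 (by rwa [mul_comm] at hx)
      · exact hww rfl
      · exact h4 hx
      · exact h3 (by rwa [mul_comm] at hx)
      · exact h4 (by rwa [mul_comm] at hx)
      · exact hww rfl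
  have h3' : 3 ≤ ({r, s, t} : Finset ℕ).card := by
    rw [Finset.card_insert_of_notMem (by simp [hrs, hrt]), Finset.card_insert_of_notMem (by simp [hst]),
      Finset.card_singleton]
  obtain ⟨K, hK, S, hS, hR, -⟩ := exists_red_of_same hL hcoq h3' h2
  exact ⟨K, hK, S, hS, hR⟩

/-- the parameter of the class not adjacent to `2` in `PΩ⁺_{2n}(3)` -/
theorem two_nonadj_three {F : Type*} [Field F] [Fintype F] (hF : Fintype.card F = 3) {n : ℕ} (hn : 4 ≤ n) {k r : ℕ}
    (hk : (n % 2 = 1 ∧ k = n) ∨ (n % 2 = 0 ∧ k = n - 1)) (hr : Prim 3 k r) :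
    ¬ ∃ x : POmega F (quadFormPlus n F), orderOf x = 2 * r := by
  have ho := prim_orderOf (by norm_num) hr
  have ho' : orderOf (3 : ZMod r) = k := by exact_mod_cast ho
  rcases hk with ⟨hpar, rfl⟩ | ⟨hpar, rfl⟩
  · exact two_nonadj hF (Nat.odd_iff.2 hpar) (by omega) hr.prime ho'
  · exact TwoThree.two_nonadj_even hF hn hpar hr.prime ho'

/-- **The reduction for `PΩ⁺_{2n}(3)`, `n ≥ 5`.** -/
theorem exists_red_plus_three {G : Type u} [Group G] [Finite G] {F : Type v} [Field F] [Fintype F]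
    (hF : Fintype.card F = 3) {n : ℕ} (hn : 5 ≤ n) (hL : Same (POmega F (quadFormPlus n F)) G) :
    ∃ (K : Subgroup G) (_ : K.Normal) (S : Subgroup (G ⧸ K)) (_ : S.Normal), Red G K S := by
  have key : ∀ k l m, PT n k l m →
      (∀ r, Prim 3 k r → ¬ ∃ x : POmega F (quadFormPlus n F), orderOf x = 2 * r) →
      ∃ (K : Subgroup G) (_ : K.Normal) (S : Subgroup (G ⧸ K)) (_ : S.Normal), Red G K S := by
    intro k l m h h2
    obtain ⟨r, hr⟩ := exists_prim (q := 3) (e := k) (by norm_num) h.k3 (fun h => absurd h.1 (by norm_num))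
    have hr2 : r ≠ 2 := by
      have := h.k3
      have := hr.odd (by omega)
      omega
    exact exists_red_of_classes hL Nat.prime_three (by norm_num) h.k3 h.l3 h.m3 h.kl.data.2.2.2.1 h.km.data.2.2.2.1
      h.lm.data.2.2.2.1
      (plus_D Nat.prime_three hF (by omega) h.k3 h.kn) (plus_D Nat.prime_three hF (by omega) h.l3 h.ln)
      (plus_D Nat.prime_three hF (by omega) h.m3 h.mn)
      (plus_N Nat.prime_three (by norm_num) hF (by omega) h.kl) (plus_N Nat.prime_three (by norm_num) hF (by omega) h.km)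
      (plus_N Nat.prime_three (by norm_num) hF (by omega) h.lm)
      ⟨r, hr.prime, hr2, plus_D Nat.prime_three hF (by omega) h.k3 h.kn r hr, h2 r hr⟩
  rcases Nat.mod_two_eq_zero_or_one n with hpar | hpar
  · refine key (n - 1) (2 * (n - 1)) (2 * (n - 2)) ?_ fun r hr => two_nonadj_three hF (by omega) (Or.inr ⟨hpar, rfl⟩) hr
    constructor <;> (try unfold Far IsEta) <;> (try intro x y hx hy) <;> omega
  · refine key n (2 * (n - 1)) (n - 2) ?_ fun r hr => two_nonadj_three hF (by omega) (Or.inl ⟨hpar, rfl⟩) hr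
    constructor <;> (try unfold Far IsEta) <;> (try intro x y hx hy) <;> omega

variable {G : Type u} [Group G] [Finite G] {K : Subgroup G} [K.Normal] {S : Subgroup (G ⧸ K)} [S.Normal]

/-- **`D_n(3)`, `n ≥ 5`: `K` is a `3`-group.** -/
theorem plus_three_K {F : Type*} [Field F] [Fintype F] (hF : Fintype.card F = 3) {n : ℕ} (hn : 5 ≤ n)
    (R : Red G K S) (hL : Same (POmega F (quadFormPlus n F)) G) (hg : IsNamed (.oplus n 3) S) : IsPGroup 3 K := by
  rcases Nat.mod_two_eq_zero_or_one n with hpar | hpar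
  · exact plus_three_even_K hF (by omega) hpar R hL hg fun r hr =>
      two_nonadj_three hF (by omega) (Or.inr ⟨hpar, rfl⟩) hr
  · exact plus_three_odd_K hF hn hpar R hL hg

end Cfsg.Agent.H425.Fin
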